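import Cfsg.Agent.Lib.Golay.SRG77Unique

/-!
The automorphism group of the graph `(77, 16, 0, 4)` has order at most 887040.
-/

set_option autoImplicit false
set_option linter.unusedSectionVars false

namespace CfsgLib.ClassK.M22Nse

open CfsgLib.Golay.SRG77

/-- Coordinates on a neighbourhood. -/
abbrev W4 : Type := Fin 4 → ZMod 2

/-- The symplectic form. -/
def sb (u v : W4) : ZMod 2 := u 0 * v 1 + u 1 * v 0 + u 2 * v 3 + u 3 * v 2

theorem sb_add_left (u u' v : W4) : sb (u + u') v = sb u v + sb u' v := by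
  simp only [sb, Pi.add_apply]; ring

theorem sb_comm (u v : W4) : sb u v = sb v u := by
  simp only [sb]; ring

/-- The unit vectors. -/
def eb (i : Fin 4) : W4 := Pi.single i 1

theorem sb_eb : (sb (eb 0) (eb 1) = 1 ∧ sb (eb 2) (eb 3) = 1) ∧ (sb (eb 0) (eb 2) = 0 ∧
    sb (eb 0) (eb 3) = 0 ∧ sb (eb 1) (eb 2) = 0 ∧ sb (eb 1) (eb 3) = 0) := by
  decide +kernel

theorem eq_zero_of_sb : ∀ z : W4, (∀ i, sb z (eb i) = 0) → z = 0 := by decide +kernel

/-- All vectors. -/
def allW : List W4 :=
  [0, 1].flatMap fun a => [0, 1].flatMap fun b => [0, 1].flatMap fun c => [0, 1].map fun d => ![a, b, c, d]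

theorem mem_allW : ∀ u : W4, u ∈ allW := by decide +kernel

/-- The symplectic bases. -/
def bases : List (W4 × W4 × W4 × W4) :=
  allW.flatMap fun a => (allW.filter fun b => sb a b == 1).flatMap fun b =>
    (allW.filter fun c => (sb a c == 0) && (sb b c == 0)).flatMap fun c =>
      (allW.filter fun e => (sb a e == 0) && (sb b e == 0) && (sb c e == 1)).map fun e => (a, b, c, e)

theorem length_bases : bases.length = 720 := by decide +kernel

variable {V : Type*} [Fintype V] [DecidableEq V] {G : SimpleGraph V} [DecidableRel G.Adj]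

theorem far_map (f : G ≃g G) {x b : V} : Far G (f x) (f b) ↔ Far G x b := by
  unfold Far
  rw [f.injective.ne_iff, f.map_adj_iff]

theorem blk_map (f : G ≃g G) (x b : V) : blk G (f x) (f b) = (blk G x b).map f.toEquiv.toEmbedding := by
  ext p
  obtain ⟨q, rfl⟩ := f.surjective p
  rw [mem_blk, f.map_adj_iff, f.map_adj_iff, Finset.mem_map_equiv, mem_blk,
    show f.toEquiv.symm (f q) = q from f.toEquiv.symm_apply_apply q]

theorem mem_blk_map (f : G ≃g G) {x b p : V} : f p ∈ blk G (f x) (f b) ↔ p ∈ blk G x b := by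
  rw [mem_blk, mem_blk, f.map_adj_iff, f.map_adj_iff]

theorem kap_map (f : G ≃g G) (x b c : V) : kap G (f x) (f b) (f c) = kap G x b c := by
  simp only [kap, ad, f.injective.eq_iff, f.map_adj_iff]
  rw [blk_map, blk_map, ← Finset.map_inter, Finset.card_map]

theorem sd_map (hG : G.IsSRGWith 77 16 0 4) (f : G ≃g G) {x s t a c : V} :
    Sd G (f x) (f s) (f t) (f a) (f c) ↔ Sd G x s t a c := by
  constructor
  · rintro ⟨d', e', hd, he, hrow, h1, h2, h3, h4⟩
    obtain ⟨d, rfl⟩ := f.surjective d'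
    obtain ⟨e, rfl⟩ := f.surjective e'
    refine ⟨d, e, (far_map f).1 hd, (far_map f).1 he, ?_, (mem_blk_map f).1 h1, (mem_blk_map f).1 h2,
      (mem_blk_map f).1 h3, (mem_blk_map f).1 h4⟩
    rw [row_eq_iff hG ((far_map f).1 hd) ((far_map f).1 he), ← kap_map f]
    exact (row_eq_iff hG hd he).1 hrow
  · rintro ⟨d, e, hd, he, hrow, h1, h2, h3, h4⟩
    refine ⟨f d, f e, (far_map f).2 hd, (far_map f).2 he, ?_, (mem_blk_map f).2 h1, (mem_blk_map f).2 h2,
      (mem_blk_map f).2 h3, (mem_blk_map f).2 h4⟩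
    rw [row_eq_iff hG ((far_map f).2 hd) ((far_map f).2 he), kap_map f]
    exact (row_eq_iff hG hd he).1 hrow

/-- An automorphism is determined by its action on a vertex and its neighbours. -/
theorem aut_ext (hG : G.IsSRGWith 77 16 0 4) (f f' : G ≃g G) {x : V} (hx : f x = f' x)
    (hn : ∀ p, G.Adj x p → f p = f' p) : f = f' := by
  refine RelIso.ext fun v => ?_
  rcases eq_or_ne v x with rfl | hvx
  · exact hx
  by_cases hv : G.Adj x v
  · exact hn v hv
  have hb : Far G x v := ⟨hvx, hv⟩
  refine blk_inj hG (x := f x) ((far_map f).2 hb) (hx ▸ (far_map f').2 hb) ?_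
  conv_rhs => rw [hx]
  ext p
  obtain ⟨q, rfl⟩ := f.surjective p
  by_cases hq : G.Adj x q
  · rw [mem_blk_map, hn q hq, mem_blk_map]
  · constructor
    · exact fun h => absurd (f.map_adj_iff.1 (mem_blk.1 h).1) hq
    · intro h
      obtain ⟨q', hq'⟩ := f'.surjective (f q)
      rw [← hq', mem_blk_map] at h
      have h' := hn q' (mem_blk.1 h).1
      rw [hq'] at h'
      exact absurd (f.injective h' ▸ (mem_blk.1 h).1) hq

/-- The order of the automorphism group is at most 887040. -/
theorem card_aut_le (hG : G.IsSRGWith 77 16 0 4) : Nat.card (G ≃g G) ≤ 887040 := by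
  classical
  obtain ⟨x⟩ : Nonempty V := Fintype.card_pos_iff.1 (by rw [hG.card]; norm_num)
  have hco := fun y => exists_coords hG (x := y)
  choose ψ hinj hsurj hsep using hco
  choose Q hQN hQ using hsurj
  -- the action on coordinates
  let g : (G ≃g G) → W4 → W4 := fun f u => ψ (f x) (f (Q x u))
  let h : (G ≃g G) → W4 → W4 := fun f u => g f u + g f 0
  have hN : ∀ (f : G ≃g G) u, G.Adj (f x) (f (Q x u)) := fun f u => f.map_adj_iff.2 (hQN x u)
  have ginj : ∀ f, Function.Injective (g f) := fun f u v e => by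
    have := f.injective (hinj (f x) _ _ (hN f u) (hN f v) e)
    rw [← hQ x u, this, hQ x v]
  have hsb : ∀ f u v, sb (h f u) (h f v) = sb u v := by
    intro f u v
    have e1 := hsep (f x) _ _ _ _ (hN f u) (hN f 0) (hN f v) (hN f 0)
    have e2 := hsep x _ _ _ _ (hQN x u) (hQN x 0) (hQN x v) (hQN x 0)
    have e3 : sep G (f x) (f (Q x u)) (f (Q x 0)) (f (Q x v)) (f (Q x 0)) =
        sep G x (Q x u) (Q x 0) (Q x v) (Q x 0) := by
      simp only [sep, sd_map hG f]
    rw [e1, e2, hQ, hQ, hQ, add_zero, add_zero] at e3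
    exact e3
  have hbij : ∀ f, Function.Surjective (h f) := fun f =>
    Finite.surjective_of_injective fun u v e => ginj f (add_right_cancel e)
  have hmem : ∀ f, (h f (eb 0), h f (eb 1), h f (eb 2), h f (eb 3)) ∈ bases.toFinset := by
    intro f
    obtain ⟨⟨a1, a2⟩, b1, b2, b3, b4⟩ := sb_eb
    simp only [List.mem_toFinset, bases, List.mem_flatMap, List.mem_filter, List.mem_map,
      Bool.and_eq_true, beq_iff_eq]
    exact ⟨_, mem_allW _, _, ⟨mem_allW _, by rw [hsb, a1]⟩, _,
      ⟨mem_allW _, by rw [hsb, b1], by rw [hsb, b3]⟩, _,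
      ⟨mem_allW _, ⟨by rw [hsb, b2], by rw [hsb, b4]⟩, by rw [hsb, a2]⟩, rfl⟩
  let Φ : (G ≃g G) → V × W4 × {q // q ∈ bases.toFinset} := fun f =>
    (f x, g f 0, ⟨_, hmem f⟩)
  have hΦ : Function.Injective Φ := by
    intro f f' e
    simp only [Φ, Prod.mk.injEq, Subtype.mk.injEq] at e
    obtain ⟨ex, e0, q0, q1, q2, q3⟩ := e
    have hi : ∀ i : Fin 4, h f (eb i) = h f' (eb i) := by
      intro i; fin_cases i <;> assumption
    have hh : ∀ u, h f u = h f' u := by
      intro u
      obtain ⟨z, hz⟩ := hbij f (h f u + h f' u)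
      have hzero : z = 0 := eq_zero_of_sb z fun i => by
        rw [← hsb f z, hz, sb_add_left, hsb f, hi i, hsb f', CharTwo.add_self_eq_zero]
      rw [hzero, show h f 0 = 0 from funext fun i => CharTwo.add_self_eq_zero (g f 0 i)] at hz
      exact funext fun i => CharTwo.add_eq_zero.1 (congrFun hz.symm i)
    refine aut_ext hG f f' ex fun p hp => ?_
    have hp' : Q x (ψ x p) = p := hinj x _ _ (hQN x _) hp (hQ x _)
    have hg : g f (ψ x p) = g f' (ψ x p) := by
      have := hh (ψ x p)
      simp only [h, e0] at this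
      exact add_right_cancel this
    have hg' : ψ (f x) (f p) = ψ (f' x) (f' p) := by simpa only [g, hp'] using hg
    rw [← ex] at hg'
    exact hinj (f x) _ _ (f.map_adj_iff.2 hp) (ex ▸ f'.map_adj_iff.2 hp) hg'
  refine (Nat.card_le_card_of_injective Φ hΦ).trans ?_
  rw [Nat.card_prod, Nat.card_prod, Nat.card_eq_fintype_card, hG.card]
  have h1 : Nat.card W4 = 16 := by simp [Nat.card_eq_fintype_card]
  have h2 : Nat.card {q // q ∈ bases.toFinset} ≤ 720 := by
    rw [Nat.card_eq_fintype_card, Fintype.card_coe, ← length_bases]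
    exact List.toFinset_card_le _
  rw [h1]
  omega

end CfsgLib.ClassK.M22Nse
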