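import Cfsg.Agent.Lib.ClassK.M22Nse.Cover

/-!
The normalizer, of order 5760, of an elementary abelian subgroup of order sixteen.
-/

set_option autoImplicit false
set_option linter.unusedSectionVars false

namespace CfsgLib.ClassK.M22Nse

open Subgroup CfsgLib.StructB.OrderCount

universe u

variable {G : Type u} [Group G] [Finite G]

theorem no_five_in_cent (h : Hyp G) {g q : G} (hg : orderOf g = 5) (hq : q * g = g * q) :
    orderOf q ∣ 5 :=
  cent_five h hg ▸ Subgroup.orderOf_dvd_natCard _ (mem_centralizer_singleton_iff.2 hq)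

/-- A group of this kind with a normal subgroup in which five does not divide but three does. -/
theorem no_five_over_three (h : Hyp G) {H : Subgroup G} (K : Subgroup H) [K.Normal]
    (h3 : 3 ∣ Nat.card K) (h5 : ¬ 5 ∣ Nat.card K) (h5H : 5 ∣ Nat.card H) : False := by
  have : Fact (Nat.Prime 3) := ⟨Nat.prime_three⟩
  have : Fact (Nat.Prime 5) := ⟨by norm_num⟩
  obtain ⟨Q⟩ : Nonempty (Sylow 3 K) := inferInstance
  set N := normalizer (((Q : Subgroup K).map K.subtype : Subgroup H) : Set H) with hN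
  have hsup : N ⊔ K = ⊤ := Sylow.normalizer_sup_eq_top Q
  have h5N : 5 ∣ Nat.card N := by
    let f : N →* H ⧸ K := (QuotientGroup.mk' K).comp N.subtype
    have hf : Function.Surjective f := by
      intro z
      obtain ⟨g, rfl⟩ := QuotientGroup.mk'_surjective K z
      obtain ⟨n, hn, k, hk, e⟩ := mem_sup_of_normal_right.1 (show g ∈ N ⊔ K from hsup ▸ mem_top g)
      refine ⟨⟨n, hn⟩, ?_⟩
      rw [← e]
      show (n : H ⧸ K) = ((n * k : H) : H ⧸ K)
      rw [QuotientGroup.mk_mul, (QuotientGroup.eq_one_iff k).2 hk, mul_one]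
    have hdvd := card_dvd_of_surjective f hf
    have hmul := K.card_mul_index
    rw [← hmul] at h5H
    exact (((Nat.Prime.dvd_mul (by norm_num)).1 h5H).resolve_left h5).trans hdvd
  obtain ⟨⟨g, hgN⟩, hg⟩ := exists_prime_orderOf_dvd_card' (G := N) 5 h5N
  rw [Subgroup.orderOf_mk] at hg
  have hgG : orderOf (g : G) = 5 := by rw [Subgroup.orderOf_coe]; exact hg
  set Q' : Subgroup G := ((Q : Subgroup K).map K.subtype).map H.subtype with hQ'
  have hgQ : (g : G) ∈ normalizer (Q' : Set G) := by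
    refine mem_normalizer_of_conj ?_
    rintro s ⟨s', hs', rfl⟩
    exact ⟨g * s' * g⁻¹, ((mem_normalizer_iff.1 hgN) s').1 hs', rfl⟩
  have hQc : Nat.card Q' = Nat.card (Q : Subgroup K) := by
    rw [hQ', card_map_of_injective H.subtype_injective, card_map_of_injective K.subtype_injective]
  obtain ⟨j, hj⟩ := IsPGroup.iff_card.1 Q.2
  have hj3 : 3 ∣ Nat.card (Q : Subgroup K) := Q.dvd_card_of_dvd_card h3
  have hQd : Nat.card Q' ∣ 443520 := by
    have := Q'.card_subgroup_dvd_card
    rwa [h.card] at this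
  have hj2 : j ≤ 2 := by
    by_contra hgt
    rw [hQc, hj] at hQd
    exact absurd ((pow_dvd_pow 3 (show 3 ≤ j by omega)).trans hQd) (by norm_num)
  have hj0 : j ≠ 0 := fun e => by rw [hj, e] at hj3; norm_num at hj3
  set S : Set G := (Q' : Set G) \ {1} with hS
  have hSc : S.ncard = 2 ∨ S.ncard = 8 := by
    rw [hS, Set.ncard_diff_singleton_of_mem (one_mem _), ← Nat.card_coe_set_eq]
    show Nat.card Q' - 1 = 2 ∨ Nat.card Q' - 1 = 8
    rw [hQc, hj]
    rcases j with _ | _ | _ | j
    · exact absurd rfl hj0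
    · norm_num
    · norm_num
    · omega
  have hmod := M12Nse.ncard_modEq_fixed (p := 5) (K := zpowers (g : G))
    (IsPGroup.of_card (n := 1) (by rw [Nat.card_zpowers, hgG, pow_one])) S (fun k hk s hs => by
      refine ⟨conj_mem_of_le_normalizer (zpowers_le.2 hgQ) hk hs.1, fun e => hs.2 ?_⟩
      exact conj_eq_one_iff.1 e)
  set F := {s | s ∈ S ∧ ∀ k ∈ zpowers (g : G), k * s = s * k}
  have hF : F = ∅ := Set.eq_empty_of_forall_notMem fun q hq => hq.1.2 (by
    have hd := no_five_in_cent h hgG (hq.2 _ (mem_zpowers _)).symm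
    have hd2 : orderOf q ∣ 3 ^ j := by
      have := Subgroup.orderOf_dvd_natCard _ hq.1.1
      rwa [hQc, hj] at this
    exact orderOf_eq_one_iff.1 (Nat.eq_one_of_dvd_coprimes
      (Nat.Coprime.pow_left j (by norm_num : Nat.Coprime 3 5)) hd2 hd))
  rw [hF, Set.ncard_empty] at hmod
  rcases hSc with e | e <;> rw [e] at hmod <;> exact absurd hmod (by decide)

namespace Cfg

variable (c : Cfg G)

/-- The conjugates of `t` under a subgroup. -/
def orb (H : Subgroup G) : Set G := {s | ∃ g ∈ H, g * c.t * g⁻¹ = s}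

theorem ncard_orb_mul {H : Subgroup G} (hH : c.L ≤ H) : (c.orb H).ncard * 384 = Nat.card H := by
  have htH : c.t ∈ H := hH (c.mem_L.2 rfl)
  have h1 := M12Nse.ncard_cl_mul (⟨c.t, htH⟩ : H)
  have h2 : (M12Nse.cl (⟨c.t, htH⟩ : H)).ncard = (c.orb H).ncard := by
    rw [← Set.ncard_image_of_injective _ Subtype.val_injective]
    congr 1
    ext s
    constructor
    · rintro ⟨z, hz, rfl⟩
      obtain ⟨g, hg⟩ := isConj_iff.1 (show IsConj _ z from hz)
      exact ⟨g, g.2, congrArg Subtype.val hg⟩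
    · rintro ⟨g, hg, rfl⟩
      exact ⟨⟨g, hg⟩ * ⟨c.t, htH⟩ * ⟨g, hg⟩⁻¹,
        M12Nse.conj_mem_cl _ (M12Nse.mem_cl_self _), rfl⟩
  have h3 : Nat.card (centralizer ({(⟨c.t, htH⟩ : H)} : Set H)) = Nat.card c.L := by
    refine Nat.card_congr
      ⟨fun z => ⟨((z : H) : G), c.mem_L.2 (congrArg Subtype.val (mem_centralizer_singleton_iff.1 z.2))⟩,
       fun z => ⟨⟨z, hH z.2⟩, mem_centralizer_singleton_iff.2 (Subtype.ext (c.mem_L.1 z.2))⟩,
       fun _ => rfl, fun _ => rfl⟩
  rwa [h2, h3, c.card_L] at h1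

theorem invC_subset_orb {H : Subgroup G} (hP : (c.P : Subgroup G) ≤ H) : invC c.x ⊆ c.orb H := by
  intro s hs
  rw [c.invC_eq] at hs
  rcases hs with rfl | rfl | rfl
  · exact ⟨1, one_mem _, by group⟩
  · exact ⟨c.y, hP c.hyP, rfl⟩
  · exact ⟨c.y⁻¹, inv_mem (hP c.hyP), by rw [inv_inv]; rfl⟩

theorem conj_orb {H : Subgroup G} {g s : G} (hg : g ∈ H) (hs : s ∈ c.orb H) :
    g * s * g⁻¹ ∈ c.orb H := by
  obtain ⟨a, ha, rfl⟩ := hs
  exact ⟨g * a, mul_mem hg ha, by group⟩

/-- An overgroup of index three over `C(t)` normalises the four-group. -/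
theorem norm_vSub_of_card {H : Subgroup G} (hL : c.L ≤ H) (hP : (c.P : Subgroup G) ≤ H)
    (hH : Nat.card H = 1152) : H ≤ normalizer (vSub c.h c.hx : Set G) := by
  have h3 : (c.orb H).ncard = 3 := by have := c.ncard_orb_mul hL; omega
  have heq : invC c.x = c.orb H := Set.eq_of_subset_of_ncard_le (c.invC_subset_orb hP)
    (by rw [h3, ncard_invC c.h c.hx]) (Set.toFinite _)
  intro g hg
  refine mem_normalizer_of_conj ?_
  rintro s (rfl | hs)
  · rw [mul_one, mul_inv_cancel]; exact one_mem _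
  · exact Or.inr (heq ▸ c.conj_orb hg (heq ▸ hs))

section

variable {a : G} {ha3 : orderOf a = 3} (haP : a ∈ (c.P : Subgroup G)) (hax : a ∉ zpowers c.x)
  (hle : vSub c.h ha3 ≤ c.A)

theorem t_mem_E : c.t ∈ c.E hle := left_le_mulSub (show c.t ∈ vSub c.h c.hx from Or.inr c.t_mem)

theorem orb_subset {H : Subgroup G} (hH : H ≤ normalizer (c.E hle : Set G)) :
    c.orb H ⊆ (c.E hle : Set G) \ {1} := by
  rintro s ⟨g, hg, rfl⟩
  exact ⟨conj_mem_of_le_normalizer hH hg (c.t_mem_E hle),
    fun e => CfsgLib.Invol.invol_ne_one c.ht (conj_eq_one_iff.1 e)⟩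

include haP hax in
theorem ncard_E_diff : ((c.E hle : Set G) \ {1}).ncard = 15 := by
  rw [Set.ncard_diff_singleton_of_mem (one_mem _), ← Nat.card_coe_set_eq]
  show Nat.card (c.E hle) - 1 = 15
  rw [c.card_E haP hax hle]

include haP hax in
theorem cent_E_le_A : centralizer (c.E hle : Set G) ≤ c.A := by
  intro g hg
  have hcomm : ∀ z ∈ centralizer (c.E hle : Set G), ∀ s ∈ c.E hle, z * s = s * z :=
    fun z hz s hs => (mem_centralizer_iff.1 hz s hs).symm
  have he : c.e ∈ c.E hle := left_le_mulSub (show c.e ∈ vSub c.h c.hx from Or.inr c.e_mem)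
  have hle' : centralizer (c.E hle : Set G) ≤ c.L := fun z hz =>
    c.mem_L.2 (hcomm z hz _ (c.t_mem_E hle))
  have h3 : ¬ 3 ∣ Nat.card (centralizer (c.E hle : Set G)) := by
    intro hd
    have : Fact (Nat.Prime 3) := ⟨Nat.prime_three⟩
    obtain ⟨⟨z, hz⟩, hzo⟩ := exists_prime_orderOf_dvd_card' (G := centralizer (c.E hle : Set G)) 3 hd
    rw [Subgroup.orderOf_mk] at hzo
    have hsub : (c.E hle : Set G) \ {1} ⊆ invC z := fun s hs =>
      ⟨orderOf_eq_prime (by rw [pow_two]; exact c.E_mul_self hle hs.1) hs.2, hcomm z hz s hs.1⟩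
    have := Set.ncard_le_ncard hsub (Set.toFinite _)
    rw [c.ncard_E_diff haP hax hle, ncard_invC c.h hzo] at this
    omega
  have hd : Nat.card (centralizer (c.E hle : Set G)) ∣ 2 ^ 7 := by
    have := card_dvd_of_le hle'
    rw [c.card_L, show 384 = 2 ^ 7 * 3 by norm_num] at this
    exact ((Nat.prime_three.coprime_iff_not_dvd.2 h3).symm).dvd_of_dvd_mul_right this
  exact c.mem_A_of_two_pow (hcomm g hg _ (c.t_mem_E hle)) (hcomm g hg _ he)
    ((Subgroup.orderOf_dvd_natCard _ hg).trans hd)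

include haP hax in
theorem card_H_cases : Nat.card (normalizer (c.E hle : Set G)) = 1152 ∨
    Nat.card (normalizer (c.E hle : Set G)) = 5760 := by
  set H := normalizer (c.E hle : Set G) with hH
  have hL := c.L_norm_E haP hax hle
  have h1 := c.ncard_orb_mul hL
  have hk : (c.orb H).ncard ≤ 15 := c.ncard_E_diff haP hax hle ▸
    Set.ncard_le_ncard (c.orb_subset hle le_rfl) (Set.toFinite _)
  have hd : (c.orb H).ncard * 384 ∣ 443520 := by
    rw [h1, ← c.h.card]; exact card_subgroup_dvd_card _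
  have h9 : 9 ∣ (c.orb H).ncard * 384 := by
    rw [h1]
    exact (show (9 : ℕ) = Nat.card (c.P : Subgroup G) from (card_sylow_three c.h c.P).symm) ▸
      card_dvd_of_le (c.P_norm_E haP hle)
  have : ∀ k ≤ 15, k * 384 ∣ 443520 → 9 ∣ k * 384 → k = 3 ∨ k = 15 := by decide
  rcases this _ hk hd h9 with e | e <;> rw [e] at h1
  · exact Or.inl (h1.symm.trans (by norm_num))
  · exact Or.inr (h1.symm.trans (by norm_num))

end

theorem not_normal_three_of_sixteen {a : G} {ha3 : orderOf a = 3} (haP : a ∈ (c.P : Subgroup G))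
    (hax : a ∉ zpowers c.x) (hle : vSub c.h ha3 ≤ c.A) (h16 : Nat.card c.A = 16) :
    Nat.card (normalizer (c.E hle : Set G)) ≠ 1152 := by
  intro hH
  have hn := c.norm_vSub_of_card (c.L_norm_E haP hax hle) (c.P_norm_E haP hle) hH
  have hAR : c.A = c.R := le_antisymm inf_le_left fun r hr => by
    refine c.mem_A.2 ⟨hr, ?_⟩
    have hev : c.e ∈ vSub c.h c.hx := Or.inr c.e_mem
    have h1 := conj_mem_of_le_normalizer hn (c.L_norm_E haP hax hle (c.R_le hr)) hev
    rcases h1 with e | e
    · exact absurd (conj_eq_one_iff.1 e) (CfsgLib.Invol.invol_ne_one c.e_mem.1)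
    rw [c.invC_eq] at e
    rcases e with e | e | e
    · refine absurd ?_ c.e_ne_t
      calc c.e = r⁻¹ * (r * c.e * r⁻¹) * r := by group
        _ = c.t := by rw [e, mul_assoc, ← c.commute_t hr, inv_mul_cancel_left]
    · exact mul_inv_eq_iff_eq_mul.1 e
    · exact absurd e (c.conj_ne_f hr)
  rw [hAR, c.card_R] at h16
  norm_num at h16

theorem exists_fix_w {a : G} (haP : a ∈ (c.P : Subgroup G)) (ha3 : orderOf a = 3) :
    ∃ s ∈ invC a, c.w * s = s * c.w := by
  have : Fact (Nat.Prime 2) := ⟨Nat.prime_two⟩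
  by_contra hall
  simp only [not_exists, not_and] at hall
  have hmod := M12Nse.ncard_modEq_fixed (p := 2) (K := zpowers c.w)
    (IsPGroup.of_card (n := 1) (by rw [Nat.card_zpowers, c.hw, pow_one])) (invC a) (fun k hk s hs => by
      obtain ⟨j, rfl⟩ := mem_powers_iff_mem_zpowers.2 hk
      show c.w ^ j * s * (c.w ^ j)⁻¹ ∈ invC a
      rw [← pow_mod_orderOf, c.hw]
      rcases Nat.mod_two_eq_zero_or_one j with e | e <;> rw [e]
      · simpa using hs
      · rw [pow_one]
        refine (c.conj_vSub_w haP ha3 (Or.inr hs)).resolve_left fun e' => ?_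
        exact CfsgLib.Invol.invol_ne_one hs.1 (conj_eq_one_iff.1 e'))
  rw [ncard_invC c.h ha3] at hmod
  have hempty : {s | s ∈ invC a ∧ ∀ k ∈ zpowers c.w, k * s = s * k} = (∅ : Set G) :=
    Set.eq_empty_of_forall_notMem fun s hs => hall s hs.1 (hs.2 _ (mem_zpowers _))
  rw [hempty, Set.ncard_empty] at hmod
  exact absurd hmod (by decide)

theorem eight_exists : ∃ g : G, orderOf g = 8 ∧ g ∈ c.L := by
  obtain ⟨⟨g, hg⟩⟩ := (Nat.card_ne_zero.1 (table c.h).2.2.1).1
  have h2 : orderOf (g ^ 4) = 2 := by rw [orderOf_pow, hg]; norm_num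
  obtain ⟨k, hk⟩ := isConj_iff.1 (isConj_two c.h h2 c.ht)
  refine ⟨k * g * k⁻¹, by rw [CfsgLib.Invol.orderOf_conj_eq, hg], c.mem_L.2 ?_⟩
  rw [← hk]
  calc k * g * k⁻¹ * (k * g ^ 4 * k⁻¹) = k * (g * g ^ 4) * k⁻¹ := by group
    _ = k * (g ^ 4 * g) * k⁻¹ := by rw [← pow_succ, ← pow_succ']
    _ = k * g ^ 4 * k⁻¹ * (k * g * k⁻¹) := by group

theorem card_A_eq : Nat.card c.A = 16 := by
  refine c.card_A_cases.resolve_right fun h64 => ?_
  obtain ⟨a, b, ha3, hb3, haP, hax, hbP, haR, haV, hsur, -⟩ := c.decomp h64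
  have hAR : c.A = c.R := eq_of_le_of_card_ge inf_le_left (by rw [h64, c.card_R])
  have hRA : ∀ {r : G}, r ∈ c.R → r ∈ c.A := fun hr => hAR ▸ hr
  have hle : vSub c.h ha3 ≤ c.A := fun u hu => hRA (haR hu)
  have hLH := c.L_norm_E haP hax hle
  have hPH := c.P_norm_E haP hle
  set H := normalizer (c.E hle : Set G) with hH
  have hVn : c.L ≤ normalizer (vSub c.h c.hx : Set G) :=
    c.L_le_of (fun r hr => mem_normalizer_of_conj fun v hv => by
        rw [c.commute_A (hRA hr) hv, mul_inv_cancel_right]; exact hv)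
      (mem_normalizer_of_conj fun v hv => c.conj_vSub_P c.hxP c.hxP c.hx hv)
      (mem_normalizer_of_conj fun v hv => c.conj_vSub_w c.hxP c.hx hv)
  rcases c.card_H_cases haP hax hle with h3 | h15
  · -- the partner involution has the same centralizer shape
    obtain ⟨v, hv, hwv⟩ := c.exists_fix_w haP ha3
    have hxa : c.x ∉ zpowers a := fun h' => hax (c.mem_zpowers_symm haP c.hxP (ne_one_of_x c.hx) h')
    let c' : Cfg G := ⟨c.h, v, a, c.x, c.w, c.P, hv.1, ha3, hv.2, haP, c.hxP, hxa, c.hw, c.hinv, hwv⟩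
    have hax' : c.x ∉ zpowers c'.x := hxa
    have hle' : vSub c'.h c.hx ≤ c'.A := fun u hu => by
      have huA : u ∈ c.A := c.vSub_le_A hu
      refine c'.mem_A_of_two_pow ?_ ?_ (k := 6) (c.two_pow_of_mem_R (c.mem_A.1 huA).1)
      · exact (c.commute_of_le_A hle u hu v (Or.inr hv))
      · exact (c.commute_of_le_A hle u hu c'.e (Or.inr c'.e_mem))
    have hEE : c'.E hle' = c.E hle := by
      ext g
      constructor
      · rintro ⟨p, hp, q, hq, rfl⟩
        exact ⟨q, hq, p, hp, (c.commute_of_le_A hle q hq p hp).symm⟩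
      · rintro ⟨q, hq, p, hp, rfl⟩
        exact ⟨p, hp, q, hq, c.commute_of_le_A hle q hq p hp⟩
    have hn := c'.norm_vSub_of_card (H := H)
      (by rw [hH, ← hEE]; exact c'.L_norm_E c.hxP hax' hle') hPH h3
    have hR : ∀ r ∈ c.R, ∀ u ∈ vSub c.h ha3, r * u = u * r := fun r hr u hu => by
      have h1 : r * u * r⁻¹ ∈ vSub c.h ha3 := conj_mem_of_le_normalizer hn (hLH (c.R_le hr)) hu
      have h2 := c.vSub_disjoint c.hxP haP c.hx ha3 hax (haV r hr u hu) (mul_mem h1 (inv_mem hu))
      exact mul_inv_eq_iff_eq_mul.1 (mul_inv_eq_one.1 h2)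
    have hsq : ∀ r ∈ c.R, r * r = 1 := by
      intro r hr
      obtain ⟨p, hp, q, hq, s, hs, e⟩ := hsur r hr
      have h1 : r * p = p * r := c.commute_A (hRA hr) hp
      have h2 : r * q = q * r := hR r hr q hq
      have hpq := c.commute_of_le_A hle p hp q hq
      calc r * r = r * (p * q * s) := by rw [← e]
        _ = (r * p) * q * s := by group
        _ = p * (r * q) * s := by rw [h1]; group
        _ = p * q * r * s := by rw [h2]; group
        _ = p * q * (p * q * s) * s := by rw [← e]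
        _ = p * (q * p) * q * (s * s) := by group
        _ = (p * p) * (q * q) * (s * s) := by rw [← hpq]; group
        _ = 1 := by rw [vSub_mul_self c.h c.hx hp, vSub_mul_self c.h ha3 hq,
              vSub_mul_self c.h hb3 hs, one_mul, one_mul]
    obtain ⟨g, hg, hgL⟩ := c.eight_exists
    have : (c.R.subgroupOf c.L).Normal := normal_subgroupOf_of_le_normalizer c.L_norm_R
    have hi : (c.R.subgroupOf c.L).index = 6 := by
      have := (c.R.subgroupOf c.L).card_mul_index
      rw [Nat.card_congr (subgroupOfEquivOfLe c.R_le).toEquiv, c.card_R, c.card_L] at this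
      omega
    have h6 : g ^ 6 ∈ c.R := by
      have := (c.R.subgroupOf c.L).pow_index_mem ⟨g, hgL⟩
      rw [hi, mem_subgroupOf] at this
      exact this
    have h12 : g ^ 12 = 1 := by rw [show 12 = 6 + 6 from rfl, pow_add]; exact hsq _ h6
    have := orderOf_dvd_of_pow_eq_one h12
    rw [hg] at this
    norm_num at this
  · set S : Subgroup G := H ⊓ normalizer (vSub c.h c.hx : Set G) with hS
    have hLS : c.L ≤ S := le_inf hLH hVn
    have hPS : (c.P : Subgroup G) ≤ S := le_inf hPH fun p hp =>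
      mem_normalizer_of_conj fun v hv => c.conj_vSub_P hp c.hxP c.hx hv
    have hk : (c.orb S).ncard = 3 := by
      rw [← Set.eq_of_subset_of_ncard_le (c.invC_subset_orb hPS) ?_ (Set.toFinite _)]
      · exact ncard_invC c.h c.hx
      refine Set.ncard_le_ncard ?_ (Set.toFinite _)
      rintro s ⟨g, hg, rfl⟩
      refine (conj_mem_of_le_normalizer (inf_le_right : S ≤ _) hg
        (show c.t ∈ vSub c.h c.hx from Or.inr c.t_mem)).resolve_left fun e => ?_
      exact CfsgLib.Invol.invol_ne_one c.ht (conj_eq_one_iff.1 e)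
    have hSc : Nat.card S = 1152 := by have := c.ncard_orb_mul hLS; omega
    set S' := S.subgroupOf H with hS'
    have hS'c : Nat.card S' = 1152 := by
      rw [hS', Nat.card_congr (subgroupOfEquivOfLe inf_le_left).toEquiv, hSc]
    have hi : S'.index = 5 := by
      have := S'.card_mul_index
      rw [hS'c, h15] at this
      omega
    have hd : S'.normalCore.index ∣ 120 := by
      rw [normalCore_eq_ker, index_ker]
      refine (card_subgroup_dvd_card _).trans ?_
      rw [Nat.card_perm, ← Subgroup.index, hi]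
      norm_num [Nat.factorial]
    have hmul := S'.normalCore.card_mul_index
    have hKd : Nat.card S'.normalCore ∣ 1152 := hS'c ▸ card_dvd_of_le S'.normalCore_le
    have h48 : 48 ∣ Nat.card S'.normalCore := by
      obtain ⟨m, hm⟩ := hd
      rw [h15] at hmul
      refine ⟨m, ?_⟩
      have h0 : S'.normalCore.index ≠ 0 := fun e => by rw [e, mul_zero] at hmul; norm_num at hmul
      refine Nat.eq_of_mul_eq_mul_right (Nat.pos_of_ne_zero h0) ?_
      rw [hmul, mul_assoc, mul_comm m, ← hm]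
      all_goals norm_num
    exact no_five_over_three c.h S'.normalCore ((show 3 ∣ 48 by norm_num).trans h48)
      (fun h5 => absurd (h5.trans hKd) (by norm_num)) (by rw [h15]; norm_num)

end Cfg

/-- An elementary abelian subgroup of order sixteen, self-centralizing, whose normalizer of order
5760 is transitive on its involutions. -/
structure EData (G : Type u) [Group G] [Finite G] where
  E : Subgroup G
  card : Nat.card E = 16
  sq : ∀ s ∈ E, s * s = 1
  card_norm : Nat.card (normalizer (E : Set G)) = 5760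
  cent : centralizer (E : Set G) = E
  trans : ∀ s ∈ E, ∀ s' ∈ E, s ≠ 1 → s' ≠ 1 → ∃ g ∈ normalizer (E : Set G), g * s * g⁻¹ = s'

theorem exists_eData (h : Hyp G) : Nonempty (EData G) := by
  have : Fact (Nat.Prime 2) := ⟨Nat.prime_two⟩
  obtain ⟨t, ht⟩ := exists_prime_orderOf_dvd_card' (G := G) 2 (by rw [h.card]; norm_num)
  obtain ⟨c, -⟩ := exists_cfg h ht
  obtain ⟨a, ha3, haP, hax, hle⟩ := c.exists_partner
  have hEA : c.E hle = c.A :=
    eq_of_le_of_card_ge (c.E_le_A hle) (by rw [c.card_A_eq, c.card_E haP hax hle])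
  have h15 : Nat.card (normalizer (c.E hle : Set G)) = 5760 :=
    (c.card_H_cases haP hax hle).resolve_left (c.not_normal_three_of_sixteen haP hax hle c.card_A_eq)
  refine ⟨⟨c.E hle, c.card_E haP hax hle, fun s hs => c.E_mul_self hle hs, h15,
    le_antisymm ((c.cent_E_le_A haP hax hle).trans hEA.ge) fun g hg => mem_centralizer_iff.2 ?_, ?_⟩⟩
  · intro s hs
    have := c.E_mul_self hle (mul_mem hs hg)
    have h1 := c.E_mul_self hle hs
    have h2 := c.E_mul_self hle hg
    calc s * g = s * (s * g * (s * g)) * g := by rw [this, mul_one]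
      _ = (s * s) * g * s * (g * g) := by group
      _ = g * s := by rw [h1, h2, one_mul, mul_one]
  · have horb : c.orb (normalizer (c.E hle : Set G)) = (c.E hle : Set G) \ {1} := by
      refine Set.eq_of_subset_of_ncard_le (c.orb_subset hle le_rfl) ?_ (Set.toFinite _)
      rw [c.ncard_E_diff haP hax hle]
      have := c.ncard_orb_mul (c.L_norm_E haP hax hle)
      omega
    intro s hs s' hs' h1 h1'
    obtain ⟨g, hg, rfl⟩ : s ∈ c.orb (normalizer (c.E hle : Set G)) := by rw [horb]; exact ⟨hs, h1⟩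
    obtain ⟨g', hg', rfl⟩ : s' ∈ c.orb (normalizer (c.E hle : Set G)) := by rw [horb]; exact ⟨hs', h1'⟩
    exact ⟨g' * g⁻¹, mul_mem hg' (inv_mem hg), by group⟩

end CfsgLib.ClassK.M22Nse
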