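import Cfsg.Agent.Lib.ClassK.M22Nse.Orders

/-!
The centralisers of the elements of orders 5, 7 and 11 and the table of element counts.
-/

set_option autoImplicit false
set_option linter.unusedSectionVars false

namespace CfsgLib.ClassK.M22Nse

open Subgroup CfsgLib.StructB.OrderCount
open CfsgLib.ClassK.M12Nse (centralizer_le_normalizer_zpowers)

universe u

variable {G : Type u} [Group G] [Finite G]

theorem cnt_coprime_mul_le (h : Hyp G) {p q : ℕ} [Fact p.Prime] [Fact q.Prime] (hne : p ≠ q)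
    (hd : p ∣ 443520) (hd2 : ¬ p ^ 2 ∣ 443520) {x : G} (hx : orderOf x = p)
    (hq : q ∣ Nat.card (centralizer ({x} : Set G))) : cnt G p * (q - 1) ≤ cnt G (p * q) := by
  obtain ⟨⟨y, hy⟩, hyo⟩ := exists_prime_orderOf_dvd_card' (G := centralizer ({x} : Set G)) q hq
  rw [Subgroup.orderOf_mk] at hyo
  exact le_cnt_mul hne (h.card ▸ hd) (h.card ▸ hd2) hx hyo (mem_centralizer_singleton_iff.1 hy).symm

theorem cent_five (h : Hyp G) {x : G} (hx : orderOf x = 5) :
    Nat.card (centralizer ({x} : Set G)) = 5 := by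
  have : Fact (Nat.Prime 5) := ⟨by norm_num⟩
  have : Fact (Nat.Prime 2) := ⟨by norm_num⟩
  have hd := card_dvd_of_le (centralizer_le_normalizer_zpowers x)
  rw [norm_five h hx] at hd
  have hxd : 5 ∣ Nat.card (centralizer ({x} : Set G)) :=
    hx ▸ Subgroup.orderOf_dvd_natCard _ (mem_centralizer_singleton_iff.2 rfl)
  have h2 : ¬ 2 ∣ Nat.card (centralizer ({x} : Set G)) := fun h2 => by
    have := cnt_coprime_mul_le h (p := 5) (q := 2) (by norm_num) (by norm_num) (by norm_num) hx h2
    rw [h.cnt_five] at this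
    rcases h.other (n := 5 * 2) (by decide) with e | e | e | e <;> omega
  have hcases : ∀ m ∈ Nat.divisors 20, 5 ∣ m → ¬ 2 ∣ m → m = 5 := by decide +kernel
  exact hcases _ (Nat.mem_divisors.2 ⟨hd, by norm_num⟩) hxd h2

theorem cent_seven (h : Hyp G) {x : G} (hx : orderOf x = 7) :
    Nat.card (centralizer ({x} : Set G)) = 7 := by
  have : Fact (Nat.Prime 7) := ⟨by norm_num⟩
  have : Fact (Nat.Prime 3) := ⟨by norm_num⟩
  have hd := card_dvd_of_le (centralizer_le_normalizer_zpowers x)
  rw [norm_seven h hx] at hd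
  have hxd : 7 ∣ Nat.card (centralizer ({x} : Set G)) :=
    hx ▸ Subgroup.orderOf_dvd_natCard _ (mem_centralizer_singleton_iff.2 rfl)
  have h3 : ¬ 3 ∣ Nat.card (centralizer ({x} : Set G)) := fun h3 => by
    have := cnt_coprime_mul_le h (p := 7) (q := 3) (by norm_num) (by norm_num) (by norm_num) hx h3
    rw [h.cnt_seven] at this
    rcases h.other (n := 7 * 3) (by decide) with e | e | e | e <;> omega
  have hcases : ∀ m ∈ Nat.divisors 21, 7 ∣ m → ¬ 3 ∣ m → m = 7 := by decide +kernel
  exact hcases _ (Nat.mem_divisors.2 ⟨hd, by norm_num⟩) hxd h3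

theorem cent_eleven (h : Hyp G) {x : G} (hx : orderOf x = 11) :
    Nat.card (centralizer ({x} : Set G)) = 11 := by
  have : Fact (Nat.Prime 11) := ⟨by norm_num⟩
  have : Fact (Nat.Prime 5) := ⟨by norm_num⟩
  have hd := card_dvd_of_le (centralizer_le_normalizer_zpowers x)
  rw [norm_eleven h hx] at hd
  have hxd : 11 ∣ Nat.card (centralizer ({x} : Set G)) :=
    hx ▸ Subgroup.orderOf_dvd_natCard _ (mem_centralizer_singleton_iff.2 rfl)
  have h5 : ¬ 5 ∣ Nat.card (centralizer ({x} : Set G)) := fun h5 => by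
    have := cnt_coprime_mul_le h (p := 11) (q := 5) (by norm_num) (by norm_num) (by norm_num) hx h5
    rw [h.cnt_eleven] at this
    rcases h.other (n := 11 * 5) (by decide) with e | e | e | e <;> omega
  have hcases : ∀ m ∈ Nat.divisors 55, 11 ∣ m → ¬ 5 ∣ m → m = 11 := by decide +kernel
  exact hcases _ (Nat.mem_divisors.2 ⟨hd, by norm_num⟩) hxd h5

/-- A centraliser of order divisible by 5, 7 or 11. -/
theorem orderOf_of_dvd_cent (h : Hyp G) {p : ℕ} (hp : p = 5 ∨ p = 7 ∨ p = 11) {y : G} (hy : y ≠ 1)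
    (hd : p ∣ Nat.card (centralizer ({y} : Set G))) : orderOf y = p := by
  have hpp : p.Prime := by rcases hp with rfl | rfl | rfl <;> norm_num
  have : Fact p.Prime := ⟨hpp⟩
  obtain ⟨⟨x, hxy⟩, hx⟩ := exists_prime_orderOf_dvd_card' (G := centralizer ({y} : Set G)) p hd
  rw [Subgroup.orderOf_mk] at hx
  have hmem : y ∈ centralizer ({x} : Set G) :=
    mem_centralizer_singleton_iff.2 (mem_centralizer_singleton_iff.1 hxy).symm
  have hyd := Subgroup.orderOf_dvd_natCard _ hmem
  have hc : Nat.card (centralizer ({x} : Set G)) = p := by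
    rcases hp with rfl | rfl | rfl
    · exact cent_five h hx
    · exact cent_seven h hx
    · exact cent_eleven h hx
  rw [hc] at hyd
  exact ((Nat.dvd_prime hpp).1 hyd).resolve_left fun e => hy (orderOf_eq_one_iff.1 e)

theorem cent_dvd (h : Hyp G) {y : G} (hy : y ≠ 1) (h5 : orderOf y ≠ 5) (h7 : orderOf y ≠ 7)
    (h11 : orderOf y ≠ 11) : Nat.card (centralizer ({y} : Set G)) ∣ 1152 := by
  have hd : Nat.card (centralizer ({y} : Set G)) ∣ 1152 * 385 := by
    have := (centralizer ({y} : Set G)).card_subgroup_dvd_card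
    rwa [h.card] at this
  have hco : ∀ p : ℕ, p.Prime → p = 5 ∨ p = 7 ∨ p = 11 →
      Nat.Coprime (Nat.card (centralizer ({y} : Set G))) p := fun p hp hp' =>
    ((Nat.Prime.coprime_iff_not_dvd hp).2 fun hd' => by
      have := orderOf_of_dvd_cent h hp' hy hd'
      rcases hp' with rfl | rfl | rfl <;> contradiction).symm
  refine (Nat.Coprime.dvd_of_dvd_mul_right ?_ hd)
  rw [show 385 = 5 * 7 * 11 from rfl]
  exact ((hco 5 (by norm_num) (Or.inl rfl)).mul_right (hco 7 (by norm_num) (Or.inr (Or.inl rfl)))).mul_right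
    (hco 11 (by norm_num) (Or.inr (Or.inr rfl)))

/-- The possible element orders. -/
theorem orderOf_cases (h : Hyp G) (g : G) :
    orderOf g = 5 ∨ orderOf g = 7 ∨ orderOf g = 11 ∨ orderOf g ∣ 1152 := by
  rcases eq_or_ne g 1 with rfl | hg
  · right; right; right; simp
  by_cases h5 : orderOf g = 5; · exact Or.inl h5
  by_cases h7 : orderOf g = 7; · exact Or.inr (Or.inl h7)
  by_cases h11 : orderOf g = 11; · exact Or.inr (Or.inr (Or.inl h11))
  exact Or.inr (Or.inr (Or.inr ((Subgroup.orderOf_dvd_natCard _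
    (mem_centralizer_singleton_iff.2 rfl)).trans (cent_dvd h hg h5 h7 h11))))

theorem cnt_dvd (h : Hyp G) {n : ℕ} (hn : cnt G n ≠ 0) :
    n = 5 ∨ n = 7 ∨ n = 11 ∨ n ∣ 1152 := by
  obtain ⟨⟨g, rfl⟩⟩ := (Nat.card_ne_zero.1 hn).1
  exact orderOf_cases h g

theorem ne_zero_of_dvd {m k : ℕ} (hd : m ∣ k) (hk : cnt G k ≠ 0) : cnt G m ≠ 0 :=
  fun h0 => hk (cnt_zero_of_dvd hd h0)

/-- The orders other than 2, 3, 5, 7, 11 are 4, 6, 8, with the six-count fixed. -/
theorem table (h : Hyp G) : cnt G 6 = 36960 ∧ cnt G 4 ≠ 0 ∧ cnt G 8 ≠ 0 ∧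
    ∀ n, cnt G n ≠ 0 → n ∈ ([1, 2, 3, 4, 5, 6, 7, 8, 11] : List ℕ) := by
  have h24 : cnt G 24 = 0 := by
    by_contra e
    exact e (h.not_four (a := 4) (b := 6) (c := 8) (by decide) (by decide) (by decide) (by decide)
      (by decide) (ne_zero_of_dvd (by norm_num) e) (ne_zero_of_dvd (by norm_num) e)
      (ne_zero_of_dvd (by norm_num) e))
  have h32 : cnt G 32 = 0 := by
    by_contra e
    exact e (h.not_four (a := 4) (b := 8) (c := 16) (by decide) (by decide) (by decide) (by decide)
      (by decide) (ne_zero_of_dvd (by norm_num) e) (ne_zero_of_dvd (by norm_num) e)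
      (ne_zero_of_dvd (by norm_num) e))
  have h36 : cnt G 36 = 0 := by
    by_contra e
    exact e (h.not_four (a := 4) (b := 6) (c := 9) (by decide) (by decide) (by decide) (by decide)
      (by decide) (ne_zero_of_dvd (by norm_num) e) (ne_zero_of_dvd (by norm_num) e)
      (ne_zero_of_dvd (by norm_num) e))
  have h64 : cnt G 64 = 0 := cnt_zero_of_dvd (m := 32) (by norm_num) h32
  have c64 : 64 ∣ 1156 + cnt G 4 + cnt G 8 + cnt G 16 := by
    have := dvd_sum_cnt (G := G) (n := 64) (by rw [h.card]; norm_num)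
    rw [show (64 : ℕ).divisors = {1, 2, 4, 8, 16, 32, 64} by decide] at this
    simp only [Finset.sum_insert, Finset.sum_singleton, Finset.mem_insert, Finset.mem_singleton,
      OfNat.ofNat_ne_one, OfNat.one_ne_ofNat, OfNat.ofNat_eq_ofNat, or_self, not_false_eq_true,
      cnt_one, h.cnt_two, h32, h64, Nat.reduceEqDiff] at this
    omega
  have c9 : 9 ∣ 12321 + cnt G 9 := by
    have := dvd_sum_cnt (G := G) (n := 9) (by rw [h.card]; norm_num)
    rw [show (9 : ℕ).divisors = {1, 3, 9} by decide] at this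
    simp only [Finset.sum_insert, Finset.sum_singleton, Finset.mem_insert, Finset.mem_singleton,
      OfNat.ofNat_ne_one, OfNat.one_ne_ofNat, OfNat.ofNat_eq_ofNat, or_self, not_false_eq_true,
      cnt_one, h.cnt_three, Nat.reduceEqDiff] at this
    omega
  -- the three other values
  have hsmall : ∀ n, cnt G n ≠ 0 → n ∈ ([1, 2, 3, 4, 5, 6, 7, 8, 9, 11, 12, 16, 18] : List ℕ) := by
    intro n hn
    rcases cnt_dvd h hn with rfl | rfl | rfl | hd
    iterate 3 decide
    have h24' : ¬ 24 ∣ n := fun hd' => ne_zero_of_dvd hd' hn h24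
    have h32' : ¬ 32 ∣ n := fun hd' => ne_zero_of_dvd hd' hn h32
    have h36' : ¬ 36 ∣ n := fun hd' => ne_zero_of_dvd hd' hn h36
    have : ∀ m ∈ Nat.divisors 1152, ¬ 24 ∣ m → ¬ 32 ∣ m → ¬ 36 ∣ m →
        m ∈ ([1, 2, 3, 4, 5, 6, 7, 8, 9, 11, 12, 16, 18] : List ℕ) := by decide +kernel
    exact this n (Nat.mem_divisors.2 ⟨hd, by norm_num⟩) h24' h32' h36'
  have hne : ∀ {a b : ℕ}, a ≠ b → cnt G a ≠ 0 → cnt G a ≠ cnt G b := fun hab ha e =>
    hab (h.inj ha e)
  have o4 := h.other (n := 4) (by decide)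
  have o8 := h.other (n := 8) (by decide)
  have o16 := h.other (n := 16) (by decide)
  have h4 : cnt G 4 ≠ 0 := fun e => by
    have e8 := cnt_zero_of_dvd (show 4 ∣ 8 by norm_num) e
    have e16 := cnt_zero_of_dvd (show 4 ∣ 16 by norm_num) e
    omega
  have h8 : cnt G 8 ≠ 0 := fun e => by
    have e16 := cnt_zero_of_dvd (show 8 ∣ 16 by norm_num) e
    omega
  have h48 := hne (show 4 ≠ 8 by norm_num) h4
  have h16 : cnt G 16 = 0 := by
    by_contra e
    have a := hne (show 16 ≠ 4 by norm_num) e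
    have b := hne (show 16 ≠ 8 by norm_num) e
    omega
  obtain ⟨n, hn⟩ := h.ach 36960 (by decide)
  have hn0 : cnt G n ≠ 0 := by omega
  have hlist := hsmall n hn0
  simp only [List.mem_cons, List.not_mem_nil, or_false] at hlist
  have hn6 : n = 6 := by
    rcases hlist with rfl | rfl | rfl | rfl | rfl | rfl | rfl | rfl | rfl | rfl | rfl | rfl | rfl
    · rw [cnt_one] at hn; omega
    · rw [h.cnt_two] at hn; omega
    · rw [h.cnt_three] at hn; omega
    · omega
    · rw [h.cnt_five] at hn; omega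
    · rfl
    · rw [h.cnt_seven] at hn; omega
    · omega
    · omega
    · rw [h.cnt_eleven] at hn; omega
    · exact absurd (h.not_four (a := 4) (b := 6) (c := 8) (by decide) (by decide) (by decide)
        (by decide) (by decide) h4 (ne_zero_of_dvd (by norm_num) hn0) h8) hn0
    · omega
    · exact absurd (h.not_four (a := 4) (b := 6) (c := 8) (by decide) (by decide) (by decide)
        (by decide) (by decide) h4 (ne_zero_of_dvd (by norm_num) hn0) h8) hn0
  subst hn6
  refine ⟨hn, h4, h8, fun m hm => ?_⟩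
  have hl := hsmall m hm
  simp only [List.mem_cons, List.not_mem_nil, or_false] at hl ⊢
  have k9 : ∀ k ∈ ([9, 12, 18] : List ℕ), m ≠ k := fun k hk e => by
    subst e
    refine hm (h.not_four (a := 4) (b := 6) (c := 8) (by decide) (by decide) (by decide) ?_ ?_
      h4 hn0 h8) <;>
    (simp only [List.mem_cons, List.not_mem_nil, or_false] at hk; rcases hk with rfl | rfl | rfl <;> decide)
  have k16 : m ≠ 16 := fun e => hm (e ▸ h16)
  have a := k9 9 (by decide); have b := k9 12 (by decide); have c := k9 18 (by decide)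
  omega

end CfsgLib.ClassK.M22Nse
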