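import Cfsg.Agent.Lib.ClassK.M22Nse.Sylow3
import Mathlib.GroupTheory.GroupAction.Quotient

/-!
An involution `t`, an element `x` of order three commuting with it, and the 2-core of `C(t)`.
-/

set_option autoImplicit false
set_option linter.unusedSectionVars false

namespace CfsgLib.ClassK.M22Nse

open Subgroup CfsgLib.StructB.OrderCount

universe u

variable {G : Type u} [Group G] [Finite G]

/-- The four-group of `C(x)`. -/
def vSub (h : Hyp G) {x : G} (hx : orderOf x = 3) : Subgroup G where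
  carrier := insert 1 (invC x)
  one_mem' := Or.inl rfl
  mul_mem' := by
    rintro a b (rfl | ha) (rfl | hb)
    · exact Or.inl (one_mul _)
    · exact Or.inr (by rw [one_mul]; exact hb)
    · exact Or.inr (by rw [mul_one]; exact ha)
    · by_cases e : a = b
      · subst e; exact Or.inl (CfsgLib.Invol.invol_mul_self ha.1)
      · exact Or.inr (invC_mul h hx ha hb e).1
  inv_mem' := by
    rintro a (rfl | ha)
    · exact Or.inl inv_one
    · exact Or.inr (by rw [CfsgLib.Invol.invol_inv ha.1]; exact ha)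

theorem mem_vSub {h : Hyp G} {x : G} {hx : orderOf x = 3} {a : G} :
    a ∈ vSub h hx ↔ a = 1 ∨ a ∈ invC x := Iff.rfl

theorem card_vSub (h : Hyp G) {x : G} (hx : orderOf x = 3) : Nat.card (vSub h hx) = 4 := by
  show Nat.card (insert 1 (invC x) : Set G) = 4
  rw [Nat.card_coe_set_eq, Set.ncard_insert_of_notMem (fun e => by
    have := e.1
    rw [orderOf_one] at this; norm_num at this) (Set.toFinite _), ncard_invC h hx]

theorem commute_vSub (h : Hyp G) {x : G} (hx : orderOf x = 3) {a b : G} (ha : a ∈ vSub h hx)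
    (hb : b ∈ vSub h hx) : a * b = b * a := by
  rcases ha with rfl | ha
  · simp
  rcases hb with rfl | hb
  · simp
  by_cases e : a = b
  · rw [e]
  · exact (invC_mul h hx ha hb e).2

theorem comm_x_vSub (h : Hyp G) {x : G} (hx : orderOf x = 3) {a : G} (ha : a ∈ vSub h hx) :
    x * a = a * x := by
  rcases ha with rfl | ha
  · simp
  · exact ha.2

/-- A 2-element of `C(x)` lies in the four-group. -/
theorem mem_vSub_of_two_pow (h : Hyp G) {x g : G} (hx : orderOf x = 3) (hg : x * g = g * x) {k : ℕ}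
    (hk : orderOf g ∣ 2 ^ k) : g ∈ vSub h hx := by
  rcases eq_or_ne g 1 with rfl | hg1
  · exact Or.inl rfl
  · exact Or.inr (invC_of_two_pow h hx hg hk hg1)

/-- A configuration at an involution. -/
structure Cfg (G : Type u) [Group G] [Finite G] where
  h : Hyp G
  t : G
  x : G
  y : G
  w : G
  P : Sylow 3 G
  ht : orderOf t = 2
  hx : orderOf x = 3
  hxt : x * t = t * x
  hxP : x ∈ (P : Subgroup G)
  hyP : y ∈ (P : Subgroup G)
  hy : y ∉ zpowers x
  hw : orderOf w = 2
  hinv : ∀ a ∈ (P : Subgroup G), w * a * w = a⁻¹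
  hwt : w * t = t * w

namespace Cfg

variable (c : Cfg G)

theorem hy3 : c.y ^ 3 = 1 := by
  have := orderOf_sylow_three c.h c.P c.hyP fun e => c.hy (e ▸ one_mem _)
  rw [← this]; exact pow_orderOf_eq_one _

theorem hyx : c.y * c.x = c.x * c.y := sylow_comm c.h c.P c.hyP c.hxP

theorem t_mem : c.t ∈ invC c.x := ⟨c.ht, c.hxt⟩

/-- Nothing in the four-group but the identity commutes with two independent elements. -/
theorem not_comm_both {a b s : G} (ha : a ∈ (c.P : Subgroup G)) (hb : b ∈ (c.P : Subgroup G))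
    (ha1 : a ≠ 1) (hba : b ∉ zpowers a) (hs : orderOf s = 2) (has : a * s = s * a) :
    b * s ≠ s * b := by
  intro hbs
  refine no_invol_cent c.h c.P hs fun z hz => ?_
  set K := centralizer ({s} : Set G) ⊓ (c.P : Subgroup G) with hK
  have hd := card_dvd_of_le (show K ≤ (c.P : Subgroup G) from inf_le_right)
  have haK : zpowers a ≤ K := zpowers_le.2 (mem_inf.2 ⟨mem_centralizer_singleton_iff.2 has, ha⟩)
  have h3 : Nat.card (zpowers a) = 3 := by
    rw [Nat.card_zpowers, orderOf_sylow_three c.h c.P ha ha1]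
  have hne : zpowers a ≠ K := fun e => hba (by
    rw [e]; exact mem_inf.2 ⟨mem_centralizer_singleton_iff.2 hbs, hb⟩)
  have hlt : 3 < Nat.card K := by
    rw [← h3]
    refine lt_of_le_of_ne (Nat.le_of_dvd Nat.card_pos (card_dvd_of_le haK)) fun e => hne ?_
    exact eq_of_le_of_card_ge haK e.ge
  rw [card_sylow_three c.h c.P] at hd
  have : ∀ m ∈ Nat.divisors 9, 3 < m → m = 9 := by decide
  have hK9 := this _ (Nat.mem_divisors.2 ⟨hd, by norm_num⟩) hlt
  have : K = (c.P : Subgroup G) := eq_of_le_of_card_ge inf_le_right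
    (by rw [card_sylow_three c.h c.P]; exact hK9.ge)
  exact mem_centralizer_singleton_iff.1 (mem_inf.1 (this ▸ hz : z ∈ K)).1

/-- The second involution. -/
def e : G := c.y * c.t * c.y⁻¹

/-- The third involution. -/
def f : G := c.y⁻¹ * c.t * c.y

theorem e_mem : c.e ∈ invC c.x := conj_mem_invC c.hyx c.t_mem

theorem f_mem : c.f ∈ invC c.x := by
  have := conj_mem_invC (g := c.y⁻¹) ((Commute.inv_left c.hyx).eq) c.t_mem
  rwa [inv_inv] at this

theorem e_ne_t : c.e ≠ c.t := fun e => c.not_comm_both c.hxP c.hyP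
  (fun e' => by have := c.hx; rw [e', orderOf_one] at this; norm_num at this) c.hy c.ht c.hxt
  (mul_inv_eq_iff_eq_mul.1 e)

theorem f_ne_t : c.f ≠ c.t := fun e => c.e_ne_t (by
  have e' : c.y⁻¹ * c.t * c.y = c.t := e
  calc c.y * c.t * c.y⁻¹ = c.y * (c.y⁻¹ * c.t * c.y) * c.y⁻¹ := by rw [e']
    _ = c.t := by group)

theorem e_ne_f : c.e ≠ c.f := fun e => c.e_ne_t (by
  have e' : c.y * c.t * c.y⁻¹ = c.y⁻¹ * c.t * c.y := e
  have h2 : c.y * c.y * c.t * (c.y * c.y)⁻¹ = c.t := by
    calc c.y * c.y * c.t * (c.y * c.y)⁻¹ = c.y * (c.y * c.t * c.y⁻¹) * c.y⁻¹ := by group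
      _ = c.t := by rw [e']; group
  have h3 : c.y * c.y = c.y⁻¹ := eq_inv_of_mul_eq_one_left (by
    rw [← c.hy3, pow_succ, pow_two])
  rw [h3, inv_inv] at h2
  calc c.y * c.t * c.y⁻¹ = c.y * (c.y⁻¹ * c.t * c.y) * c.y⁻¹ := by rw [h2]
    _ = c.t := by group)

theorem invC_eq : invC c.x = {c.t, c.e, c.f} := by
  refine (Set.eq_of_subset_of_ncard_le ?_ ?_ (Set.toFinite _)).symm
  · intro z hz
    rcases hz with rfl | rfl | rfl
    · exact c.t_mem
    · exact c.e_mem
    · exact c.f_mem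
  · rw [ncard_invC c.h c.hx, Set.ncard_insert_of_notMem (by
      simp only [Set.mem_insert_iff, Set.mem_singleton_iff, not_or]
      exact ⟨c.e_ne_t.symm, c.f_ne_t.symm⟩) (Set.toFinite _), Set.ncard_pair c.e_ne_f]

theorem te_eq : c.t * c.e = c.f := by
  have h1 := (invC_mul c.h c.hx c.t_mem c.e_mem c.e_ne_t.symm).1
  rw [c.invC_eq] at h1
  rcases h1 with e | e | e
  · exact absurd (mul_eq_left.1 e) (CfsgLib.Invol.invol_ne_one c.e_mem.1)
  · exact absurd (mul_eq_right.1 e) (CfsgLib.Invol.invol_ne_one c.ht)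
  · exact e

theorem hwi : c.w⁻¹ = c.w := CfsgLib.Invol.invol_inv c.hw

theorem w_e : c.w * c.e * c.w = c.f := by
  have h1 := c.hinv c.y c.hyP
  have h2 := c.hinv c.y⁻¹ (inv_mem c.hyP)
  have ht' : c.w * c.t * c.w = c.t := by rw [c.hwt, mul_assoc, CfsgLib.Invol.invol_mul_self c.hw, mul_one]
  show c.w * (c.y * c.t * c.y⁻¹) * c.w = c.y⁻¹ * c.t * c.y
  calc c.w * (c.y * c.t * c.y⁻¹) * c.w
      = (c.w * c.y * c.w) * (c.w⁻¹ * c.t * c.w⁻¹) * (c.w * c.y⁻¹ * c.w) := by group
    _ = c.y⁻¹ * c.t * c.y := by rw [h1, h2, inv_inv, c.hwi, ht']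

end Cfg

/-- Every involution is part of a configuration. -/
theorem exists_cfg (h : Hyp G) {t : G} (ht : orderOf t = 2) : ∃ c : Cfg G, c.t = t := by
  classical
  have : Fact (Nat.Prime 3) := ⟨Nat.prime_three⟩
  obtain ⟨x0, hx0⟩ := exists_prime_orderOf_dvd_card' (G := G) 3 (by rw [h.card]; norm_num)
  obtain ⟨x, hxc, hxt0⟩ := Set.nonempty_of_ncard_ne_zero
    (show (M12Nse.fixIn (M12Nse.cl x0) t).ncard ≠ 0 by rw [ncard_three_cent h ht hx0]; norm_num)
  have hx : orderOf x = 3 := (M12Nse.orderOf_mem_cl hxc).trans hx0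
  obtain ⟨P, hP⟩ := (IsPGroup.of_card (G := zpowers x) (p := 3) (n := 1)
    (by rw [Nat.card_zpowers, hx, pow_one])).exists_le_sylow
  obtain ⟨y, hyP, hy⟩ : ∃ y, y ∈ (P : Subgroup G) ∧ y ∉ zpowers x := by
    by_contra hall
    simp only [not_exists, not_and, not_not] at hall
    have := Nat.le_of_dvd Nat.card_pos
      (card_dvd_of_le (show (P : Subgroup G) ≤ zpowers x from fun a ha => hall a ha))
    rw [card_sylow_three h P, Nat.card_zpowers, hx] at this
    norm_num at this
  obtain ⟨w, hw, hwinv⟩ := exists_inverter h P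
  have hxP : x ∈ (P : Subgroup G) := hP (mem_zpowers x)
  have hwi : w⁻¹ = w := CfsgLib.Invol.invol_inv hw
  have hww : w * w = 1 := CfsgLib.Invol.invol_mul_self hw
  -- `w` fixes one of the three involutions of `C(x)`
  have hmap : ∀ s ∈ invC x, w * s * w ∈ invC x := by
    intro s hs
    refine ⟨by
      have := CfsgLib.Invol.orderOf_conj_eq w s
      rw [hwi] at this; rw [this, hs.1], ?_⟩
    have hs' : x⁻¹ * s = s * x⁻¹ := (Commute.inv_left hs.2).eq
    have hwx : x = w * x⁻¹ * w := by rw [hwinv _ (inv_mem hxP), inv_inv]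
    calc x * (w * s * w) = w * x⁻¹ * w * (w * s * w) := by rw [← hwx]
      _ = w * x⁻¹ * (w * w) * s * w := by group
      _ = w * (x⁻¹ * s) * w := by rw [hww]; group
      _ = w * (s * x⁻¹) * w := by rw [hs']
      _ = w * s * (w * w) * x⁻¹ * w := by rw [hww]; group
      _ = w * s * w * (w * x⁻¹ * w) := by group
      _ = w * s * w * x := by rw [← hwx]
  obtain ⟨s, hs, hsw⟩ : ∃ s ∈ invC x, w * s = s * w := by
    by_contra hall
    simp only [not_exists, not_and] at hall
    have hmod := M12Nse.ncard_modEq_fixed (p := 2) (K := zpowers w)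
      (IsPGroup.of_card (n := 1) (by rw [Nat.card_zpowers, hw, pow_one])) (invC x) (fun k hk s hs => by
        obtain ⟨j, rfl⟩ := (mem_powers_iff_mem_zpowers.2 hk)
        induction j with
        | zero => simpa using hs
        | succ j ih =>
          have := hmap _ (ih (pow_mem (mem_zpowers w) j))
          show w ^ (j + 1) * s * (w ^ (j + 1))⁻¹ ∈ invC x
          rw [pow_succ']
          rw [show w * w ^ j * s * (w * w ^ j)⁻¹ = w * (w ^ j * s * (w ^ j)⁻¹) * w⁻¹ by group, hwi]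
          exact this)
    rw [ncard_invC h hx] at hmod
    have hempty : {a | a ∈ invC x ∧ ∀ k ∈ zpowers w, k * a = a * k} = (∅ : Set G) :=
      Set.eq_empty_of_forall_notMem fun a ha => hall a ha.1 (ha.2 w (mem_zpowers w))
    rw [hempty, Set.ncard_empty] at hmod
    exact absurd hmod (by decide)
  -- move it to `t` by a power of `y`
  have hy1 : y ≠ 1 := fun e => hy (e ▸ one_mem _)
  have hyx := sylow_comm h P hyP hxP
  have hy3 : y ^ 3 = 1 := by
    rw [← orderOf_sylow_three h P hyP hy1]; exact pow_orderOf_eq_one y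
  let c0 : ∀ w' : G, orderOf w' = 2 → (∀ a ∈ (P : Subgroup G), w' * a * w' = a⁻¹) → w' * t = t * w' → Cfg G :=
    fun w' h1 h2 h3 => ⟨h, t, x, y, w', P, ht, hx, hxt0.symm, hxP, hyP, hy, h1, h2, h3⟩
  suffices hg : ∃ g ∈ (P : Subgroup G), g * s * g⁻¹ = t by
    obtain ⟨g, hg, hgs⟩ := hg
    refine ⟨c0 (g * w * g⁻¹) ?_ ?_ ?_, rfl⟩
    · rw [CfsgLib.Invol.orderOf_conj_eq, hw]
    · intro a ha
      calc g * w * g⁻¹ * a * (g * w * g⁻¹) = g * (w * (g⁻¹ * a * g) * w) * g⁻¹ := by group
        _ = g * (w * a * w) * g⁻¹ := by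
          rw [mul_assoc g⁻¹ a g, sylow_comm h P ha hg, inv_mul_cancel_left]
        _ = a⁻¹ := by rw [hwinv a ha, sylow_comm h P hg (inv_mem ha), mul_inv_cancel_right]
    · rw [← hgs]
      calc g * w * g⁻¹ * (g * s * g⁻¹) = g * (w * s) * g⁻¹ := by group
        _ = g * (s * w) * g⁻¹ := by rw [hsw]
        _ = g * s * g⁻¹ * (g * w * g⁻¹) := by group
  -- the powers of `y` reach every member
  by_contra hall
  simp only [not_exists, not_and] at hall
  obtain ⟨w', hw', -⟩ := exists_inverter h P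
  have k1 := hall 1 (one_mem _)
  have k2 := hall y hyP
  have k3 := hall y⁻¹ (inv_mem hyP)
  simp only [inv_one, mul_one, one_mul] at k1
  have hmoved : y * s * y⁻¹ ≠ s := fun e => by
    refine no_invol_cent h P hs.1 fun z hz => ?_
    set K := centralizer ({s} : Set G) ⊓ (P : Subgroup G) with hK
    have haK : zpowers x ≤ K := zpowers_le.2 (mem_inf.2 ⟨mem_centralizer_singleton_iff.2 hs.2, hxP⟩)
    have hd := card_dvd_of_le (show K ≤ (P : Subgroup G) from inf_le_right)
    rw [card_sylow_three h P] at hd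
    have hlt : 3 < Nat.card K := by
      rw [← show Nat.card (zpowers x) = 3 by rw [Nat.card_zpowers, hx]]
      refine lt_of_le_of_ne (Nat.le_of_dvd Nat.card_pos (card_dvd_of_le haK)) fun e' => hy ?_
      rw [eq_of_le_of_card_ge haK e'.ge]
      exact mem_inf.2 ⟨mem_centralizer_singleton_iff.2 (mul_inv_eq_iff_eq_mul.1 e), hyP⟩
    have : ∀ m ∈ Nat.divisors 9, 3 < m → m = 9 := by decide
    have : K = (P : Subgroup G) := eq_of_le_of_card_ge inf_le_right
      (by rw [card_sylow_three h P, this _ (Nat.mem_divisors.2 ⟨hd, by norm_num⟩) hlt]; norm_num)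
    exact mem_centralizer_singleton_iff.1 (mem_inf.1 (this ▸ hz : z ∈ K)).1
  have s1 := conj_mem_invC hyx hs
  have s2 := conj_mem_invC (g := y⁻¹) ((Commute.inv_left hyx).eq) hs
  have tm : t ∈ invC x := ⟨ht, hxt0.symm⟩
  have d1 : y⁻¹ * s * y⁻¹⁻¹ ≠ s := fun e => hmoved (by
    calc y * s * y⁻¹ = y * (y⁻¹ * s * y⁻¹⁻¹) * y⁻¹ := by rw [e]
      _ = s := by group)
  have d2 : y⁻¹ * s * y⁻¹⁻¹ ≠ y * s * y⁻¹ := fun e => hmoved (by
    have h3 : y * y * y = 1 := by rw [← hy3, pow_succ, pow_two]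
    have e2 : y * y * s * (y * y)⁻¹ = s := by
      calc y * y * s * (y * y)⁻¹ = y * (y * s * y⁻¹) * y⁻¹ := by group
        _ = s := by rw [← e]; group
    rw [eq_inv_of_mul_eq_one_left h3, inv_inv] at e2
    calc y * s * y⁻¹ = y * (y⁻¹ * s * y) * y⁻¹ := by rw [e2]
      _ = s := by group)
  have hle := Set.ncard_le_ncard (s := ({t, s, y * s * y⁻¹, y⁻¹ * s * y⁻¹⁻¹} : Set G)) (t := invC x)
    (by intro z hz; rcases hz with rfl | rfl | rfl | rfl <;> assumption) (Set.toFinite _)
  rw [ncard_invC h hx, Set.ncard_insert_of_notMem (by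
      simp only [Set.mem_insert_iff, Set.mem_singleton_iff, not_or]
      exact ⟨Ne.symm k1, Ne.symm k2, Ne.symm k3⟩) (Set.toFinite _),
    Set.ncard_insert_of_notMem (by
      simp only [Set.mem_insert_iff, Set.mem_singleton_iff, not_or]
      exact ⟨hmoved.symm, d1.symm⟩) (Set.toFinite _),
    Set.ncard_pair d2.symm] at hle
  omega

end CfsgLib.ClassK.M22Nse
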