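import Cfsg.Agent.Lib.ClassK.M22Nse.Cfg
import Mathlib.GroupTheory.Index
import Mathlib.GroupTheory.PGroup

/-!
The 2-core `R` of the centralizer of an involution, and the centralizer in it of a four-group.
-/

set_option autoImplicit false
set_option linter.unusedSectionVars false

namespace CfsgLib.ClassK.M22Nse

open Subgroup CfsgLib.StructB.OrderCount

universe u

variable {G : Type u} [Group G] [Finite G]

theorem mem_normalizer_of_conj {S : Subgroup G} {g : G} (hg : ∀ s ∈ S, g * s * g⁻¹ ∈ S) :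
    g ∈ normalizer (S : Set G) := mem_normalizer_fintype hg

theorem conj_mem_of_le_normalizer {S T : Subgroup G} (hT : T ≤ normalizer (S : Set G)) {g s : G}
    (hg : g ∈ T) (hs : s ∈ S) : g * s * g⁻¹ ∈ S :=
  ((mem_normalizer_iff.1 (hT hg)) s).1 hs

/-- A 2-element of a group lies in a normal subgroup of index three. -/
theorem mem_of_index_three {K S : Subgroup G} (hSK : S ≤ K) (hK : K ≤ normalizer (S : Set G))
    (hc : Nat.card K = 3 * Nat.card S) {g : G} (hg : g ∈ K) {k : ℕ} (hk : orderOf g ∣ 2 ^ k) :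
    g ∈ S := by
  have : (S.subgroupOf K).Normal := normal_subgroupOf_of_le_normalizer hK
  have hi : (S.subgroupOf K).index = 3 := by
    have := (S.subgroupOf K).card_mul_index
    rw [Nat.card_congr (subgroupOfEquivOfLe hSK).toEquiv, hc, mul_comm] at this
    exact Nat.eq_of_mul_eq_mul_right Nat.card_pos this
  have h3 : g ^ 3 ∈ S := by
    have := (S.subgroupOf K).pow_index_mem ⟨g, hg⟩
    rw [hi, mem_subgroupOf] at this
    exact this
  obtain ⟨a, ha⟩ : ∃ a, (2 ^ k) ∣ 3 * a + 1 ∨ (2 ^ k) ∣ 3 * a + 2 := by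
    rcases k with _ | k
    · exact ⟨0, Or.inl (by norm_num)⟩
    have : 2 ^ (k + 1) % 3 = 1 ∨ 2 ^ (k + 1) % 3 = 2 := by
      have : ¬ 3 ∣ 2 ^ (k + 1) := fun h => absurd (Nat.prime_three.dvd_of_dvd_pow h) (by norm_num)
      omega
    rcases this with e | e
    · exact ⟨2 ^ (k + 1) / 3, Or.inl (dvd_of_eq (by omega))⟩
    · exact ⟨2 ^ (k + 1) / 3, Or.inr (dvd_of_eq (by omega))⟩
  have key : ∀ m, 2 ^ k ∣ m → g ^ m = 1 := fun m hm =>
    orderOf_dvd_iff_pow_eq_one.1 (hk.trans hm)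
  rcases ha with ha | ha
  · have := key _ ha
    rw [pow_add, pow_mul, pow_one] at this
    rw [eq_inv_of_mul_eq_one_right this]
    exact inv_mem (pow_mem h3 a)
  · have h1 := key _ ha
    have h2 : g ^ 2 ∈ S := by
      rw [pow_add, pow_mul] at h1
      rw [eq_inv_of_mul_eq_one_right h1]
      exact inv_mem (pow_mem h3 a)
    have : g = g ^ 3 * (g ^ 2)⁻¹ := by group
    rw [this]
    exact mul_mem h3 (inv_mem h2)

namespace Cfg

variable (c : Cfg G)

/-- The centralizer of the involution. -/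
def L : Subgroup G := centralizer ({c.t} : Set G)

theorem mem_L {g : G} : g ∈ c.L ↔ g * c.t = c.t * g := mem_centralizer_singleton_iff

theorem card_L : Nat.card c.L = 384 := cent_two c.h c.ht

theorem x_mem_L : c.x ∈ c.L := c.mem_L.2 c.hxt

theorem w_mem_L : c.w ∈ c.L := c.mem_L.2 c.hwt

theorem w_x : c.w * c.x * c.w = c.x⁻¹ := c.hinv c.x c.hxP

/-- The inverter lies in no 2-subgroup normalised by `x`. -/
theorem w_not_mem {S : Subgroup G} (hS : IsPGroup 2 S)
    (hx : ∀ s ∈ S, c.x * s * c.x⁻¹ ∈ S) : c.w ∉ S := by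
  intro hw
  have h1 : c.x * c.w * c.x⁻¹ * c.w⁻¹ = c.x ^ 2 := by
    calc c.x * c.w * c.x⁻¹ * c.w⁻¹ = c.x * (c.w * c.x⁻¹ * c.w⁻¹) := by group
      _ = c.x ^ 2 := by rw [c.hwi, c.hinv c.x⁻¹ (inv_mem c.hxP), inv_inv, pow_two]
  have h2 : c.x ^ 2 ∈ S := h1 ▸ mul_mem (hx _ hw) (inv_mem hw)
  obtain ⟨k, hk⟩ := hS ⟨_, h2⟩
  have hk' : (c.x ^ 2) ^ 2 ^ k = 1 := congrArg Subtype.val hk
  rw [← pow_mul, ← orderOf_dvd_iff_pow_eq_one, c.hx, ← pow_succ'] at hk'
  exact absurd (Nat.prime_three.dvd_of_dvd_pow hk') (by norm_num)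

theorem isPGroup_of_le_L {S : Subgroup G} {k : ℕ} (hS : Nat.card S = 2 ^ k) : IsPGroup 2 S :=
  IsPGroup.of_card hS

theorem exists_core : ∃ R : Subgroup G, R ≤ c.L ∧ Nat.card R = 64 ∧ c.L ≤ normalizer (R : Set G) := by
  classical
  have : Fact (Nat.Prime 2) := ⟨Nat.prime_two⟩
  obtain ⟨T, hT⟩ := Sylow.exists_subgroup_card_pow_prime (G := c.L) 2 (n := 7)
    (by rw [c.card_L]; norm_num)
  have hTi : T.index = 3 := by
    have := T.card_mul_index
    rw [hT, c.card_L] at this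
    omega
  have hle : T.normalCore ≤ T := T.normalCore_le
  have hd6 : T.normalCore.index ∣ 6 := by
    rw [normalCore_eq_ker, index_ker]
    refine (card_subgroup_dvd_card _).trans ?_
    rw [Nat.card_perm, ← Subgroup.index, hTi]
    norm_num [Nat.factorial]
  have h3 : 3 ∣ T.normalCore.index := hTi ▸ index_dvd_of_le hle
  have hmul := T.normalCore.card_mul_index
  rw [c.card_L] at hmul
  have hi : T.normalCore.index = 3 ∨ T.normalCore.index = 6 := by
    have : ∀ m ∈ Nat.divisors 6, 3 ∣ m → m = 3 ∨ m = 6 := by decide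
    exact this _ (Nat.mem_divisors.2 ⟨hd6, by norm_num⟩) h3
  have hR : (T.normalCore.map c.L.subtype) ≤ c.L := map_subtype_le _
  have hcard : Nat.card (T.normalCore.map c.L.subtype) = Nat.card T.normalCore :=
    card_map_of_injective c.L.subtype_injective
  have hnorm : c.L ≤ normalizer ((T.normalCore.map c.L.subtype : Subgroup G) : Set G) := by
    intro g hg
    refine mem_normalizer_of_conj ?_
    rintro s ⟨s', hs', rfl⟩
    exact ⟨_, (normalCore_normal T).conj_mem s' hs' ⟨g, hg⟩, rfl⟩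
  rcases hi with hi | hi
  · exfalso
    rw [hi] at hmul
    have hp : IsPGroup 2 (T.normalCore.map c.L.subtype) :=
      IsPGroup.of_card (n := 7) (by rw [hcard]; omega)
    refine c.w_not_mem hp (fun s hs => conj_mem_of_le_normalizer hnorm c.x_mem_L hs) ?_
    exact mem_of_index_three hR hnorm (by rw [hcard, c.card_L]; omega) c.w_mem_L (k := 1)
      (by rw [c.hw]; norm_num)
  · rw [hi] at hmul
    exact ⟨_, hR, by rw [hcard]; omega, hnorm⟩

/-- The 2-core of `C(t)`. -/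
noncomputable def R : Subgroup G := c.exists_core.choose

theorem R_le : c.R ≤ c.L := c.exists_core.choose_spec.1

theorem card_R : Nat.card c.R = 64 := c.exists_core.choose_spec.2.1

theorem L_norm_R : c.L ≤ normalizer (c.R : Set G) := c.exists_core.choose_spec.2.2

theorem conj_mem_R {g r : G} (hg : g ∈ c.L) (hr : r ∈ c.R) : g * r * g⁻¹ ∈ c.R :=
  conj_mem_of_le_normalizer c.L_norm_R hg hr

theorem isPGroup_R : IsPGroup 2 c.R := IsPGroup.of_card (n := 6) (by rw [c.card_R]; norm_num)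

theorem two_pow_of_mem_R {r : G} (hr : r ∈ c.R) : orderOf r ∣ 2 ^ 6 := by
  have := Subgroup.orderOf_dvd_natCard _ hr
  rw [c.card_R] at this
  exact this

theorem x_not_mem_R : c.x ∉ c.R := fun h => by
  have := c.two_pow_of_mem_R h
  rw [c.hx] at this
  norm_num at this

theorem w_not_mem_R : c.w ∉ c.R :=
  c.w_not_mem c.isPGroup_R fun _ hs => c.conj_mem_R c.x_mem_L hs

/-- The core together with `x` and the inverter generates `C(t)`. -/
theorem L_le_of {K : Subgroup G} (hR : c.R ≤ K) (hx : c.x ∈ K) (hw : c.w ∈ K) : c.L ≤ K := by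
  suffices h : K ⊓ c.L = c.L from h ▸ inf_le_left
  refine eq_of_le_of_card_ge inf_le_right ?_
  have h64 : 64 ∣ Nat.card (K ⊓ c.L : Subgroup G) := c.card_R ▸ card_dvd_of_le (le_inf hR c.R_le)
  have h3 : 3 ∣ Nat.card (K ⊓ c.L : Subgroup G) :=
    c.hx ▸ Subgroup.orderOf_dvd_natCard _ (mem_inf.2 ⟨hx, c.x_mem_L⟩)
  have hd : Nat.card (K ⊓ c.L : Subgroup G) ∣ 384 := c.card_L ▸ card_dvd_of_le inf_le_right
  have h192 : Nat.card (K ⊓ c.L : Subgroup G) = 192 ∨ Nat.card (K ⊓ c.L : Subgroup G) = 384 := by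
    obtain ⟨m, hm⟩ := Nat.lcm_dvd h64 h3
    rw [show Nat.lcm 64 3 = 192 by norm_num] at hm
    rw [hm] at hd ⊢
    have : m ∣ 2 := Nat.dvd_of_mul_dvd_mul_left (by norm_num : 0 < 192) (by simpa using hd)
    rcases (Nat.dvd_prime Nat.prime_two).1 this with e | e <;> subst e <;> norm_num
  rw [c.card_L]
  rcases h192 with e | e
  · exfalso
    refine c.w_not_mem_R ?_
    exact mem_of_index_three (le_inf hR c.R_le) (inf_le_right.trans c.L_norm_R)
      (by rw [e, c.card_R]) (mem_inf.2 ⟨hw, c.w_mem_L⟩) (k := 1) (by rw [c.hw]; norm_num)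
  · exact e.ge

/-- An involution of `C(t)` almost fixed by `x` and the inverter lies in the core. -/
theorem mem_R_of_invol {s : G} (hs : s ∈ c.L) (hso : orderOf s = 2)
    (hxs : c.x * s = s * c.x) (hws : c.w * s * c.w ∈ c.R ⊔ zpowers s) : s ∈ c.R := by
  have : Fact (Nat.Prime 2) := ⟨Nat.prime_two⟩
  by_contra hsR
  set S := c.R ⊔ zpowers s with hS
  have hsS : s ∈ S := mem_sup_right (mem_zpowers s)
  have hp : IsPGroup 2 S := IsPGroup.to_sup_of_normal_left' c.isPGroup_R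
    (IsPGroup.of_card (n := 1) (by rw [Nat.card_zpowers, hso, pow_one]))
    ((zpowers_le.2 hs).trans c.L_norm_R)
  have hSL : S ≤ c.L := sup_le c.R_le (zpowers_le.2 hs)
  have key : ∀ g ∈ c.L, g * s * g⁻¹ ∈ S → g ∈ normalizer (S : Set G) := by
    intro g hg hgs
    refine mem_normalizer_of_conj fun z hz => ?_
    have : S ≤ S.comap (MulAut.conj g).toMonoidHom :=
      sup_le (fun r hr => mem_sup_left (c.conj_mem_R hg hr)) (zpowers_le.2 hgs)
    exact this hz
  have hnorm : c.L ≤ normalizer (S : Set G) := by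
    refine c.L_le_of (le_sup_left.trans le_normalizer) (key _ c.x_mem_L ?_) (key _ c.w_mem_L ?_)
    · rw [hxs, mul_inv_cancel_right]; exact hsS
    · rw [c.hwi]; exact hws
  obtain ⟨n, hn⟩ := IsPGroup.iff_card.1 hp
  have hd : 2 ^ n ∣ 2 ^ 7 * 3 := by
    rw [← hn, show 2 ^ 7 * 3 = 384 by norm_num, ← c.card_L]; exact card_dvd_of_le hSL
  have hn7 : n ≤ 7 := (Nat.pow_dvd_pow_iff_le_right (by norm_num)).1
    ((Nat.Coprime.pow_left n (by norm_num : Nat.Coprime 2 3)).dvd_of_dvd_mul_right hd)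
  have hgt : 64 < Nat.card S := by
    rw [← c.card_R]
    refine lt_of_le_of_ne (Subgroup.card_le_of_le le_sup_left) fun e => hsR ?_
    exact (eq_of_le_of_card_ge le_sup_left e.ge).symm ▸ hsS
  have hn7' : n = 7 := by
    rw [hn] at hgt
    by_contra hne
    have := Nat.pow_le_pow_right (show 0 < 2 by norm_num) (show n ≤ 6 by omega)
    omega
  refine c.w_not_mem hp (fun z hz => conj_mem_of_le_normalizer hnorm c.x_mem_L hz) ?_
  exact mem_of_index_three hSL hnorm (by rw [c.card_L, hn, hn7']; norm_num) c.w_mem_L (k := 1)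
    (by rw [c.hw]; norm_num)

theorem t_mem_R : c.t ∈ c.R :=
  c.mem_R_of_invol (c.mem_L.2 rfl) c.ht c.hxt (mem_sup_right (by
    rw [c.hwt, mul_assoc, CfsgLib.Invol.invol_mul_self c.hw, mul_one]; exact mem_zpowers _))

theorem invC_commute {a b : G} (ha : a ∈ invC c.x) (hb : b ∈ invC c.x) : a * b = b * a :=
  commute_vSub c.h c.hx (Or.inr ha) (Or.inr hb)

theorem e_mem_L : c.e ∈ c.L := c.mem_L.2 (c.invC_commute c.e_mem c.t_mem)

theorem e_mem_R : c.e ∈ c.R :=
  c.mem_R_of_invol c.e_mem_L c.e_mem.1 c.e_mem.2 (by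
    rw [c.w_e, ← c.te_eq]
    exact mul_mem (mem_sup_left c.t_mem_R) (mem_sup_right (mem_zpowers _)))

theorem vSub_le_R : vSub c.h c.hx ≤ c.R := by
  rintro a (rfl | ha)
  · exact one_mem _
  rw [c.invC_eq] at ha
  rcases ha with rfl | rfl | rfl
  · exact c.t_mem_R
  · exact c.e_mem_R
  · exact c.te_eq ▸ mul_mem c.t_mem_R c.e_mem_R

theorem mem_vSub_of_mem_R {r : G} (hr : r ∈ c.R) (hxr : c.x * r = r * c.x) :
    r ∈ vSub c.h c.hx := mem_vSub_of_two_pow c.h c.hx hxr (c.two_pow_of_mem_R hr)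

/-- The centralizer of the four-group in the core. -/
noncomputable def A : Subgroup G := c.R ⊓ centralizer ({c.e} : Set G)

theorem mem_A {g : G} : g ∈ c.A ↔ g ∈ c.R ∧ g * c.e = c.e * g :=
  mem_inf.trans (and_congr_right' mem_centralizer_singleton_iff)

theorem commute_t {r : G} (hr : r ∈ c.R) : r * c.t = c.t * r := c.mem_L.1 (c.R_le hr)

theorem commute_f {g : G} (hg : g ∈ c.A) : g * c.f = c.f * g := by
  obtain ⟨h1, h2⟩ := c.mem_A.1 hg
  rw [← c.te_eq, ← mul_assoc, c.commute_t h1, mul_assoc, h2, mul_assoc]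

theorem vSub_le_A : vSub c.h c.hx ≤ c.A := fun _ ha =>
  c.mem_A.2 ⟨c.vSub_le_R ha, commute_vSub c.h c.hx ha (Or.inr c.e_mem)⟩

theorem isPGroup_x : IsPGroup 3 (zpowers c.x) :=
  IsPGroup.of_card (n := 1) (by rw [Nat.card_zpowers, c.hx, pow_one])

theorem x_pow_L {k : G} (hk : k ∈ zpowers c.x) : k ∈ c.L := zpowers_le.2 c.x_mem_L hk

theorem x_pow_e {k : G} (hk : k ∈ zpowers c.x) : k * c.e = c.e * k := by
  have : c.x ∈ centralizer ({c.e} : Set G) := mem_centralizer_singleton_iff.2 c.e_mem.2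
  exact mem_centralizer_singleton_iff.1 (zpowers_le.2 this hk)

/-- Sets in the core invariant under `x` have congruent counts to their part in the four-group. -/
theorem ncard_mod_three (B : Set G) (hB : ∀ b ∈ B, b ∈ c.R)
    (hinv : ∀ k ∈ zpowers c.x, ∀ b ∈ B, k * b * k⁻¹ ∈ B) :
    B.ncard ≡ (B ∩ (vSub c.h c.hx : Set G)).ncard [MOD 3] := by
  have : Fact (Nat.Prime 3) := ⟨Nat.prime_three⟩
  refine (M12Nse.ncard_modEq_fixed c.isPGroup_x B hinv).trans (congrArg (fun n => n % 3) ?_)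
  congr 1
  ext b
  constructor
  · exact fun hb => ⟨hb.1, c.mem_vSub_of_mem_R (hB b hb.1) (hb.2 c.x (mem_zpowers _))⟩
  · refine fun hb => ⟨hb.1, fun k hk => ?_⟩
    have : c.x ∈ centralizer ({b} : Set G) :=
      mem_centralizer_singleton_iff.2 (comm_x_vSub c.h c.hx hb.2)
    exact mem_centralizer_singleton_iff.1 (zpowers_le.2 this hk)

theorem card_A_mod : Nat.card c.A % 3 = 1 := by
  have := c.ncard_mod_three (c.A : Set G) (fun b hb => (c.mem_A.1 hb).1) (fun k hk b hb => by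
    refine c.mem_A.2 ⟨c.conj_mem_R (c.x_pow_L hk) (c.mem_A.1 hb).1, ?_⟩
    have he := c.x_pow_e hk
    calc k * b * k⁻¹ * c.e = k * b * k⁻¹ * c.e * k * k⁻¹ := by group
      _ = k * b * k⁻¹ * (k * c.e) * k⁻¹ := by rw [he]; group
      _ = k * (b * c.e) * k⁻¹ := by group
      _ = k * (c.e * b) * k⁻¹ := by rw [(c.mem_A.1 hb).2]
      _ = c.e * (k * b * k⁻¹) := by rw [← mul_assoc k, he]; group)
  rw [Set.inter_eq_right.2 c.vSub_le_A, ← Nat.card_coe_set_eq, ← Nat.card_coe_set_eq] at this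
  rw [show Nat.card (vSub c.h c.hx : Set G) = 4 from card_vSub c.h c.hx] at this
  exact this

/-- No element of the core carries `e` to `f`. -/
theorem conj_ne_f {r : G} (hr : r ∈ c.R) : r * c.e * r⁻¹ ≠ c.f := by
  intro he
  set F : Set G := {g | g ∈ c.R ∧ g * c.e * g⁻¹ = c.f} with hF
  have k1 : ∀ a : c.A, r * a * c.e * (r * a)⁻¹ = c.f := fun a =>
    calc r * a * c.e * (r * a)⁻¹ = r * (a * c.e) * (a : G)⁻¹ * r⁻¹ := by group
      _ = r * (c.e * a) * (a : G)⁻¹ * r⁻¹ := by rw [(c.mem_A.1 a.2).2]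
      _ = r * c.e * r⁻¹ := by group
      _ = c.f := he
  have k2 : ∀ g : F, r⁻¹ * g * c.e = c.e * (r⁻¹ * g) := fun g =>
    calc r⁻¹ * g * c.e = r⁻¹ * (g * c.e * (g : G)⁻¹) * g := by group
      _ = r⁻¹ * (r * c.e * r⁻¹) * g := by rw [g.2.2, he]
      _ = c.e * (r⁻¹ * g) := by group
  let eqv : c.A ≃ F :=
    { toFun := fun a => ⟨r * a, mul_mem hr (c.mem_A.1 a.2).1, k1 a⟩
      invFun := fun g => ⟨r⁻¹ * g, c.mem_A.2 ⟨mul_mem (inv_mem hr) g.2.1, k2 g⟩⟩
      left_inv := fun a => Subtype.ext (inv_mul_cancel_left r (a : G))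
      right_inv := fun g => Subtype.ext (mul_inv_cancel_left r (g : G)) }
  have hbij : F.ncard = Nat.card c.A := by
    rw [← Nat.card_coe_set_eq]
    exact (Nat.card_congr eqv).symm
  have h := c.ncard_mod_three F (fun b hb => hb.1) (fun k hk b hb => by
    refine ⟨c.conj_mem_R (c.x_pow_L hk) hb.1, ?_⟩
    have hkf : k * c.f = c.f * k := by
      have : c.x ∈ centralizer ({c.f} : Set G) := mem_centralizer_singleton_iff.2 c.f_mem.2
      exact mem_centralizer_singleton_iff.1 (zpowers_le.2 this hk)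
    have hke := c.x_pow_e hk
    have : k⁻¹ * c.e = c.e * k⁻¹ := (Commute.inv_left hke).eq
    calc k * b * k⁻¹ * c.e * (k * b * k⁻¹)⁻¹ = k * b * (k⁻¹ * c.e) * k * b⁻¹ * k⁻¹ := by group
      _ = k * (b * c.e * b⁻¹) * k⁻¹ := by rw [this]; group
      _ = c.f := by rw [hb.2, hkf, mul_inv_cancel_right])
  rw [show F ∩ (vSub c.h c.hx : Set G) = ∅ from Set.eq_empty_of_forall_notMem fun b hb => c.e_ne_f (by
    have h2 := hb.1.2
    rwa [commute_vSub c.h c.hx hb.2 (Or.inr c.e_mem), mul_inv_cancel_right] at h2),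
    Set.ncard_empty, hbij] at h
  have := c.card_A_mod
  unfold Nat.ModEq at h
  omega

/-- The 2-elements of `C(t) ∩ C(e)` lie in the core. -/
theorem mem_A_of_two_pow {g : G} (hgt : g * c.t = c.t * g) (hge : g * c.e = c.e * g) {k : ℕ}
    (hk : orderOf g ∣ 2 ^ k) : g ∈ c.A := by
  refine c.mem_A.2 ⟨?_, hge⟩
  set D := c.L ⊓ centralizer ({c.e} : Set G) with hD
  set K := D ⊔ c.R with hK
  have hDN : D ≤ normalizer (c.R : Set G) := inf_le_left.trans c.L_norm_R
  have hKL : K ≤ c.L := sup_le inf_le_left c.R_le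
  have hxD : c.x ∈ D := mem_inf.2 ⟨c.x_mem_L, mem_centralizer_singleton_iff.2 c.e_mem.2⟩
  have hxK : c.x ∈ K := mem_sup_left hxD
  have hwK : c.w ∉ K := by
    intro hw
    have hw' : c.w ∈ ((D ⊔ c.R : Subgroup G) : Set G) := hw
    rw [coe_mul_of_left_le_normalizer_right D c.R hDN] at hw'
    obtain ⟨d, hd, r, hr, hdr⟩ := Set.mem_mul.1 hw'
    have hde : d * c.e = c.e * d := mem_centralizer_singleton_iff.1 (mem_inf.1 hd).2
    have hdL : d ∈ c.L := (mem_inf.1 hd).1
    have hr' : d * r * d⁻¹ ∈ c.R := c.conj_mem_R hdL hr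
    refine c.conj_ne_f hr' ?_
    have h2 : d⁻¹ * c.e = c.e * d⁻¹ := (Commute.inv_left hde).eq
    calc d * r * d⁻¹ * c.e * (d * r * d⁻¹)⁻¹ = d * r * (d⁻¹ * c.e) * d * r⁻¹ * d⁻¹ := by group
      _ = d * r * c.e * r⁻¹ * d⁻¹ := by rw [h2]; group
      _ = (d * r) * c.e * (d * r)⁻¹ := by group
      _ = c.f := by rw [hdr, c.hwi, c.w_e]
  have h64 : 64 ∣ Nat.card K := c.card_R ▸ card_dvd_of_le le_sup_right
  have h3 : 3 ∣ Nat.card K := c.hx ▸ Subgroup.orderOf_dvd_natCard _ hxK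
  have hd : Nat.card K ∣ 384 := c.card_L ▸ card_dvd_of_le hKL
  have hne : Nat.card K ≠ 384 := fun e => hwK (by
    rw [eq_of_le_of_card_ge hKL (by rw [c.card_L, e])]; exact c.w_mem_L)
  have hK192 : Nat.card K = 192 := by
    obtain ⟨m, hm⟩ := Nat.lcm_dvd h64 h3
    rw [show Nat.lcm 64 3 = 192 by norm_num] at hm
    rw [hm] at hd hne ⊢
    have : m ∣ 2 := Nat.dvd_of_mul_dvd_mul_left (by norm_num : 0 < 192) (by simpa using hd)
    rcases (Nat.dvd_prime Nat.prime_two).1 this with e | e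
    · rw [e]
    · subst e; exact absurd rfl hne
  exact mem_of_index_three le_sup_right (hKL.trans c.L_norm_R) (by rw [hK192, c.card_R])
    (mem_sup_left (mem_inf.2 ⟨c.mem_L.2 hgt, mem_centralizer_singleton_iff.2 hge⟩)) hk

end Cfg

end CfsgLib.ClassK.M22Nse
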