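import Cfsg.Agent.Lib.ClassK.M22Nse.Core
import Mathlib.GroupTheory.Nilpotent

/-!
The elementary abelian subgroup of order sixteen normal in the centralizer of an involution.
-/

set_option autoImplicit false
set_option linter.unusedSectionVars false

namespace CfsgLib.ClassK.M22Nse

open Subgroup CfsgLib.StructB.OrderCount

universe u

variable {G : Type u} [Group G] [Finite G]

/-- A group acting freely by conjugation on a set divides its size. -/
theorem dvd_ncard_of_free {K : Subgroup G} (S : Set G) (hS : ∀ k ∈ K, ∀ s ∈ S, k * s * k⁻¹ ∈ S)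
    (hfree : ∀ k ∈ K, ∀ s ∈ S, k * s = s * k → k = 1) : Nat.card K ∣ S.ncard := by
  let inst : MulAction K S :=
    { smul := fun k t => ⟨(k : G) * t * (k : G)⁻¹, hS k k.2 t t.2⟩
      one_smul := fun t => Subtype.ext (show (1 : G) * t * (1 : G)⁻¹ = t by simp)
      mul_smul := fun k l t => Subtype.ext
        (show (k : G) * l * t * ((k : G) * l)⁻¹ = k * (l * t * (l : G)⁻¹) * (k : G)⁻¹ by group) }
  have h : ∀ b : S, MulAction.stabilizer K b = ⊥ := fun b => by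
    refine (eq_bot_iff_forall _).2 fun k hk => Subtype.ext ?_
    exact hfree k k.2 b b.2 (mul_inv_eq_iff_eq_mul.1 (congrArg Subtype.val hk))
  rw [← Nat.card_coe_set_eq, Nat.card_congr (MulAction.selfEquivOrbitsQuotientProd h), Nat.card_prod]
  exact dvd_mul_left _ _

/-- A normal subgroup of a 2-group is properly contained in the preimage of the center. -/
theorem exists_central_mod {R N : Subgroup G} (hR : IsPGroup 2 R) (hNR : N ≤ R)
    (hn : R ≤ normalizer (N : Set G)) (hlt : Nat.card N < Nat.card R) :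
    ∃ k ∈ R, k ∉ N ∧ ∀ r ∈ R, r * k * r⁻¹ * k⁻¹ ∈ N := by
  have : Fact (Nat.Prime 2) := ⟨Nat.prime_two⟩
  have hN : (N.subgroupOf R).Normal := normal_subgroupOf_of_le_normalizer hn
  have : Nontrivial (R ⧸ N.subgroupOf R) := by
    refine Finite.one_lt_card_iff_nontrivial.1 ?_
    have := (N.subgroupOf R).card_mul_index
    rw [Nat.card_congr (subgroupOfEquivOfLe hNR).toEquiv, Subgroup.index] at this
    by_contra hle
    have h0 : 0 < Nat.card (R ⧸ N.subgroupOf R) := Nat.card_pos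
    rw [show Nat.card (R ⧸ N.subgroupOf R) = 1 by omega, mul_one] at this
    omega
  have := (hR.to_quotient (N.subgroupOf R)).center_nontrivial
  obtain ⟨⟨z, hz⟩, hz1⟩ := exists_ne (1 : Subgroup.center (R ⧸ N.subgroupOf R))
  obtain ⟨⟨k, hk⟩, rfl⟩ := QuotientGroup.mk_surjective z
  refine ⟨k, hk, fun hkN => hz1 (Subtype.ext ((QuotientGroup.eq_one_iff _).2 hkN)), fun r hr => ?_⟩
  have e := mem_center_iff.1 hz (QuotientGroup.mk ⟨r, hr⟩)
  have h2 : QuotientGroup.mk (s := N.subgroupOf R)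
      ((⟨r, hr⟩ : R) * ⟨k, hk⟩ * ⟨r, hr⟩⁻¹ * ⟨k, hk⟩⁻¹) = 1 := by
    simp only [QuotientGroup.mk_mul, QuotientGroup.mk_inv]
    rw [e]
    group
  exact mem_subgroupOf.1 ((QuotientGroup.eq_one_iff _).1 h2)

/-- The product of two commuting subgroups. -/
def mulSub (U W : Subgroup G) (hc : ∀ u ∈ U, ∀ w ∈ W, u * w = w * u) : Subgroup G where
  carrier := {g | ∃ u ∈ U, ∃ w ∈ W, g = u * w}
  one_mem' := ⟨1, one_mem _, 1, one_mem _, (one_mul 1).symm⟩
  mul_mem' := by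
    rintro _ _ ⟨u, hu, w, hw, rfl⟩ ⟨u', hu', w', hw', rfl⟩
    refine ⟨u * u', mul_mem hu hu', w * w', mul_mem hw hw', ?_⟩
    calc u * w * (u' * w') = u * (w * u') * w' := by group
      _ = u * (u' * w) * w' := by rw [hc u' hu' w hw]
      _ = u * u' * (w * w') := by group
  inv_mem' := by
    rintro _ ⟨u, hu, w, hw, rfl⟩
    refine ⟨u⁻¹, inv_mem hu, w⁻¹, inv_mem hw, ?_⟩
    rw [mul_inv_rev, hc u⁻¹ (inv_mem hu) w⁻¹ (inv_mem hw)]

theorem mem_mulSub {U W : Subgroup G} {hc : ∀ u ∈ U, ∀ w ∈ W, u * w = w * u} {g : G} :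
    g ∈ mulSub U W hc ↔ ∃ u ∈ U, ∃ w ∈ W, g = u * w := Iff.rfl

theorem left_le_mulSub {U W : Subgroup G} {hc : ∀ u ∈ U, ∀ w ∈ W, u * w = w * u} :
    U ≤ mulSub U W hc := fun u hu => ⟨u, hu, 1, one_mem _, (mul_one u).symm⟩

theorem right_le_mulSub {U W : Subgroup G} {hc : ∀ u ∈ U, ∀ w ∈ W, u * w = w * u} :
    W ≤ mulSub U W hc := fun w hw => ⟨1, one_mem _, w, hw, (one_mul w).symm⟩

theorem card_mulSub {U W : Subgroup G} (hc : ∀ u ∈ U, ∀ w ∈ W, u * w = w * u)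
    (hd : ∀ g ∈ U, g ∈ W → g = 1) : Nat.card (mulSub U W hc) = Nat.card U * Nat.card W := by
  rw [← Nat.card_prod]
  refine (Nat.card_congr (Equiv.ofBijective
    (fun p : U × W => (⟨p.1 * p.2, p.1, p.1.2, p.2, p.2.2, rfl⟩ : mulSub U W hc)) ⟨?_, ?_⟩)).symm
  · rintro ⟨⟨a, ha⟩, ⟨b, hb⟩⟩ ⟨⟨a', ha'⟩, ⟨b', hb'⟩⟩ e
    have e : a * b = a' * b' := congrArg Subtype.val e
    have e2 : a'⁻¹ * a = b' * b⁻¹ := by
      calc a'⁻¹ * a = a'⁻¹ * (a * b) * b⁻¹ := by group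
        _ = b' * b⁻¹ := by rw [e]; group
    have h1 := hd _ (mul_mem (inv_mem ha') ha) (e2 ▸ mul_mem hb' (inv_mem hb))
    have haa : a' = a := inv_mul_eq_one.1 h1
    subst haa
    exact Prod.ext rfl (Subtype.ext (mul_left_cancel e))
  · rintro ⟨g, u, hu, w, hw, rfl⟩
    exact ⟨(⟨u, hu⟩, ⟨w, hw⟩), rfl⟩

theorem conj_mem_mulSub {U W : Subgroup G} {hc : ∀ u ∈ U, ∀ w ∈ W, u * w = w * u} {g z : G}
    (hU : ∀ u ∈ U, g * u * g⁻¹ ∈ mulSub U W hc) (hW : ∀ w ∈ W, g * w * g⁻¹ ∈ mulSub U W hc)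
    (hz : z ∈ mulSub U W hc) : g * z * g⁻¹ ∈ mulSub U W hc := by
  obtain ⟨u, hu, w, hw, rfl⟩ := hz
  rw [show g * (u * w) * g⁻¹ = (g * u * g⁻¹) * (g * w * g⁻¹) by group]
  exact mul_mem (hU u hu) (hW w hw)

theorem vSub_mul_self (h : Hyp G) {x : G} (hx : orderOf x = 3) {a : G} (ha : a ∈ vSub h hx) :
    a * a = 1 := by
  rcases ha with rfl | ha
  · exact one_mul 1
  · exact CfsgLib.Invol.invol_mul_self ha.1

theorem conj_mem_vSub (h : Hyp G) {x : G} (hx : orderOf x = 3) {g a : G} (hg : g * x = x * g)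
    (ha : a ∈ vSub h hx) : g * a * g⁻¹ ∈ vSub h hx := by
  rcases ha with rfl | ha
  · rw [mul_one, mul_inv_cancel]; exact one_mem _
  · exact Or.inr (conj_mem_invC hg ha)

namespace Cfg

variable (c : Cfg G)

theorem ne_one_of_x {a : G} (ha : orderOf a = 3) : a ≠ 1 := fun e => by
  rw [e, orderOf_one] at ha; norm_num at ha

theorem mem_zpowers_symm {a b : G} (ha : a ∈ (c.P : Subgroup G)) (hb : b ∈ (c.P : Subgroup G))
    (hb1 : b ≠ 1) (h : b ∈ zpowers a) : a ∈ zpowers b := by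
  have hle : zpowers b ≤ zpowers a := zpowers_le.2 h
  have ha1 : a ≠ 1 := fun e => hb1 (by rw [e, zpowers_one_eq_bot] at h; exact h)
  rw [eq_of_le_of_card_ge hle (by
    rw [Nat.card_zpowers, Nat.card_zpowers, orderOf_sylow_three c.h c.P ha ha1,
      orderOf_sylow_three c.h c.P hb hb1])]
  exact mem_zpowers a

/-- Four-groups of independent elements meet trivially. -/
theorem vSub_disjoint {a b : G} (ha : a ∈ (c.P : Subgroup G)) (hb : b ∈ (c.P : Subgroup G))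
    (ha3 : orderOf a = 3) (hb3 : orderOf b = 3) (hba : b ∉ zpowers a) {g : G}
    (hga : g ∈ vSub c.h ha3) (hgb : g ∈ vSub c.h hb3) : g = 1 := by
  rcases hga with e | hga
  · exact e
  exact absurd (comm_x_vSub c.h hb3 hgb) (c.not_comm_both ha hb (ne_one_of_x ha3) hba hga.1 hga.2)

theorem conj_vSub_P {a b g : G} (ha : a ∈ (c.P : Subgroup G)) (hb : b ∈ (c.P : Subgroup G))
    (hb3 : orderOf b = 3) (hg : g ∈ vSub c.h hb3) : a * g * a⁻¹ ∈ vSub c.h hb3 :=
  conj_mem_vSub c.h hb3 (sylow_comm c.h c.P ha hb) hg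

theorem conj_vSub_w {b g : G} (hb : b ∈ (c.P : Subgroup G)) (hb3 : orderOf b = 3)
    (hg : g ∈ vSub c.h hb3) : c.w * g * c.w⁻¹ ∈ vSub c.h hb3 := by
  rcases hg with rfl | hg
  · rw [mul_one, mul_inv_cancel]; exact one_mem _
  refine Or.inr ⟨by rw [CfsgLib.Invol.orderOf_conj_eq]; exact hg.1, ?_⟩
  have hbw : b = c.w * b⁻¹ * c.w⁻¹ := by rw [c.hwi, c.hinv b⁻¹ (inv_mem hb), inv_inv]
  have hg' : b⁻¹ * g = g * b⁻¹ := (Commute.inv_left hg.2).eq
  calc b * (c.w * g * c.w⁻¹) = (c.w * b⁻¹ * c.w⁻¹) * (c.w * g * c.w⁻¹) := by rw [← hbw]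
    _ = c.w * (b⁻¹ * g) * c.w⁻¹ := by group
    _ = c.w * (g * b⁻¹) * c.w⁻¹ := by rw [hg']
    _ = (c.w * g * c.w⁻¹) * (c.w * b⁻¹ * c.w⁻¹) := by group
    _ = (c.w * g * c.w⁻¹) * b := by rw [← hbw]

theorem commute_A {g v : G} (hg : g ∈ c.A) (hv : v ∈ vSub c.h c.hx) : g * v = v * g := by
  rcases hv with rfl | hv
  · simp
  rw [c.invC_eq] at hv
  rcases hv with rfl | rfl | rfl
  · exact c.commute_t (c.mem_A.1 hg).1
  · exact (c.mem_A.1 hg).2
  · exact c.commute_f hg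

theorem conj_A {a g : G} (ha : a ∈ (c.P : Subgroup G)) (hg : g ∈ c.A) : a * g * a⁻¹ ∈ c.A := by
  have key : ∀ v ∈ vSub c.h c.hx, a * g * a⁻¹ * v = v * (a * g * a⁻¹) := by
    intro v hv
    have hv' : a⁻¹ * v * a ∈ vSub c.h c.hx := by
      have := c.conj_vSub_P (inv_mem ha) c.hxP c.hx hv
      rwa [inv_inv] at this
    calc a * g * a⁻¹ * v = a * (g * (a⁻¹ * v * a)) * a⁻¹ := by group
      _ = a * ((a⁻¹ * v * a) * g) * a⁻¹ := by rw [c.commute_A hg hv']
      _ = v * (a * g * a⁻¹) := by group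
  refine c.mem_A_of_two_pow (key _ (Or.inr c.t_mem)) (key _ (Or.inr c.e_mem)) (k := 6) ?_
  rw [CfsgLib.Invol.orderOf_conj_eq]
  exact c.two_pow_of_mem_R (c.mem_A.1 hg).1

theorem card_A_cases : Nat.card c.A = 16 ∨ Nat.card c.A = 64 := by
  have hd : Nat.card c.A ∣ 64 := c.card_R ▸ card_dvd_of_le (inf_le_left : c.A ≤ c.R)
  have h4 : 4 ≤ Nat.card c.A := card_vSub c.h c.hx ▸ Subgroup.card_le_of_le c.vSub_le_A
  have hm := c.card_A_mod
  have : ∀ m ∈ Nat.divisors 64, 4 ≤ m → m % 3 = 1 → m = 4 ∨ m = 16 ∨ m = 64 := by decide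
  rcases this _ (Nat.mem_divisors.2 ⟨hd, by norm_num⟩) h4 hm with h | h | h
  swap; · exact Or.inl h
  swap; · exact Or.inr h
  exfalso
  -- an element central modulo `t`
  have hzR : zpowers c.t ≤ c.R := zpowers_le.2 c.t_mem_R
  have hz2 : Nat.card (zpowers c.t) = 2 := by rw [Nat.card_zpowers, c.ht]
  have hzn : c.R ≤ normalizer (zpowers c.t : Set G) := fun r hr => mem_normalizer_of_conj fun s hs => by
    have : zpowers c.t ≤ centralizer ({r} : Set G) :=
      zpowers_le.2 (mem_centralizer_singleton_iff.2 (c.commute_t hr).symm)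
    rw [← mem_centralizer_singleton_iff.1 (this hs), mul_inv_cancel_right]
    exact hs
  obtain ⟨k, hk, hkt, hcen⟩ := exists_central_mod c.isPGroup_R hzR hzn (by rw [hz2, c.card_R]; norm_num)
  have hz : ∀ {z : G}, z ∈ zpowers c.t → z = 1 ∨ z = c.t := by
    intro z hz
    obtain ⟨j, rfl⟩ := mem_powers_iff_mem_zpowers.2 hz
    show c.t ^ j = 1 ∨ c.t ^ j = c.t
    rw [← pow_mod_orderOf, c.ht]
    rcases Nat.mod_two_eq_zero_or_one j with e | e <;> rw [e] <;> simp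
  have hcen' : ∀ r ∈ c.R, r * k * r⁻¹ = k ∨ r * k * r⁻¹ = c.t * k := fun r hr => by
    rcases hz (hcen r hr) with e | e
    · exact Or.inl (mul_inv_eq_one.1 e)
    · exact Or.inr (mul_inv_eq_iff_eq_mul.1 e)
  have hke : k * c.e = c.e * k := by
    rcases hcen' _ c.e_mem_R with e | e
    · exact (mul_inv_eq_iff_eq_mul.1 e).symm
    · refine absurd ?_ (c.conj_ne_f hk)
      have e' := mul_inv_eq_iff_eq_mul.1 e
      have hkt : k * c.t = c.t * k := c.commute_t hk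
      calc k * c.e * k⁻¹ = k * (c.t * c.t) * c.e * k⁻¹ := by
            rw [CfsgLib.Invol.invol_mul_self c.ht, mul_one]
        _ = c.t * (c.t * k * c.e) * k⁻¹ := by rw [← mul_assoc k, hkt, mul_assoc c.t k, hkt]; group
        _ = c.t * c.e := by rw [← e']; group
        _ = c.f := c.te_eq
  have hAV : c.A = vSub c.h c.hx :=
    (eq_of_le_of_card_ge c.vSub_le_A (by rw [h, card_vSub c.h c.hx])).symm
  have hkV : k ∈ vSub c.h c.hx := hAV ▸ c.mem_A.2 ⟨hk, hke⟩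
  have hall : ∀ r ∈ c.R, r * c.e = c.e * r := by
    intro r hr
    have hrt : r * c.t = c.t * r := c.commute_t hr
    rcases hkV with e | e
    · exact absurd (e ▸ one_mem _) hkt
    rw [c.invC_eq] at e
    rcases e with e | e | e
    · exact absurd (e ▸ mem_zpowers _) hkt
    · subst e
      rcases hcen' r hr with e | e
      · exact mul_inv_eq_iff_eq_mul.1 e
      · exact absurd (e.trans c.te_eq) (c.conj_ne_f hr)
    · have e' : k = c.f := e
      subst e'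
      rcases hcen' r hr with e | e
      · have hf := mul_inv_eq_iff_eq_mul.1 e
        have he : c.e = c.t * c.f := by
          rw [← c.te_eq, ← mul_assoc, CfsgLib.Invol.invol_mul_self c.ht, one_mul]
        rw [he, ← mul_assoc, hrt, mul_assoc, hf, mul_assoc]
      · refine absurd ?_ (c.conj_ne_f hr)
        have he : c.e = c.t * c.f := by
          rw [← c.te_eq, ← mul_assoc, CfsgLib.Invol.invol_mul_self c.ht, one_mul]
        calc r * c.e * r⁻¹ = r * c.t * (c.f * r⁻¹) := by rw [he]; group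
          _ = c.t * (r * c.f * r⁻¹) := by rw [hrt]; group
          _ = c.f := by rw [e, ← mul_assoc, CfsgLib.Invol.invol_mul_self c.ht, one_mul]
  have : c.A = c.R := le_antisymm inf_le_left fun r hr => c.mem_A.2 ⟨hr, hall r hr⟩
  rw [this, c.card_R] at h
  norm_num at h

/-- A four-group of another element inside an invariant subgroup of the core. -/
theorem exists_other (B : Subgroup G) (hB : B ≤ c.R)
    (hPB : ∀ a ∈ (c.P : Subgroup G), ∀ b ∈ B, a * b * a⁻¹ ∈ B) (S0 : Set G)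
    (hS0 : ∀ a ∈ (c.P : Subgroup G), ∀ s ∈ S0, a * s * a⁻¹ ∈ S0) (hV : ∀ v ∈ vSub c.h c.hx, v ∈ S0)
    (hcount : ¬ 9 ∣ ((B : Set G) \ S0).ncard) :
    ∃ a : G, ∃ ha3 : orderOf a = 3, a ∈ (c.P : Subgroup G) ∧ a ∉ zpowers c.x ∧
      vSub c.h ha3 ≤ B ∧ ∃ s, s ∈ vSub c.h ha3 ∧ s ∉ S0 := by
  by_contra hno
  refine hcount ?_
  have h9 : Nat.card (c.P : Subgroup G) = 9 := card_sylow_three c.h c.P
  rw [← h9]
  refine dvd_ncard_of_free _ (fun a ha s hs => ⟨hPB a ha s hs.1, fun h' => hs.2 ?_⟩) ?_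
  · have := hS0 _ (inv_mem ha) _ h'
    rwa [show a⁻¹ * (a * s * a⁻¹) * a⁻¹⁻¹ = s by group] at this
  intro a ha s hs has
  by_contra ha1
  have ha3 := orderOf_sylow_three c.h c.P ha ha1
  have hsV : s ∈ vSub c.h ha3 := mem_vSub_of_two_pow c.h ha3 has (c.two_pow_of_mem_R (hB hs.1))
  have hax : a ∉ zpowers c.x := fun h => by
    have hx' := c.mem_zpowers_symm c.hxP ha ha1 h
    have : zpowers a ≤ centralizer ({s} : Set G) := zpowers_le.2 (mem_centralizer_singleton_iff.2 has)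
    exact hs.2 (hV s (c.mem_vSub_of_mem_R (hB hs.1) (mem_centralizer_singleton_iff.1 (this hx'))))
  refine hno ⟨a, ha3, ha, hax, ?_, s, hsV, hs.2⟩
  have hs' : s ∈ invC a := hsV.resolve_left fun e => hs.2 (hV s (e ▸ one_mem _))
  have hxs : c.x * s * c.x⁻¹ ∈ invC a := conj_mem_invC (sylow_comm c.h c.P c.hxP ha) hs'
  have hne : c.x * s * c.x⁻¹ ≠ s := fun e => hs.2 (hV s
    (c.mem_vSub_of_mem_R (hB hs.1) (mul_inv_eq_iff_eq_mul.1 e)))
  have h3 := (invC_mul c.h ha3 hs' hxs hne.symm).1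
  have d1 : s * (c.x * s * c.x⁻¹) ≠ s := fun e =>
    CfsgLib.Invol.invol_ne_one hxs.1 (mul_eq_left.1 e)
  have d2 : s * (c.x * s * c.x⁻¹) ≠ c.x * s * c.x⁻¹ := fun e =>
    CfsgLib.Invol.invol_ne_one hs'.1 (mul_eq_right.1 e)
  have heq : ({s, c.x * s * c.x⁻¹, s * (c.x * s * c.x⁻¹)} : Set G) = invC a := by
    refine Set.eq_of_subset_of_ncard_le ?_ ?_ (Set.toFinite _)
    · intro z hz
      rcases hz with rfl | rfl | rfl <;> assumption
    · rw [ncard_invC c.h ha3, Set.ncard_insert_of_notMem (by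
        simp only [Set.mem_insert_iff, Set.mem_singleton_iff, not_or]
        exact ⟨hne.symm, d1.symm⟩) (Set.toFinite _), Set.ncard_pair d2.symm]
  intro z hz
  rcases hz with rfl | hz
  · exact one_mem _
  rw [← heq] at hz
  rcases hz with rfl | rfl | rfl
  · exact hs.1
  · exact hPB _ c.hxP _ hs.1
  · exact mul_mem hs.1 (hPB _ c.hxP _ hs.1)

theorem ncard_diff_vSub {B : Subgroup G} (hV : vSub c.h c.hx ≤ B) :
    ((B : Set G) \ (vSub c.h c.hx : Set G)).ncard = Nat.card B - 4 := by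
  rw [Set.ncard_sdiff hV (Set.toFinite _), ← Nat.card_coe_set_eq, ← Nat.card_coe_set_eq]
  show Nat.card B - Nat.card (vSub c.h c.hx) = _
  rw [card_vSub c.h c.hx]

theorem card_mod_of_invariant {B : Subgroup G} (hB : B ≤ c.R) (hV : vSub c.h c.hx ≤ B)
    (hx : ∀ b ∈ B, c.x * b * c.x⁻¹ ∈ B) : Nat.card B % 3 = 1 := by
  have := c.ncard_mod_three (B : Set G) hB (fun k hk b hb =>
    conj_mem_of_le_normalizer (zpowers_le.2 (mem_normalizer_of_conj hx)) hk hb)
  rw [Set.inter_eq_right.2 hV, ← Nat.card_coe_set_eq, ← Nat.card_coe_set_eq] at this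
  rw [show Nat.card (vSub c.h c.hx : Set G) = 4 from card_vSub c.h c.hx] at this
  exact this

/-- When the core centralizes the four-group it is a product of three four-groups. -/
theorem decomp (h64 : Nat.card c.A = 64) :
    ∃ a b : G, ∃ ha3 : orderOf a = 3, ∃ hb3 : orderOf b = 3,
      a ∈ (c.P : Subgroup G) ∧ a ∉ zpowers c.x ∧ b ∈ (c.P : Subgroup G) ∧
      vSub c.h ha3 ≤ c.R ∧
      (∀ r ∈ c.R, ∀ u ∈ vSub c.h ha3, r * u * r⁻¹ * u⁻¹ ∈ vSub c.h c.hx) ∧
      (∀ r ∈ c.R, ∃ v ∈ vSub c.h c.hx, ∃ u ∈ vSub c.h ha3, ∃ s ∈ vSub c.h hb3, r = v * u * s) ∧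
      ∀ r ∈ c.R, ∀ s ∈ c.R, r * s * r⁻¹ * s⁻¹ ∈ vSub c.h c.hx := by
  have hAR : c.A = c.R := eq_of_le_of_card_ge inf_le_left (by rw [h64, c.card_R])
  have hRA : ∀ {r : G}, r ∈ c.R → r ∈ c.A := fun hr => hAR ▸ hr
  have hcV : ∀ {r v : G}, r ∈ c.R → v ∈ vSub c.h c.hx → r * v = v * r :=
    fun hr hv => c.commute_A (hRA hr) hv
  have hPR : ∀ a ∈ (c.P : Subgroup G), ∀ b ∈ c.R, a * b * a⁻¹ ∈ c.R := fun a ha b hb =>
    hAR ▸ c.conj_A ha (hRA hb)
  have hconj : ∀ {r v : G}, r ∈ c.R → v ∈ vSub c.h c.hx → r * v * r⁻¹ = v := fun hr hv => by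
    rw [hcV hr hv, mul_inv_cancel_right]
  let B : Subgroup G :=
    { carrier := {b | b ∈ c.R ∧ ∀ r ∈ c.R, r * b * r⁻¹ * b⁻¹ ∈ vSub c.h c.hx}
      one_mem' := ⟨one_mem _, fun r _ => by simp⟩
      mul_mem' := by
        rintro a b ⟨ha, ha'⟩ ⟨hb, hb'⟩
        refine ⟨mul_mem ha hb, fun r hr => ?_⟩
        rw [show r * (a * b) * r⁻¹ * (a * b)⁻¹ =
          (r * a * r⁻¹ * a⁻¹) * (a * (r * b * r⁻¹ * b⁻¹) * a⁻¹) by group]
        exact mul_mem (ha' r hr) (by rw [hconj ha (hb' r hr)]; exact hb' r hr)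
      inv_mem' := by
        rintro a ⟨ha, ha'⟩
        refine ⟨inv_mem ha, fun r hr => ?_⟩
        rw [show r * a⁻¹ * r⁻¹ * a⁻¹⁻¹ = a⁻¹ * (r * a * r⁻¹ * a⁻¹)⁻¹ * a⁻¹⁻¹ by group,
          hconj (inv_mem ha) (inv_mem (ha' r hr))]
        exact inv_mem (ha' r hr) }
  have hBR : B ≤ c.R := fun b hb => hb.1
  have hVB : vSub c.h c.hx ≤ B := fun v hv => ⟨c.vSub_le_R hv, fun r hr => by
    rw [hconj hr hv, mul_inv_cancel]; exact one_mem _⟩
  have hPB : ∀ a ∈ (c.P : Subgroup G), ∀ b ∈ B, a * b * a⁻¹ ∈ B := fun a ha b hb => by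
    refine ⟨hPR a ha b hb.1, fun r hr => ?_⟩
    have hr' : a⁻¹ * r * a ∈ c.R := by
      have := hPR _ (inv_mem ha) r hr
      rwa [inv_inv] at this
    rw [show r * (a * b * a⁻¹) * r⁻¹ * (a * b * a⁻¹)⁻¹ =
      a * ((a⁻¹ * r * a) * b * (a⁻¹ * r * a)⁻¹ * b⁻¹) * a⁻¹ by group]
    exact c.conj_vSub_P ha c.hxP c.hx (hb.2 _ hr')
  have hmod := c.card_mod_of_invariant hBR hVB (hPB _ c.hxP)
  have hBd : Nat.card B ∣ 64 := c.card_R ▸ card_dvd_of_le hBR
  have hB4 : 4 < Nat.card B := by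
    obtain ⟨k, hk, hkV, hcen⟩ := exists_central_mod c.isPGroup_R c.vSub_le_R
      (fun r hr => mem_normalizer_of_conj fun v hv => by rw [hconj hr hv]; exact hv)
      (by rw [card_vSub c.h c.hx, c.card_R]; norm_num)
    rw [← card_vSub c.h c.hx]
    refine lt_of_le_of_ne (Subgroup.card_le_of_le hVB) fun e => hkV ?_
    exact (eq_of_le_of_card_ge hVB e.ge).symm ▸ (⟨hk, hcen⟩ : k ∈ B)
  have hB : Nat.card B = 16 ∨ Nat.card B = 64 := by
    have : ∀ m ∈ Nat.divisors 64, 4 < m → m % 3 = 1 → m = 16 ∨ m = 64 := by decide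
    exact this _ (Nat.mem_divisors.2 ⟨hBd, by norm_num⟩) hB4 hmod
  obtain ⟨a, ha3, haP, hax, haB, -⟩ := c.exists_other B hBR hPB (vSub c.h c.hx : Set G)
    (fun a ha s hs => c.conj_vSub_P ha c.hxP c.hx hs) (fun _ hv => hv)
    (by rw [c.ncard_diff_vSub hVB]; rcases hB with e | e <;> rw [e] <;> norm_num)
  have hca : ∀ u ∈ vSub c.h c.hx, ∀ v ∈ vSub c.h ha3, u * v = v * u :=
    fun u hu v hv => (hcV (hBR (haB hv)) hu).symm
  set E := mulSub _ _ hca with hE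
  have hEc : Nat.card E = 16 := by
    rw [card_mulSub hca fun g hg hg' => c.vSub_disjoint c.hxP haP c.hx ha3 hax hg hg',
      card_vSub c.h c.hx, card_vSub c.h ha3]
  have hER : E ≤ c.R := by
    rintro g ⟨u, hu, v, hv, rfl⟩
    exact mul_mem (c.vSub_le_R hu) (hBR (haB hv))
  set S0 : Set G := (vSub c.h c.hx : Set G) ∪ (vSub c.h ha3 : Set G) with hS0
  have hS7 : S0.ncard = 7 := by
    have h1 := Set.ncard_union_add_ncard_inter (vSub c.h c.hx : Set G) (vSub c.h ha3 : Set G)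
      (Set.toFinite _) (Set.toFinite _)
    have h2 : (vSub c.h c.hx : Set G) ∩ (vSub c.h ha3 : Set G) = {1} := by
      ext g
      refine ⟨fun hg => c.vSub_disjoint c.hxP haP c.hx ha3 hax hg.1 hg.2, ?_⟩
      rintro rfl
      exact ⟨one_mem _, one_mem _⟩
    rw [h2, Set.ncard_singleton, ← Nat.card_coe_set_eq (vSub c.h c.hx : Set G),
      ← Nat.card_coe_set_eq (vSub c.h ha3 : Set G),
      show Nat.card (vSub c.h c.hx : Set G) = 4 from card_vSub c.h c.hx,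
      show Nat.card (vSub c.h ha3 : Set G) = 4 from card_vSub c.h ha3] at h1
    rw [hS0]
    omega
  obtain ⟨b, hb3, hbP, hbx, hbR, s0, hs0, hs0S⟩ := c.exists_other c.R le_rfl hPR S0
    (fun a' ha' s hs => hs.imp (fun h => c.conj_vSub_P ha' c.hxP c.hx h)
      (fun h => c.conj_vSub_P ha' haP ha3 h)) (fun v hv => Or.inl hv) (by
    rw [Set.ncard_sdiff (Set.union_subset c.vSub_le_R fun g hg => hBR (haB hg)) (Set.toFinite _),
      hS7, ← Nat.card_coe_set_eq]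
    show ¬ 9 ∣ Nat.card c.R - 7
    rw [c.card_R]; norm_num)
  have hba : b ∉ zpowers a := fun h => by
    refine hs0S (Or.inr ?_)
    have hab := c.mem_zpowers_symm haP hbP (ne_one_of_x hb3) h
    have : zpowers b ≤ centralizer ({s0} : Set G) :=
      zpowers_le.2 (mem_centralizer_singleton_iff.2 (comm_x_vSub c.h hb3 hs0))
    exact mem_vSub_of_two_pow c.h ha3 (mem_centralizer_singleton_iff.1 (this hab))
      (c.two_pow_of_mem_R (hbR hs0))
  have hdis : ∀ g ∈ E, g ∈ vSub c.h hb3 → g = 1 := by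
    rintro g ⟨u, hu, v, hv, rfl⟩ hg
    have hbg := comm_x_vSub c.h hb3 hg
    have hu' := c.conj_vSub_P hbP c.hxP c.hx hu
    have hv' := c.conj_vSub_P hbP haP ha3 hv
    have e1 : u⁻¹ * (b * u * b⁻¹) = v * (b * v * b⁻¹)⁻¹ := by
      calc u⁻¹ * (b * u * b⁻¹) = u⁻¹ * (b * (u * v) * b⁻¹) * (b * v * b⁻¹)⁻¹ := by group
        _ = u⁻¹ * (u * v) * (b * v * b⁻¹)⁻¹ := by rw [hbg, mul_inv_cancel_right]
        _ = v * (b * v * b⁻¹)⁻¹ := by group
    have h1 := c.vSub_disjoint c.hxP haP c.hx ha3 hax (mul_mem (inv_mem hu) hu')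
      (e1 ▸ mul_mem hv (inv_mem hv'))
    have h2 : v * (b * v * b⁻¹)⁻¹ = 1 := e1 ▸ h1
    have hub : b * u = u * b := mul_inv_eq_iff_eq_mul.1 (inv_mul_eq_one.1 h1).symm
    have hvb : b * v = v * b := mul_inv_eq_iff_eq_mul.1 (mul_inv_eq_one.1 h2).symm
    have hu1 : u = 1 := by
      rcases hu with e | hu
      · exact e
      · exact absurd hub (c.not_comm_both c.hxP hbP (ne_one_of_x c.hx) hbx hu.1 hu.2)
    have hv1 : v = 1 := by
      rcases hv with e | hv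
      · exact e
      · exact absurd hvb (c.not_comm_both haP hbP (ne_one_of_x ha3) hba hv.1 hv.2)
    rw [hu1, hv1, one_mul]
  have hsur : ∀ r ∈ c.R, ∃ v ∈ vSub c.h c.hx, ∃ u ∈ vSub c.h ha3, ∃ s ∈ vSub c.h hb3,
      r = v * u * s := by
    have himg : Set.image2 (· * ·) (E : Set G) (vSub c.h hb3 : Set G) = (c.R : Set G) := by
      refine Set.eq_of_subset_of_ncard_le ?_ ?_ (Set.toFinite _)
      · rintro _ ⟨g, hg, s, hs, rfl⟩
        exact mul_mem (hER hg) (hbR hs)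
      · rw [← Set.image_prod, Set.InjOn.ncard_image ?_, Set.ncard_prod]
        · rw [← Nat.card_coe_set_eq, ← Nat.card_coe_set_eq, ← Nat.card_coe_set_eq]
          show Nat.card c.R ≤ Nat.card E * Nat.card (vSub c.h hb3)
          rw [c.card_R, hEc, card_vSub c.h hb3]
        · rintro ⟨g, s⟩ ⟨hg, hs⟩ ⟨g', s'⟩ ⟨hg', hs'⟩ e
          have e : g * s = g' * s' := e
          have e2 : g'⁻¹ * g = s' * s⁻¹ := by
            calc g'⁻¹ * g = g'⁻¹ * (g * s) * s⁻¹ := by group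
              _ = s' * s⁻¹ := by rw [e]; group
          have h1 := hdis _ (mul_mem (inv_mem hg') hg) (e2 ▸ mul_mem hs' (inv_mem hs))
          have hgg : g' = g := inv_mul_eq_one.1 h1
          subst hgg
          rw [mul_left_cancel e]
    intro r hr
    have hr' : r ∈ Set.image2 (· * ·) (E : Set G) (vSub c.h hb3 : Set G) := by rw [himg]; exact hr
    obtain ⟨g, ⟨v, hv, u, hu, rfl⟩, s, hs, rfl⟩ := hr'
    exact ⟨v, hv, u, hu, s, hs, rfl⟩
  refine ⟨a, b, ha3, hb3, haP, hax, hbP, fun u hu => hBR (haB hu),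
    fun r hr u hu => (haB hu).2 r hr, hsur, fun r hr s hs => ?_⟩
  suffices hB' : c.R ≤ B from (hB' hs).2 r hr
  intro g hg
  obtain ⟨v, hv, u, hu, s', hs', rfl⟩ := hsur g hg
  refine mul_mem (mul_mem (hVB hv) (haB hu)) ⟨hbR hs', fun r hr => ?_⟩
  obtain ⟨v', hv', u', hu', s'', hs'', rfl⟩ := hsur r hr
  have h1 := (haB hu').2 s' (hbR hs')
  have hu'R : u' ∈ c.R := hBR (haB hu')
  rw [show v' * u' * s'' * s' * (v' * u' * s'')⁻¹ * s'⁻¹ =
      v' * u' * (s'' * s' * s''⁻¹) * u'⁻¹ * v'⁻¹ * s'⁻¹ by group,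
    commute_vSub c.h hb3 hs'' hs', mul_inv_cancel_right]
  rw [show v' * u' * s' * u'⁻¹ * v'⁻¹ * s'⁻¹ =
      v' * (s' * u' * s'⁻¹ * u'⁻¹)⁻¹ * (s' * v'⁻¹ * s'⁻¹) by group,
    hconj (hbR hs') (inv_mem hv')]
  exact mul_mem (mul_mem hv' (inv_mem h1)) (inv_mem hv')

theorem commute_of_le_A {a : G} {ha3 : orderOf a = 3} (hle : vSub c.h ha3 ≤ c.A) :
    ∀ u ∈ vSub c.h c.hx, ∀ v ∈ vSub c.h ha3, u * v = v * u :=
  fun _ hu _ hv => (c.commute_A (hle hv) hu).symm

/-- The product of the two four-groups. -/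
noncomputable def E {a : G} {ha3 : orderOf a = 3} (hle : vSub c.h ha3 ≤ c.A) : Subgroup G :=
  mulSub _ _ (c.commute_of_le_A hle)

theorem E_le_A {a : G} {ha3 : orderOf a = 3} (hle : vSub c.h ha3 ≤ c.A) : c.E hle ≤ c.A := by
  rintro g ⟨u, hu, v, hv, rfl⟩
  exact mul_mem (c.vSub_le_A hu) (hle hv)

theorem card_E {a : G} {ha3 : orderOf a = 3} (haP : a ∈ (c.P : Subgroup G)) (hax : a ∉ zpowers c.x)
    (hle : vSub c.h ha3 ≤ c.A) : Nat.card (c.E hle) = 16 := by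
  rw [Cfg.E, card_mulSub _ fun g hg hg' => c.vSub_disjoint c.hxP haP c.hx ha3 hax hg hg',
    card_vSub c.h c.hx, card_vSub c.h ha3]

theorem E_mul_self {a : G} {ha3 : orderOf a = 3} (hle : vSub c.h ha3 ≤ c.A) {g : G}
    (hg : g ∈ c.E hle) : g * g = 1 := by
  obtain ⟨u, hu, v, hv, rfl⟩ := hg
  calc u * v * (u * v) = u * (v * u) * v := by group
    _ = u * u * (v * v) := by rw [← c.commute_of_le_A hle u hu v hv]; group
    _ = 1 := by rw [vSub_mul_self c.h c.hx hu, vSub_mul_self c.h ha3 hv, one_mul]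

theorem P_norm_E {a : G} {ha3 : orderOf a = 3} (haP : a ∈ (c.P : Subgroup G))
    (hle : vSub c.h ha3 ≤ c.A) : (c.P : Subgroup G) ≤ normalizer (c.E hle : Set G) := fun _ hg =>
  mem_normalizer_of_conj fun _ hs => conj_mem_mulSub
    (fun _ hu => left_le_mulSub (c.conj_vSub_P hg c.hxP c.hx hu))
    (fun _ hv => right_le_mulSub (c.conj_vSub_P hg haP ha3 hv)) hs

/-- The product of the two four-groups is normal in `C(t)`. -/
theorem L_norm_E {a : G} {ha3 : orderOf a = 3} (haP : a ∈ (c.P : Subgroup G))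
    (hax : a ∉ zpowers c.x) (hle : vSub c.h ha3 ≤ c.A) : c.L ≤ normalizer (c.E hle : Set G) := by
  have : Fact (Nat.Prime 2) := ⟨Nat.prime_two⟩
  refine c.L_le_of ?_ (c.P_norm_E haP hle c.hxP) (mem_normalizer_of_conj fun s hs => conj_mem_mulSub
    (fun u hu => left_le_mulSub (c.conj_vSub_w c.hxP c.hx hu))
    (fun v hv => right_le_mulSub (c.conj_vSub_w haP ha3 hv)) hs)
  rcases c.card_A_cases with h16 | h64
  · have hEA : c.E hle = c.A :=
      eq_of_le_of_card_ge (c.E_le_A hle) (by rw [h16, c.card_E haP hax hle])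
    rw [hEA]
    set N := c.R ⊓ normalizer (c.A : Set G) with hN
    have hAN : c.A ≤ N := le_inf inf_le_left le_normalizer
    have hxN : ∀ b ∈ N, c.x * b * c.x⁻¹ ∈ N := fun b hb => by
      have hxn : c.x ∈ normalizer (c.A : Set G) :=
        mem_normalizer_of_conj fun s hs => c.conj_A c.hxP hs
      exact mem_inf.2 ⟨c.conj_mem_R c.x_mem_L (mem_inf.1 hb).1,
        mul_mem (mul_mem hxn (mem_inf.1 hb).2) (inv_mem hxn)⟩
    have hmod := c.card_mod_of_invariant inf_le_left (c.vSub_le_A.trans hAN) hxN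
    have h16d : 16 ∣ Nat.card N := h16 ▸ card_dvd_of_le hAN
    have hd : Nat.card N ∣ 64 := c.card_R ▸ card_dvd_of_le inf_le_left
    have hgt : 16 < Nat.card N := by
      rw [← h16]
      refine lt_of_le_of_ne (Subgroup.card_le_of_le hAN) fun e => ?_
      have hAN' := eq_of_le_of_card_ge hAN e.ge
      have hnil := c.isPGroup_R.isNilpotent
      have hlt : c.A.subgroupOf c.R < ⊤ := lt_top_iff_ne_top.2 fun h => by
        have := Subgroup.card_le_of_le (subgroupOf_eq_top.1 h)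
        rw [h16, c.card_R] at this
        norm_num at this
      obtain ⟨g, hg, hg'⟩ := SetLike.exists_of_lt (Group.normalizerCondition_of_isNilpotent _ hlt)
      refine hg' ?_
      rw [mem_subgroupOf, hAN']
      refine mem_inf.2 ⟨g.2, mem_normalizer_of_conj fun s hs => ?_⟩
      exact ((mem_normalizer_iff.1 hg) ⟨s, (c.mem_A.1 hs).1⟩).1 hs
    have : ∀ m ∈ Nat.divisors 64, 16 ∣ m → 16 < m → m % 3 = 1 → m = 64 := by decide
    have h64 := this _ (Nat.mem_divisors.2 ⟨hd, by norm_num⟩) h16d hgt hmod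
    exact (eq_of_le_of_card_ge inf_le_left (by rw [h64, c.card_R]) : N = c.R) ▸ inf_le_right
  · obtain ⟨_, _, _, _, _, _, _, _, _, _, hcomm⟩ := c.decomp h64
    have hAR : c.A = c.R := eq_of_le_of_card_ge inf_le_left (by rw [h64, c.card_R])
    intro r hr
    refine mem_normalizer_of_conj fun s hs => conj_mem_mulSub (fun u hu => left_le_mulSub ?_)
      (fun v hv => ?_) hs
    · rw [c.commute_A (hAR ▸ hr) hu, mul_inv_cancel_right]; exact hu
    · exact ⟨_, hcomm r hr v (c.mem_A.1 (hle hv)).1, v, hv, by group⟩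

theorem exists_partner : ∃ a : G, ∃ ha3 : orderOf a = 3,
    a ∈ (c.P : Subgroup G) ∧ a ∉ zpowers c.x ∧ vSub c.h ha3 ≤ c.A := by
  obtain ⟨a, ha3, haP, hax, hle, -⟩ := c.exists_other c.A inf_le_left
    (fun _ ha _ hb => c.conj_A ha hb) (vSub c.h c.hx : Set G)
    (fun a ha s hs => c.conj_vSub_P ha c.hxP c.hx hs) (fun _ hv => hv)
    (by rw [c.ncard_diff_vSub c.vSub_le_A]; rcases c.card_A_cases with e | e <;> rw [e] <;> norm_num)
  exact ⟨a, ha3, haP, hax, hle⟩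

end Cfg

end CfsgLib.ClassK.M22Nse
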