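import Cfsg.Agent.Lib.ClassK.M22Nse.Orbit
import Mathlib.Combinatorics.SimpleGraph.StronglyRegular
import Mathlib.Combinatorics.Enumerative.DoubleCounting

/-!
The graph on the 77 cosets is strongly regular with parameters `(77, 16, 0, 4)`.
-/

set_option autoImplicit false
set_option linter.unusedSectionVars false

namespace CfsgLib.ClassK.M22Nse

open Subgroup CfsgLib.StructB.OrderCount
open scoped Pointwise

universe u

variable {G : Type u} [Group G] [Finite G]

theorem card_sup_of_disjoint {A B : Subgroup G} (hA : A ≤ normalizer (B : Set G))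
    (hd : ∀ g ∈ A, g ∈ B → g = 1) : Nat.card (A ⊔ B : Subgroup G) = Nat.card A * Nat.card B := by
  rw [← SetLike.coe_sort_coe, coe_mul_of_left_le_normalizer_right A B hA, ← Set.image2_mul,
    ← Set.image_prod, Nat.card_coe_set_eq, Set.InjOn.ncard_image ?_, Set.ncard_prod,
    ← Nat.card_coe_set_eq, ← Nat.card_coe_set_eq]
  · rfl
  rintro ⟨p, q⟩ ⟨hp, hq⟩ ⟨p', q'⟩ ⟨hp', hq'⟩ e2
  have e2 : p * q = p' * q' := e2
  have e3 : p'⁻¹ * p = q' * q⁻¹ := by
    calc p'⁻¹ * p = p'⁻¹ * (p * q) * q⁻¹ := by group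
      _ = q' * q⁻¹ := by rw [e2]; group
  have h1 := hd _ (mul_mem (inv_mem hp') hp) (e3 ▸ mul_mem hq' (inv_mem hq))
  rw [inv_mul_eq_one] at h1
  subst h1
  rw [mul_left_cancel e2]

namespace EData

variable (d : EData G)

theorem card_stab_mul (S : Subgroup G) (p : G ⧸ d.H) :
    {q | ∃ g ∈ S, g • p = q}.ncard * Nat.card (S ⊓ MulAction.stabilizer G p : Subgroup G) = Nat.card S := by
  have horb : {q | ∃ g ∈ S, g • p = q} = MulAction.orbit S p := by
    ext q
    exact ⟨fun ⟨g, hg, e⟩ => ⟨⟨g, hg⟩, e⟩, fun ⟨g, e⟩ => ⟨g, g.2, e⟩⟩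
  have hstab : Nat.card (S ⊓ MulAction.stabilizer G p : Subgroup G) =
      Nat.card (MulAction.stabilizer S p) :=
    Nat.card_congr ⟨fun g => ⟨⟨g, (mem_inf.1 g.2).1⟩, (mem_inf.1 g.2).2⟩,
      fun g => ⟨(g : S), mem_inf.2 ⟨(g : S).2, g.2⟩⟩, fun _ => rfl, fun _ => rfl⟩
  rw [horb, ← MulAction.index_stabilizer, hstab, mul_comm]
  exact (MulAction.stabilizer S p).card_mul_index

theorem stab_a : MulAction.stabilizer G d.a = d.H := Subgroup.ext fun _ => d.smul_a_iff

/-- Overgroups of `H` have orbits of the base point of length a divisor of 77. -/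
theorem orbit_a_dvd (h : Hyp G) {S : Subgroup G} (hS : d.H ≤ S) :
    {q | ∃ g ∈ S, g • d.a = q}.ncard * 5760 = Nat.card S ∧
      {q | ∃ g ∈ S, g • d.a = q}.ncard ∣ 77 := by
  have h1 := d.card_stab_mul S d.a
  rw [d.stab_a, inf_eq_right.2 hS, d.card_H] at h1
  refine ⟨h1, Nat.dvd_of_mul_dvd_mul_right (show 0 < 5760 by norm_num) ?_⟩
  rw [h1, show 77 * 5760 = 443520 by norm_num, ← h.card]
  exact card_subgroup_dvd_card _

/-- The subgroup `H` has no subgroup of index five. -/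
theorem no_index_five (h : Hyp G) (S : Subgroup d.H) (hS : Nat.card S = 1152) : False := by
  have hi : S.index = 5 := by
    have := S.card_mul_index
    rw [hS, d.card_H] at this
    omega
  have hd : S.normalCore.index ∣ 120 := by
    rw [normalCore_eq_ker, index_ker]
    refine (card_subgroup_dvd_card _).trans ?_
    rw [Nat.card_perm, ← Subgroup.index, hi]
    norm_num [Nat.factorial]
  have hmul := S.normalCore.card_mul_index
  have hKd : Nat.card S.normalCore ∣ 1152 := hS ▸ card_dvd_of_le S.normalCore_le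
  have h48 : 48 ∣ Nat.card S.normalCore := by
    obtain ⟨m, hm⟩ := hd
    rw [d.card_H] at hmul
    refine ⟨m, ?_⟩
    have h0 : S.normalCore.index ≠ 0 := fun e => by rw [e, mul_zero] at hmul; norm_num at hmul
    refine Nat.eq_of_mul_eq_mul_right (Nat.pos_of_ne_zero h0) ?_
    rw [hmul, mul_assoc, mul_comm m, ← hm]
    all_goals norm_num
  exact no_five_over_three h S.normalCore ((show 3 ∣ 48 by norm_num).trans h48)
    (fun h5 => absurd (h5.trans hKd) (by norm_num)) (by rw [d.card_H]; norm_num)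

/-- No elementary subgroup of order eight of `H` avoids `E`. -/
theorem no_eight (h : Hyp G) {S : Subgroup G} (hS : S ≤ d.H) (hc : Nat.card S = 8)
    (hsq : ∀ s ∈ S, s * s = 1) (hdis : ∀ s ∈ S, s ∈ d.E → s = 1) : False := by
  have : Fact (Nat.Prime 2) := ⟨Nat.prime_two⟩
  have hT : Nat.card (S ⊔ d.E : Subgroup G) = 2 ^ 7 := by
    rw [card_sup_of_disjoint hS hdis, hc, d.card]; norm_num
  obtain ⟨Q, hQ⟩ := (IsPGroup.of_card hT).exists_le_sylow
  have hQc : Nat.card (Q : Subgroup G) ≤ 2 ^ 7 := by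
    obtain ⟨k, hk⟩ := IsPGroup.iff_card.1 Q.2
    have hd := (Q : Subgroup G).card_subgroup_dvd_card
    rw [h.card, hk] at hd
    rw [hk]
    refine Nat.pow_le_pow_right (by norm_num) ?_
    by_contra hgt
    exact absurd ((pow_dvd_pow 2 (show 8 ≤ k by omega)).trans hd) (by norm_num)
  have hQT : (S ⊔ d.E : Subgroup G) = Q := eq_of_le_of_card_ge hQ (by rw [hT]; exact hQc)
  obtain ⟨⟨g, hg⟩⟩ := (Nat.card_ne_zero.1 (table h).2.2.1).1
  obtain ⟨Q', hQ'⟩ := (IsPGroup.of_card (G := zpowers g) (p := 2) (n := 3)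
    (by rw [Nat.card_zpowers, hg]; norm_num)).exists_le_sylow
  obtain ⟨k, hk⟩ := MulAction.exists_smul_eq G Q' Q
  have hmem : k * g * k⁻¹ ∈ S ⊔ d.E := by
    rw [hQT, ← hk]
    exact Subgroup.smul_mem_pointwise_smul _ (MulAut.conj k) _ (hQ' (mem_zpowers _))
  have hmem' : k * g * k⁻¹ ∈ ((S ⊔ d.E : Subgroup G) : Set G) := hmem
  rw [coe_mul_of_left_le_normalizer_right S d.E hS] at hmem'
  obtain ⟨s, hs, e, he, hse⟩ := Set.mem_mul.1 hmem'
  have h2 : (k * g * k⁻¹) ^ 2 ∈ d.E := by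
    rw [← hse, pow_two, show s * e * (s * e) = (s * e * s⁻¹) * (s * s) * e by group, hsq s hs, mul_one]
    exact mul_mem (d.conj_E (hS hs) he) he
  have h4 : (k * g * k⁻¹) ^ 4 = 1 := by
    rw [show 4 = 2 * 2 from rfl, pow_mul, pow_two]
    exact d.sq _ h2
  have := orderOf_dvd_of_pow_eq_one h4
  rw [CfsgLib.Invol.orderOf_conj_eq, hg] at this
  norm_num at this

namespace Flip

variable {d} (c : d.Flip)

/-- The graph on the cosets. -/
def graph : SimpleGraph (G ⧸ d.H) where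
  Adj p q := ∃ g : G, g • d.a = p ∧ g • c.om = q
  symm := ⟨by
    rintro p q ⟨g, rfl, rfl⟩
    exact ⟨g * c.j, by rw [mul_smul]; rfl, by rw [mul_smul, c.j_om]⟩⟩
  loopless := ⟨by
    rintro p ⟨g, hp, hq⟩
    exact c.om_ne (MulAction.injective g (hq.trans hp.symm))⟩

theorem adj_smul {p q : G ⧸ d.H} (g : G) (hpq : c.graph.Adj p q) : c.graph.Adj (g • p) (g • q) := by
  obtain ⟨k, rfl, rfl⟩ := hpq
  exact ⟨g * k, mul_smul _ _ _, mul_smul _ _ _⟩

theorem adj_smul_iff {p q : G ⧸ d.H} (g : G) : c.graph.Adj (g • p) (g • q) ↔ c.graph.Adj p q := by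
  refine ⟨fun hpq => ?_, c.adj_smul g⟩
  simpa only [inv_smul_smul] using c.adj_smul g⁻¹ hpq

theorem adj_a {q : G ⧸ d.H} : c.graph.Adj d.a q ↔ q ∈ c.O :=
  ⟨fun ⟨g, hg, e⟩ => ⟨g, d.smul_a_iff.1 hg, e⟩, fun ⟨g, hg, e⟩ => ⟨g, d.smul_a_iff.2 hg, e⟩⟩

theorem adj_a_om : c.graph.Adj d.a c.om := ⟨1, one_smul _ _, one_smul _ _⟩

theorem ncard_nbr (h : Hyp G) (p : G ⧸ d.H) : {q | c.graph.Adj p q}.ncard = 16 := by
  obtain ⟨g, rfl⟩ := d.exists_smul_a p
  rw [← c.ncard_O h, ← Set.ncard_image_of_injective c.O (MulAction.injective g)]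
  congr 1
  ext q
  constructor
  · exact fun hq => ⟨g⁻¹ • q, c.adj_a.1 (by
      simpa only [inv_smul_smul] using c.adj_smul g⁻¹ hq), smul_inv_smul g q⟩
  · rintro ⟨q', hq', rfl⟩
    exact c.adj_smul g (c.adj_a.2 hq')

theorem E_a {e : G} (he : e ∈ d.E) : e • d.a = d.a := d.smul_a_iff.2 (d.E_le he)

theorem K_E {k e : G} (hk : k ∈ c.K) : k • (e • c.om) = (k * e * k⁻¹) • c.om := by
  rw [mul_smul, mul_smul, inv_smul_eq_iff.2 (c.mem_K.1 hk).2.symm]

/-- There are no triangles. -/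
theorem no_common_om (h : Hyp G) {q : G ⧸ d.H} (hq : q ∈ c.O) : ¬ c.graph.Adj c.om q := by
  intro hadj
  obtain ⟨e0, he0, rfl⟩ := (c.O_eq h).1 hq
  have h0 : e0 ≠ 1 := by
    rintro rfl
    rw [one_smul] at hadj
    exact c.graph.irrefl hadj
  have hall : ∀ e ∈ d.E, e ≠ 1 → c.graph.Adj c.om (e • c.om) := by
    intro e he h1
    obtain ⟨k, hk, rfl⟩ := c.K_trans h he0 he h0 h1
    have := c.adj_smul k hadj
    rwa [(c.mem_K.1 hk).2, c.K_E hk] at this
  set Cq : Set (G ⧸ d.H) := insert d.a c.O with hCq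
  have hCc : Cq.ncard = 17 := by
    rw [hCq, Set.ncard_insert_of_notMem c.a_not_mem_O (Set.toFinite _), c.ncard_O h]
  have hclique : ∀ p ∈ Cq, insert p {q | c.graph.Adj p q} = Cq := by
    intro p hp
    have hsub : Cq \ {p} ⊆ {q | c.graph.Adj p q} := by
      rintro q ⟨hq, hqp⟩
      rcases hp with rfl | hp <;> rcases hq with rfl | hq
      · exact absurd rfl hqp
      · exact c.adj_a.2 hq
      · exact (c.adj_a.2 hp).symm
      · obtain ⟨e, he, rfl⟩ := (c.O_eq h).1 hp
        obtain ⟨e', he', rfl⟩ := (c.O_eq h).1 hq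
        have := c.adj_smul e (hall _ (mul_mem (inv_mem he) he') fun e1 => hqp (by
          rw [inv_mul_eq_one.1 e1]; rfl))
        rwa [smul_smul e, mul_inv_cancel_left] at this
    have heq : Cq \ {p} = {q | c.graph.Adj p q} := Set.eq_of_subset_of_ncard_le hsub
      (by rw [c.ncard_nbr h, Set.ncard_diff_singleton_of_mem hp, hCc]) (Set.toFinite _)
    rw [← heq, Set.insert_sdiff_singleton, Set.insert_eq_of_mem hp]
  have hS : d.H ≤ MulAction.stabilizer G Cq ∧ ∀ p ∈ Cq, ∃ g ∈ MulAction.stabilizer G Cq, g • d.a = p := by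
    have key : ∀ g : G, g • d.a ∈ Cq → g ∈ MulAction.stabilizer G Cq := by
      intro g hg
      have himg : g • insert d.a {q | c.graph.Adj d.a q} = insert (g • d.a) {q | c.graph.Adj (g • d.a) q} := by
        rw [Set.smul_set_insert]
        congr 1
        ext q
        rw [Set.mem_smul_set_iff_inv_smul_mem]
        exact (c.adj_smul_iff g).symm.trans (by rw [smul_inv_smul]; rfl)
      rw [MulAction.mem_stabilizer_iff]
      conv_lhs => rw [← hclique d.a (Set.mem_insert _ _)]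
      rw [himg, hclique _ hg]
    refine ⟨fun g hg => key g (by rw [d.smul_a_iff.2 hg]; exact Set.mem_insert _ _), fun p hp => ?_⟩
    obtain ⟨g, rfl⟩ := d.exists_smul_a p
    exact ⟨g, key g hp, rfl⟩
  have horb : {q | ∃ g ∈ MulAction.stabilizer G Cq, g • d.a = q} = Cq := by
    ext q
    constructor
    · rintro ⟨g, hg, rfl⟩
      rw [← MulAction.mem_stabilizer_iff.1 hg]
      exact Set.smul_mem_smul_set (Set.mem_insert _ _)
    · exact hS.2 q
  have := (d.orbit_a_dvd h hS.1).2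
  rw [horb, hCc] at this
  norm_num at this

theorem no_tri (h : Hyp G) {p q r : G ⧸ d.H} (hpq : c.graph.Adj p q) (hpr : c.graph.Adj p r) :
    ¬ c.graph.Adj q r := by
  intro hqr
  obtain ⟨g, rfl, rfl⟩ := hpq
  refine c.no_common_om h (q := g⁻¹ • r) (c.adj_a.1 ?_) ?_
  · simpa only [inv_smul_smul] using c.adj_smul g⁻¹ hpr
  · simpa only [inv_smul_smul] using c.adj_smul g⁻¹ hqr

theorem exists_ne_E : ∃ e ∈ d.E, e ≠ 1 := by
  by_contra hall
  simp only [not_exists, not_and, not_not] at hall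
  have : d.E = ⊥ := (eq_bot_iff_forall _).2 hall
  have hc := d.card
  rw [this, Subgroup.card_bot] at hc
  norm_num at hc

/-- A point at distance two from the base point. -/
noncomputable def q0 : G ⧸ d.H := c.j • ((exists_ne_E (d := d)).choose • c.om)

/-- The orbit of the points at distance two. -/
def D2 : Set (G ⧸ d.H) := {p | ∃ g ∈ d.H, g • c.q0 = p}

/-- Endpoints of paths of length two lie in one orbit. -/
theorem two_path (h : Hyp G) {p q : G ⧸ d.H} (hp : c.graph.Adj d.a p) (hpq : c.graph.Adj p q)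
    (hq : q ≠ d.a) : q ∈ c.D2 := by
  obtain ⟨e, he, rfl⟩ := (c.O_eq h).1 (c.adj_a.1 hp)
  have h1 : c.graph.Adj c.om (e⁻¹ • q) := by
    simpa only [inv_smul_smul] using c.adj_smul e⁻¹ hpq
  have h2 : c.graph.Adj d.a (c.j⁻¹ • (e⁻¹ • q)) := by
    have := c.adj_smul c.j⁻¹ h1
    rwa [show c.j⁻¹ • c.om = d.a from inv_smul_smul _ _] at this
  obtain ⟨e', he', he'q⟩ := (c.O_eq h).1 (c.adj_a.1 h2)
  have h1' : e' ≠ 1 := by
    rintro rfl
    refine hq ?_
    rw [one_smul, eq_inv_smul_iff, c.j_om, eq_inv_smul_iff, E_a he] at he'q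
    exact he'q.symm
  obtain ⟨k, hk, hke⟩ := c.K_trans h (exists_ne_E (d := d)).choose_spec.1 he'
    (exists_ne_E (d := d)).choose_spec.2 h1'
  have hka : k • d.a = d.a := d.smul_a_iff.2 (c.mem_K.1 hk).1
  have hja : c.j⁻¹ • d.a = c.om := inv_smul_eq_iff.2 c.j_om.symm
  refine ⟨e * (c.j * k * c.j⁻¹), mul_mem (d.E_le he) (d.smul_a_iff.1 ?_), ?_⟩
  · rw [mul_smul, mul_smul, hja, (c.mem_K.1 hk).2, c.j_om]
  · rw [q0, mul_smul, mul_smul, inv_smul_smul, mul_smul, c.K_E hk, hke, he'q, smul_inv_smul,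
      smul_inv_smul]

theorem adj_om_q0 : c.graph.Adj c.om c.q0 :=
  c.adj_smul c.j (c.adj_a.2 ⟨_, d.E_le (exists_ne_E (d := d)).choose_spec.1, rfl⟩)

theorem q0_ne (h : Hyp G) : c.q0 ≠ d.a := by
  intro e
  have := MulAction.injective c.j ((show c.j • _ = d.a from e).trans c.j_om.symm)
  exact (exists_ne_E (d := d)).choose_spec.2
    (c.E_regular h (exists_ne_E (d := d)).choose_spec.1 this)

theorem q0_not_mem (h : Hyp G) : ¬ c.graph.Adj d.a c.q0 := fun h' =>
  c.no_tri h c.adj_a_om h' c.adj_om_q0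

theorem D2_not (h : Hyp G) {q : G ⧸ d.H} (hq : q ∈ c.D2) : q ≠ d.a ∧ ¬ c.graph.Adj d.a q := by
  obtain ⟨g, hg, rfl⟩ := hq
  have hga := d.smul_a_iff.2 hg
  refine ⟨fun e => c.q0_ne h (MulAction.injective g (e.trans hga.symm)), fun e => c.q0_not_mem h ?_⟩
  rw [← hga] at e
  exact (c.adj_smul_iff g).1 e

/-- The common neighbours with the base point. -/
def common (q : G ⧸ d.H) : Set (G ⧸ d.H) := {p | c.graph.Adj d.a p ∧ c.graph.Adj q p}

theorem ncard_common {q : G ⧸ d.H} (hq : q ∈ c.D2) : (c.common q).ncard = (c.common c.q0).ncard := by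
  obtain ⟨g, hg, rfl⟩ := hq
  have hga := d.smul_a_iff.2 hg
  rw [← Set.ncard_image_of_injective (c.common c.q0) (MulAction.injective g)]
  congr 1
  ext p
  constructor
  · rintro ⟨h1, h2⟩
    refine ⟨g⁻¹ • p, ⟨?_, ?_⟩, smul_inv_smul g p⟩
    · rw [← c.adj_smul_iff g, hga, smul_inv_smul]; exact h1
    · rw [← c.adj_smul_iff g, smul_inv_smul]; exact h2
  · rintro ⟨p', ⟨h1, h2⟩, rfl⟩
    exact ⟨hga ▸ c.adj_smul g h1, c.adj_smul g h2⟩

theorem count_D2 (h : Hyp G) : c.D2.ncard * (c.common c.q0).ncard = 240 := by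
  classical
  have := Fintype.ofFinite (G ⧸ d.H)
  have h1 := Finset.sum_card_bipartiteAbove_eq_sum_card_bipartiteBelow
    (fun p q => c.graph.Adj p q) (s := c.O.toFinset) (t := c.D2.toFinset)
  rw [Finset.sum_const_nat (m := 15) fun p hp => ?_, Finset.sum_const_nat
    (m := (c.common c.q0).ncard) fun q hq => ?_, ← Set.ncard_eq_toFinset_card',
    ← Set.ncard_eq_toFinset_card', c.ncard_O h] at h1
  · rw [← h1]
  · rw [← c.ncard_common (Set.mem_toFinset.1 hq), Set.ncard_eq_toFinset_card']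
    congr 1
    ext p
    simp only [Finset.bipartiteBelow, Finset.mem_filter, Set.mem_toFinset]
    exact ⟨fun ⟨a', b'⟩ => ⟨c.adj_a.2 a', b'.symm⟩, fun ⟨a', b'⟩ => ⟨c.adj_a.1 a', b'.symm⟩⟩
  · have hp' := c.adj_a.2 (Set.mem_toFinset.1 hp)
    rw [show Finset.bipartiteAbove (fun p q => c.graph.Adj p q) c.D2.toFinset p =
        ({q | c.graph.Adj p q} \ {d.a}).toFinset from ?_, ← Set.ncard_eq_toFinset_card',
      Set.ncard_diff_singleton_of_mem (show d.a ∈ {q | c.graph.Adj p q} from hp'.symm), c.ncard_nbr h]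
    ext q
    simp only [Finset.bipartiteAbove, Finset.mem_filter, Set.mem_toFinset, Set.mem_diff,
      Set.mem_setOf_eq, Set.mem_singleton_iff]
    exact ⟨fun ⟨a', b'⟩ => ⟨b', (c.D2_not h a').1⟩, fun ⟨a', b'⟩ => ⟨c.two_path h hp' a' b', a'⟩⟩

theorem five_dvd_D2 (h : Hyp G) : 5 ∣ c.D2.ncard := by
  have : Fact (Nat.Prime 5) := ⟨by norm_num⟩
  have hmod := ncard_modEq_fixed_smul c.hx c.D2 (fun q hq => by
    obtain ⟨g, hg, rfl⟩ := hq
    exact ⟨c.x * g, mul_mem c.hxH hg, mul_smul _ _ _⟩)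
  rw [show {q | q ∈ c.D2 ∧ c.x • q = q} = ∅ from Set.eq_empty_of_forall_notMem fun q hq => by
    rcases c.only q hq.2 with e | e
    · exact (c.D2_not h hq.1).1 e
    · exact (c.D2_not h hq.1).2 (by rw [e]; exact c.adj_a_om), Set.ncard_empty] at hmod
  exact Nat.modEq_zero_iff_dvd.1 hmod

theorem D2_le (h : Hyp G) : c.D2.ncard ≤ 60 ∧ (c.common c.q0).ncard ≤ 16 := by
  refine ⟨?_, (Set.ncard_le_ncard (fun p hp => hp.1) (Set.toFinite _)).trans (c.ncard_nbr h d.a).le⟩
  have hd : Disjoint (insert d.a {q | c.graph.Adj d.a q}) c.D2 := Set.disjoint_left.2 fun q hq hq' => by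
    rcases hq with e | e
    · exact (c.D2_not h hq').1 e
    · exact (c.D2_not h hq').2 e
  have h1 := Set.ncard_union_eq hd (Set.toFinite _) (Set.toFinite _)
  have h2 := Set.ncard_le_ncard (Set.subset_univ (insert d.a {q | c.graph.Adj d.a q} ∪ c.D2)) (Set.toFinite _)
  rw [h1, Set.ncard_univ, d.card_space h, Set.ncard_insert_of_notMem (show d.a ∉ {q | c.graph.Adj d.a q} from c.graph.irrefl)
    (Set.toFinite _), c.ncard_nbr h] at h2
  omega

theorem mu_ne_sixteen (h : Hyp G) : c.D2.ncard ≠ 15 := by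
  intro h15
  have hmu : (c.common c.q0).ncard = 16 := by
    have := c.count_D2 h; rw [h15] at this; omega
  set O' := {q | c.graph.Adj d.a q} with hO'
  have hnb : ∀ g : G, g • O' = {q | c.graph.Adj (g • d.a) q} := by
    intro g
    ext q
    rw [Set.mem_smul_set_iff_inv_smul_mem]
    exact (c.adj_smul_iff g).symm.trans (by rw [smul_inv_smul]; rfl)
  have htwin : ∀ q ∈ c.D2, {p | c.graph.Adj q p} = O' := by
    intro q hq
    have e1 : c.common q = O' := Set.eq_of_subset_of_ncard_le (fun p hp => hp.1)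
      (by rw [c.ncard_common hq, hmu]; exact (c.ncard_nbr h d.a).le) (Set.toFinite _)
    exact (Set.eq_of_subset_of_ncard_le (fun p hp => (e1.ge hp).2)
      (by rw [hO']; exact (c.ncard_nbr h _).le.trans (c.ncard_nbr h _).ge) (Set.toFinite _)).symm
  set S := MulAction.stabilizer G O' with hSdef
  have hHS : d.H ≤ S := fun g hg => MulAction.mem_stabilizer_iff.2 (by rw [hnb, d.smul_a_iff.2 hg])
  have hsub : insert d.a c.D2 ⊆ {q | ∃ g ∈ S, g • d.a = q} := by
    rintro q (rfl | hq)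
    · exact ⟨1, one_mem _, one_smul _ _⟩
    · obtain ⟨g, rfl⟩ := d.exists_smul_a q
      exact ⟨g, MulAction.mem_stabilizer_iff.2 (by rw [hnb, htwin _ hq]), rfl⟩
  obtain ⟨hmul, hdvd⟩ := d.orbit_a_dvd h hHS
  have hge := Set.ncard_le_ncard hsub (Set.toFinite _)
  rw [Set.ncard_insert_of_notMem (fun e => (c.D2_not h e).1 rfl) (Set.toFinite _), h15] at hge
  have key : ∀ m ∈ Nat.divisors 77, 16 ≤ m → m = 77 := by decide
  have h77 := key _ (Nat.mem_divisors.2 ⟨hdvd, by norm_num⟩) hge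
  rw [h77] at hmul
  have htop : S = ⊤ := Subgroup.eq_top_of_card_eq _ (by rw [← hmul, h.card])
  have hjS : c.j ∈ S := htop ▸ mem_top c.j
  have hmem := Set.smul_mem_smul_set (a := c.j) (show c.om ∈ O' from c.adj_a_om)
  rw [MulAction.mem_stabilizer_iff.1 hjS, c.j_om] at hmem
  exact c.graph.irrefl hmem

/-- The stabiliser in `E` of a point at distance two. -/
theorem local_numbers (h : Hyp G) :
    ∃ ez ri : ℕ, ez ∣ 16 ∧ ez ∣ (c.common c.q0).ncard ∧ c.D2.ncard * (ez * ri) = 5760 ∧ ri ∣ 360 ∧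
      (∃ S : Subgroup d.H, Nat.card S = 16 * ri) ∧
      (ez = 8 → False) := by
  set Ez : Subgroup G := d.E ⊓ MulAction.stabilizer G c.q0 with hEz
  set Hz : Subgroup G := d.H ⊓ MulAction.stabilizer G c.q0 with hHz
  have hmul : c.D2.ncard * Nat.card Hz = 5760 := by
    have := d.card_stab_mul d.H c.q0
    rw [d.card_H] at this
    exact this
  let E' : Subgroup d.H := d.E.subgroupOf d.H
  let Hz' : Subgroup d.H := Hz.subgroupOf d.H
  have hN : E'.Normal := normal_subgroupOf_of_le_normalizer le_rfl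
  have hE'c : Nat.card E' = 16 := (Nat.card_congr (subgroupOfEquivOfLe d.E_le).toEquiv).trans d.card
  have hE'i : E'.index = 360 := by
    have := E'.card_mul_index
    rw [hE'c, d.card_H] at this
    omega
  have hinf : Nat.card (E'.subgroupOf Hz') = Nat.card Ez :=
    Nat.card_congr
      ⟨fun z => ⟨((z : Hz') : d.H), mem_inf.2 ⟨z.2, (mem_inf.1 (z : Hz').2).2⟩⟩,
       fun z => ⟨⟨⟨z, d.E_le (mem_inf.1 z.2).1⟩, mem_inf.2 ⟨d.E_le (mem_inf.1 z.2).1, (mem_inf.1 z.2).2⟩⟩,
          (mem_inf.1 z.2).1⟩,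
       fun _ => rfl, fun _ => rfl⟩
  have hHc : Nat.card Hz = Nat.card Ez * E'.relIndex Hz' := by
    rw [← hinf, Subgroup.relIndex, card_mul_index,
      Nat.card_congr (subgroupOfEquivOfLe (show Hz ≤ d.H from inf_le_left)).toEquiv]
  refine ⟨Nat.card Ez, E'.relIndex Hz', d.card ▸ card_dvd_of_le inf_le_left, ?_,
    by rw [← hHc]; exact hmul, hE'i ▸ relIndex_dvd_index_of_normal E' Hz', ⟨Hz' ⊔ E', ?_⟩, ?_⟩
  · refine dvd_ncard_of_free_smul (c.common c.q0) (fun k hk p hp => ⟨?_, ?_⟩) (fun k hk p hp hkp => ?_)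
    · have := c.adj_smul k hp.1
      rwa [E_a (mem_inf.1 hk).1] at this
    · have := c.adj_smul k hp.2
      rwa [show k • c.q0 = c.q0 from (mem_inf.1 hk).2] at this
    · obtain ⟨e, he, rfl⟩ := (c.O_eq h).1 (c.adj_a.1 hp.1)
      refine c.E_regular h (mem_inf.1 hk).1 (MulAction.injective e ?_)
      show e • (k • c.om) = e • c.om
      rw [smul_smul, d.commute_E he (mem_inf.1 hk).1, mul_smul]
      exact hkp
  · have := (E'.subgroupOf (Hz' ⊔ E')).card_mul_index
    rw [Nat.card_congr (subgroupOfEquivOfLe le_sup_right).toEquiv, hE'c] at this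
    rw [← this, ← Subgroup.relIndex, relIndex_sup_right]
  · intro h8
    obtain ⟨g, hg⟩ := d.exists_smul_a c.q0
    have hgH : g ∉ d.H := fun hgH => c.q0_ne h (by rw [← hg, d.smul_a_iff.2 hgH])
    refine d.no_eight h (S := Ez.map (MulAut.conj g⁻¹).toMonoidHom) ?_ ?_ ?_ ?_
    · rintro _ ⟨e, he, rfl⟩
      refine d.smul_a_iff.1 ?_
      show (g⁻¹ * e * g⁻¹⁻¹) • d.a = d.a
      rw [inv_inv, mul_smul, mul_smul, hg, show e • c.q0 = c.q0 from (mem_inf.1 he).2,
        inv_smul_eq_iff, hg]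
    · rw [card_map_of_injective (MulAut.conj g⁻¹).injective, h8]
    · rintro _ ⟨e, he, rfl⟩
      rw [← map_mul, d.sq e (mem_inf.1 he).1, map_one]
    · rintro _ ⟨e, he, rfl⟩ hmem
      by_contra hne
      refine hgH ?_
      have he1 : e ≠ 1 := fun e1 => hne (by rw [e1, map_one])
      obtain ⟨k, hk, hke⟩ := d.trans _ hmem e (mem_inf.1 he).1 hne he1
      have hke' : k * (g⁻¹ * e * g⁻¹⁻¹) * k⁻¹ = e := hke
      have : k * g⁻¹ ∈ centralizer ({e} : Set G) := mem_centralizer_singleton_iff.2 (by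
        calc k * g⁻¹ * e = k * (g⁻¹ * e * g⁻¹⁻¹) * k⁻¹ * (k * g⁻¹) := by group
          _ = e * (k * g⁻¹) := by rw [hke'])
      have hkg := d.cent_le_H h (mem_inf.1 he).1 he1 this
      have : g⁻¹ ∈ d.H := by simpa using mul_mem (inv_mem (show k ∈ d.H from hk)) hkg
      simpa using inv_mem this

theorem mu_eq (h : Hyp G) : c.D2.ncard = 60 ∧ (c.common c.q0).ncard = 4 := by
  have hc := c.count_D2 h
  obtain ⟨hle, hle'⟩ := c.D2_le h
  obtain ⟨ez, ri, hez, hezmu, hmul, hri, ⟨S, hS⟩, h8⟩ := c.local_numbers h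
  obtain ⟨k, hk⟩ := c.five_dvd_D2 h
  have hne := c.mu_ne_sixteen h
  have hS' := d.no_index_five h S
  rw [hk] at hc hmul hle hne ⊢
  have hk48 : k ∣ 48 := ⟨(c.common c.q0).ncard, by
    have : 5 * (k * (c.common c.q0).ncard) = 5 * 48 := by rw [← mul_assoc]; omega
    omega⟩
  have key : ∀ k ∈ Nat.divisors 48, k ≤ 12 → k ≤ 2 ∨ k = 3 ∨ k = 4 ∨ k = 6 ∨ k = 8 ∨ k = 12 := by
    decide
  have hr72 : ri ≠ 72 := fun e => hS' (by rw [hS, e])
  have hri' := Nat.le_of_dvd (by norm_num) hri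
  rcases key k (Nat.mem_divisors.2 ⟨hk48, by norm_num⟩) (by omega) with e | e | e | e | e | e
  · exfalso
    have h0 : k ≠ 0 := fun h0 => by subst h0; omega
    rcases (show k = 1 ∨ k = 2 by omega) with e | e <;> subst e <;> omega
  · omega
  all_goals subst e
  · have eμ : (c.common c.q0).ncard = 12 := by omega
    rw [eμ] at hezmu
    exfalso
    have : ∀ e ∈ Nat.divisors 16, e ∣ 12 → e = 1 ∨ e = 2 ∨ e = 4 := by decide
    rcases this _ (Nat.mem_divisors.2 ⟨hez, by norm_num⟩) hezmu with e | e | e <;> subst e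
    · have : ri = 288 := by omega
      subst this; norm_num at hri
    · have : ri = 144 := by omega
      subst this; norm_num at hri
    · omega
  · have eμ : (c.common c.q0).ncard = 8 := by omega
    rw [eμ] at hezmu
    exfalso
    have : ∀ e ∈ Nat.divisors 16, e ∣ 8 → e = 1 ∨ e = 2 ∨ e = 4 ∨ e = 8 := by decide
    rcases this _ (Nat.mem_divisors.2 ⟨hez, by norm_num⟩) hezmu with e | e | e | e
    · subst e
      have : ri = 192 := by omega
      subst this; norm_num at hri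
    · subst e
      have : ri = 96 := by omega
      subst this; norm_num at hri
    · subst e
      have : ri = 48 := by omega
      subst this; norm_num at hri
    · exact h8 e
  · have eμ : (c.common c.q0).ncard = 6 := by omega
    rw [eμ] at hezmu
    exfalso
    have : ∀ e ∈ Nat.divisors 16, e ∣ 6 → e = 1 ∨ e = 2 := by decide
    rcases this _ (Nat.mem_divisors.2 ⟨hez, by norm_num⟩) hezmu with e | e <;> subst e
    · have : ri = 144 := by omega
      subst this; norm_num at hri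
    · omega
  · exact ⟨rfl, by omega⟩

theorem D2_eq (h : Hyp G) {q : G ⧸ d.H} (h1 : q ≠ d.a) (h2 : ¬ c.graph.Adj d.a q) : q ∈ c.D2 := by
  by_contra h3
  have hsub : insert d.a {q | c.graph.Adj d.a q} ∪ c.D2 ⊆ {p | p ≠ q} := by
    rintro p ((rfl | hp) | hp) rfl
    · exact h1 rfl
    · exact h2 hp
    · exact h3 hp
  have hd : Disjoint (insert d.a {q | c.graph.Adj d.a q}) c.D2 := Set.disjoint_left.2 fun p hp hp' => by
    rcases hp with e | e
    · exact (c.D2_not h hp').1 e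
    · exact (c.D2_not h hp').2 e
  have hu := Set.ncard_union_eq hd (Set.toFinite _) (Set.toFinite _)
  rw [Set.ncard_insert_of_notMem (show d.a ∉ {q | c.graph.Adj d.a q} from c.graph.irrefl) (Set.toFinite _), c.ncard_nbr h,
    (c.mu_eq h).1] at hu
  have h4 := Set.ncard_le_ncard hsub (Set.toFinite _)
  have h5 : {p : G ⧸ d.H | p ≠ q}.ncard = 76 := by
    rw [show {p : G ⧸ d.H | p ≠ q} = Set.univ \ {q} by ext p; simp,
      Set.ncard_diff_singleton_of_mem (Set.mem_univ _), Set.ncard_univ, d.card_space h]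
  omega

theorem srg (h : Hyp G) [Fintype (G ⧸ d.H)] [DecidableRel c.graph.Adj] :
    c.graph.IsSRGWith 77 16 0 4 where
  card := by rw [← Nat.card_eq_fintype_card, d.card_space h]
  regular v := by
    rw [← c.ncard_nbr h v, ← SimpleGraph.card_neighborFinset_eq_degree]
    rw [← Set.ncard_coe_finset, SimpleGraph.coe_neighborFinset]
    rfl
  of_adj v w hvw := by
    rw [← Nat.card_eq_fintype_card, Nat.card_coe_set_eq, Set.ncard_eq_zero (Set.toFinite _)]
    exact Set.eq_empty_of_forall_notMem fun u hu => c.no_tri h hvw hu.1 hu.2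
  of_not_adj v w hvw hnadj := by
    rw [← Nat.card_eq_fintype_card, Nat.card_coe_set_eq]
    obtain ⟨g, rfl⟩ := d.exists_smul_a v
    have h1 : g⁻¹ • w ∈ c.D2 := c.D2_eq h (fun e => hvw (inv_smul_eq_iff.1 e).symm) fun e => hnadj (by
      have := c.adj_smul g e
      rwa [smul_inv_smul] at this)
    rw [← (c.mu_eq h).2, ← c.ncard_common h1,
      ← Set.ncard_image_of_injective (c.common (g⁻¹ • w)) (MulAction.injective g)]
    congr 1
    ext u
    constructor
    · rintro ⟨a1, a2⟩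
      refine ⟨g⁻¹ • u, ⟨?_, ?_⟩, smul_inv_smul g u⟩
      · exact (c.adj_smul_iff g).1 (by rw [smul_inv_smul]; exact a1)
      · exact (c.adj_smul_iff g).1 (by rw [smul_inv_smul, smul_inv_smul]; exact a2)
    · rintro ⟨u', ⟨a1, a2⟩, rfl⟩
      refine ⟨c.adj_smul g a1, ?_⟩
      have := c.adj_smul g a2
      rwa [smul_inv_smul] at this

end Flip

end EData

end CfsgLib.ClassK.M22Nse
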