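import Cfsg.Agent.Lib.ClassK.M22Nse.Split2

/-! The values of the number of elements of each order in M22. -/

set_option autoImplicit false
set_option maxRecDepth 100000
set_option maxHeartbeats 1000000

namespace CfsgLib.ClassK.M22Nse

open Cfsg CfsgLib.Golay
open CfsgLib.ClassK.M12Nse (prods)
open scoped Pointwise

/-- The levels from `k` on. -/
abbrev lev (k : ℕ) : List Level := chainM24Levels.drop k
/-- The stabiliser of four points. -/
abbrev X20 : List ℕ := [4, 2, 1, 8388608]
/-- The stabiliser of five points. -/
abbrev X19 : List ℕ := [8, 4, 2, 1, 8388608]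

/-- An element carrying `1` to `2` and `2` to `1`. -/
def e1 : List ℕ := [976990105829392847739289005721748544]
/-- An element carrying `1` to `2` and `2` to `3`. -/
def e2 : List ℕ := [976990105829392847739289005721748544, 981737719767249052369456315699891232]
/-- An element fixing `1`, carrying `2` to `3` and `3` to `2`. -/
def e3 : List ℕ := [981737719767249052369456315699891232]
/-- An element fixing `1`, carrying `2` to `3` and `3` to `5`. -/
def e4 : List ℕ := [981737719767249052369456315699891232, 984202951082164080105044112956360736]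
/-- An element fixing `1`, carrying `2` to `3` and `3` to `4`. -/
def e5 : List ℕ := [981737719767249052369456315699891232, 977839867786251717525204161457686560]
/-- Transversal of the remaining points of the line. -/
def lineT : List ℕ := (chainM24Levels.getD 6 noLevel).2.1

/-- Number of elements of order `n` as computed by the chain. -/
def countM22 (n : ℕ) : ℕ :=
  hist (prods (lev 4)) n + 20 * (hist ((prods (lev 5)).map (e3 ++ ·)) n +
      3 * hist ((prods (lev 5)).map (e4 ++ ·)) n + 16 * hist ((prods (lev 5)).map (e5 ++ ·)) n) +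
    21 * (hist ((prods (lev 4)).map (e1 ++ ·)) n + 20 * hist ((prods (lev 4)).map (e2 ++ ·)) n)

theorem chain20 : chainOK X20 (lev 4) chainM24Fin = true := by decide +kernel
theorem chain19 : chainOK X19 (lev 5) chainM24Fin = true := by decide +kernel

theorem in20 : (prods (lev 4)).all (fun w => w.all (inFix X20) && !Nat.beq (ordW w) 0) = true := by
  decide +kernel
theorem inC1 : (prods (lev 4)).all
    (fun w => w.all (inFix X20) && !Nat.beq (ordW (e1 ++ w)) 0) = true := by decide +kernel
theorem inC2 : (prods (lev 4)).all
    (fun w => w.all (inFix X20) && !Nat.beq (ordW (e2 ++ w)) 0) = true := by decide +kernel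
theorem inC3 : (prods (lev 5)).all
    (fun w => w.all (inFix X19) && !Nat.beq (ordW (e3 ++ w)) 0) = true := by decide +kernel
theorem inC4 : (prods (lev 5)).all
    (fun w => w.all (inFix X19) && !Nat.beq (ordW (e4 ++ w)) 0) = true := by decide +kernel
theorem inC5 : (prods (lev 5)).all
    (fun w => w.all (inFix X19) && !Nat.beq (ordW (e5 ++ w)) 0) = true := by decide +kernel

theorem fix21_le : fixMasks X21 ≤ fixMasks X22 :=
  fun _ h => ((mem_fixMasks_cons (by norm_num : 1 < 24)).1 h).1

theorem fix20_le : fixMasks X20 ≤ fixMasks X22 :=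
  fun _ h => fix21_le ((mem_fixMasks_cons (by norm_num : 2 < 24)).1 h).1

theorem ncard_X21 (n : ℕ) : (ordSet X21 (fun _ => True) n).ncard =
    hist (prods (lev 4)) n + 20 * (hist ((prods (lev 5)).map (e3 ++ ·)) n +
      3 * hist ((prods (lev 5)).map (e4 ++ ·)) n + 16 * hist ((prods (lev 5)).map (e5 ++ ·)) n) := by
  have h := ncard_step2 (X := X21) (lv := chainM24Levels.getD 3 noLevel)
    (lv' := chainM24Levels.getD 4 noLevel) (lv'' := chainM24Levels.getD 5 noLevel) (c := 5)
    (T := lineT)
    (by decide +kernel) (by decide +kernel) (by decide +kernel) (by decide +kernel) (by norm_num)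
    (by decide +kernel) (by decide +kernel) (by decide +kernel) (by decide +kernel)
    (by decide +kernel) (by decide +kernel) (by decide +kernel) n
  rw [show pop (orbMask (chainM24Levels.getD 4 noLevel).1 (chainM24Levels.getD 4 noLevel).2.1) = 20
      by decide +kernel,
    show pop (orbMask (chainM24Levels.getD 5 noLevel).1 (chainM24Levels.getD 5 noLevel).2.1) = 16
      by decide +kernel,
    show pop (orbMask 5 lineT) = 3 by decide +kernel,
    show (chainM24Levels.getD 3 noLevel).1 = 2 by decide +kernel,
    show (chainM24Levels.getD 4 noLevel).1 = 3 by decide +kernel,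
    show (chainM24Levels.getD 5 noLevel).1 = 4 by decide +kernel] at h
  rw [h, show (Nat.shiftLeft 1 2 :: X21 : List ℕ) = X20 from rfl,
    ncard_ordSet_prods chain20 fix20_le in20 (by decide +kernel) n,
    ncard_ordSet_coset (X := X21) (b := 2) (b' := 3) (z := 2) (by norm_num) (by norm_num) chain19
      fix21_le e3 (by decide +kernel) (by decide +kernel) (by decide +kernel) inC3
      (by decide +kernel) n,
    ncard_ordSet_coset (X := X21) (b := 2) (b' := 3) (z := 5) (by norm_num) (by norm_num) chain19
      fix21_le e4 (by decide +kernel) (by decide +kernel) (by decide +kernel) inC4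
      (by decide +kernel) n,
    ncard_ordSet_coset (X := X21) (b := 2) (b' := 3) (z := 4) (by norm_num) (by norm_num) chain19
      fix21_le e5 (by decide +kernel) (by decide +kernel) (by decide +kernel) inC5
      (by decide +kernel) n]

theorem ncard_X22 (n : ℕ) : (ordSet X22 (fun _ => True) n).ncard = countM22 n := by
  have h := ncard_step (X := X22) (lv := chainM24Levels.getD 2 noLevel)
    (lv' := chainM24Levels.getD 3 noLevel) (lv'' := chainM24Levels.getD 4 noLevel)
    (by decide +kernel) (by decide +kernel) (by decide +kernel) (by decide +kernel)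
    (by decide +kernel) (by decide +kernel) (by decide +kernel) (by decide +kernel) n
  rw [show pop (orbMask (chainM24Levels.getD 3 noLevel).1 (chainM24Levels.getD 3 noLevel).2.1) = 21
      by decide +kernel,
    show pop (orbMask (chainM24Levels.getD 4 noLevel).1 (chainM24Levels.getD 4 noLevel).2.1) = 20
      by decide +kernel,
    show (chainM24Levels.getD 2 noLevel).1 = 1 by decide +kernel,
    show (chainM24Levels.getD 3 noLevel).1 = 2 by decide +kernel,
    show (chainM24Levels.getD 4 noLevel).1 = 3 by decide +kernel] at h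
  rw [h, show (Nat.shiftLeft 1 1 :: X22 : List ℕ) = X21 from rfl, ncard_X21,
    ncard_ordSet_coset (X := X22) (b := 1) (b' := 2) (z := 1) (by norm_num) (by norm_num) chain20
      le_rfl e1 (by decide +kernel) (by decide +kernel) (by decide +kernel) inC1
      (by decide +kernel) n,
    ncard_ordSet_coset (X := X22) (b := 1) (b' := 2) (z := 3) (by norm_num) (by norm_num) chain20
      le_rfl e2 (by decide +kernel) (by decide +kernel) (by decide +kernel) inC2
      (by decide +kernel) n, countM22]

theorem card_order (n : ℕ) :
    Nat.card {g : ↥Spor.M22 // orderOf g = n} = countM22 n := by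
  rw [← ncard_X22, sporM22_eq, ← Nat.card_coe_set_eq]
  exact Nat.card_congr
    { toFun := fun g => ⟨g.1.1, g.1.2, trivial, by rw [Subgroup.orderOf_coe]; exact g.2⟩
      invFun := fun g => ⟨⟨g.1, g.2.1⟩, by rw [← Subgroup.orderOf_coe]; exact g.2.2.2⟩
      left_inv := fun _ => rfl
      right_inv := fun _ => rfl }

/-- The values. -/
def nseM22 : Finset ℕ := {1, 1155, 12320, 41580, 88704, 36960, 126720, 55440, 80640}

theorem countM22_table : [1, 2, 3, 4, 5, 6, 7, 8, 11].map countM22 =
    [1, 1155, 12320, 41580, 88704, 36960, 126720, 55440, 80640] := by decide +kernel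

theorem hist_eq_zero {W : List (List ℕ)} {n : ℕ} (hn : n ∉ [1, 2, 3, 4, 5, 6, 7, 8, 11])
    (h : W.all (fun w => [1, 2, 3, 4, 5, 6, 7, 8, 11].contains (ordW w)) = true) :
    hist W n = 0 := by
  rw [hist, List.countP_eq_zero]
  intro w hw hwn
  simp only [List.all_eq_true] at h
  have := h w hw
  rw [List.contains_iff_mem, Nat.eq_of_beq_eq_true hwn] at this
  exact hn this

theorem countM22_zero {n : ℕ} (hn : n ∉ [1, 2, 3, 4, 5, 6, 7, 8, 11]) : countM22 n = 0 := by
  rw [countM22, hist_eq_zero hn (by decide +kernel), hist_eq_zero hn (by decide +kernel),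
    hist_eq_zero hn (by decide +kernel), hist_eq_zero hn (by decide +kernel),
    hist_eq_zero hn (by decide +kernel), hist_eq_zero hn (by decide +kernel)]

theorem nse_M22 :
    {c : ℕ | 0 < c ∧ ∃ n : ℕ, c = Nat.card {g : ↥Spor.M22 // orderOf g = n}} = ↑nseM22 := by
  ext c
  simp only [card_order, Set.mem_setOf_eq, Finset.mem_coe]
  have ht := countM22_table
  simp only [List.map_cons, List.map_nil, List.cons.injEq, and_true] at ht
  obtain ⟨h1, h2, h3, h4, h5, h6, h7, h8, h11⟩ := ht
  constructor
  · rintro ⟨hc, n, rfl⟩
    by_cases hn : n ∈ [1, 2, 3, 4, 5, 6, 7, 8, 11]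
    · simp only [List.mem_cons, List.not_mem_nil, or_false] at hn
      rcases hn with rfl | rfl | rfl | rfl | rfl | rfl | rfl | rfl | rfl <;>
        simp [h1, h2, h3, h4, h5, h6, h7, h8, h11, nseM22]
    · rw [countM22_zero hn] at hc; omega
  · intro hc
    simp only [nseM22, Finset.mem_insert, Finset.mem_singleton] at hc
    rcases hc with rfl | rfl | rfl | rfl | rfl | rfl | rfl | rfl | rfl
    exacts [⟨by norm_num, 1, h1.symm⟩, ⟨by norm_num, 2, h2.symm⟩, ⟨by norm_num, 3, h3.symm⟩,
      ⟨by norm_num, 4, h4.symm⟩, ⟨by norm_num, 5, h5.symm⟩, ⟨by norm_num, 6, h6.symm⟩,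
      ⟨by norm_num, 7, h7.symm⟩, ⟨by norm_num, 8, h8.symm⟩, ⟨by norm_num, 11, h11.symm⟩]

end CfsgLib.ClassK.M22Nse
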