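import Cfsg.Agent.Lib.ClassK.M22Nse.Simple
import Cfsg.Agent.Lib.ClassK.M22Nse.Graph
import Cfsg.Agent.Lib.ClassK.M22Nse.Aut
import Cfsg.Agent.Lib.ClassK.M22Nse.Model
import Cfsg.Agent.Lib.Golay.Mathieu
import Mathlib.Algebra.Order.Group.End
import Mathlib.GroupTheory.IndexNormal

/-!
A group with the order and the order counts of `M₂₂` is isomorphic to it.
-/

set_option autoImplicit false
set_option linter.unusedSectionVars false

namespace CfsgLib.ClassK.M22Nse

open Subgroup CfsgLib.StructB.OrderCount

universe u v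

/-- Two simple subgroups of the same order and of index at most two coincide. -/
theorem eq_of_index_le_two {M : Type*} [Group M] [Finite M] {A B : Subgroup M} [IsSimpleGroup A]
    (hcard : Nat.card A = Nat.card B) (hbig : 2 < Nat.card A) (hM : Nat.card M ≤ 2 * Nat.card A) :
    A = B := by
  have hB : B.index ≤ 2 := by
    have := B.card_mul_index
    rw [← hcard] at this
    by_contra hgt
    have h3 : Nat.card A * 3 ≤ Nat.card A * B.index := Nat.mul_le_mul_left _ (by omega)
    omega
  have hBn : B.Normal := by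
    rcases Nat.lt_or_ge B.index 2 with h | h
    · have h1 : B.index = 1 := by
        have := B.index_ne_zero_of_finite
        omega
      rw [index_eq_one.1 h1]
      infer_instance
    · exact normal_of_index_eq_two (by omega)
  rcases (inferInstance : (B.subgroupOf A).Normal).eq_bot_or_eq_top with h | h
  · exfalso
    have h1 := relIndex_dvd_index_of_normal B A
    have h2 : B.relIndex A = Nat.card A := by rw [Subgroup.relIndex, h, index_bot]
    rw [h2] at h1
    have := Nat.le_of_dvd (Nat.pos_of_ne_zero B.index_ne_zero_of_finite) h1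
    omega
  · exact eq_of_le_of_card_ge (subgroupOf_eq_top.1 h) hcard.ge

namespace EData.Flip

variable {G : Type u} [Group G] [Finite G] {d : EData G} (c : d.Flip)

/-- The action on the graph. -/
def toAut : G →* (c.graph ≃g c.graph) where
  toFun g := ⟨MulAction.toPerm g, c.adj_smul_iff g⟩
  map_one' := RelIso.ext fun p => one_smul G p
  map_mul' g g' := RelIso.ext fun p => mul_smul g g' p

theorem toAut_injective [IsSimpleGroup G] : Function.Injective c.toAut := by
  rw [← MonoidHom.ker_eq_bot_iff]
  refine (MonoidHom.normal_ker c.toAut).eq_bot_or_eq_top.resolve_right fun h => c.om_ne ?_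
  have h1 : c.toAut c.j = 1 := MonoidHom.mem_ker.1 (h ▸ mem_top c.j)
  exact DFunLike.congr_fun h1 d.a

end EData.Flip

/-- Conjugation by a graph isomorphism. -/
def conjAut {V : Type u} {W : Type v} {Γ : SimpleGraph V} {Δ : SimpleGraph W} (φ : Γ ≃g Δ) :
    (Δ ≃g Δ) →* (Γ ≃g Γ) where
  toFun f := φ.trans (f.trans φ.symm)
  map_one' := RelIso.ext fun p => φ.symm_apply_apply p
  map_mul' f g := RelIso.ext fun p => by
    show φ.symm (f (g (φ p))) = φ.symm (f (φ (φ.symm (g (φ p)))))
    rw [φ.apply_symm_apply]

theorem conjAut_injective {V : Type u} {W : Type v} {Γ : SimpleGraph V} {Δ : SimpleGraph W}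
    (φ : Γ ≃g Δ) : Function.Injective (conjAut φ) := by
  intro f g e
  refine RelIso.ext fun w => φ.symm.injective ?_
  have := DFunLike.congr_fun e (φ.symm w)
  show φ.symm (f w) = φ.symm (g w)
  simpa [conjAut] using this

/-- Two groups with these counts are isomorphic. -/
theorem iso_of_hyp {G : Type u} [Group G] [Finite G] {K : Type v} [Group K] [Finite K] (hG : Hyp G)
    (hK : Hyp K) : Nonempty (G ≃* K) := by
  classical
  obtain ⟨d⟩ := exists_eData hG
  obtain ⟨d'⟩ := exists_eData hK
  obtain ⟨c⟩ := d.exists_flip hG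
  obtain ⟨c'⟩ := d'.exists_flip hK
  have := Fintype.ofFinite (G ⧸ d.H)
  have := Fintype.ofFinite (K ⧸ d'.H)
  obtain ⟨φ⟩ := CfsgLib.Golay.SRG77.srg77_iso (c.srg hG) (c'.srg hK)
  have := simple hG
  have := simple hK
  set f := c.toAut with hf
  set g := (conjAut φ).comp c'.toAut with hg
  have hfi : Function.Injective f := c.toAut_injective
  have hgi : Function.Injective g := (conjAut_injective φ).comp c'.toAut_injective
  have hfin : Finite (c.graph ≃g c.graph) :=
    Finite.of_injective (fun f => (f : G ⧸ d.H → G ⧸ d.H)) DFunLike.coe_injective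
  have hfc : Nat.card f.range = 443520 := by
    rw [← Nat.card_congr (MonoidHom.ofInjective hfi).toEquiv, hG.card]
  have hgc : Nat.card g.range = 443520 := by
    rw [← Nat.card_congr (MonoidHom.ofInjective hgi).toEquiv, hK.card]
  have : IsSimpleGroup f.range := (MonoidHom.ofInjective hfi).isSimpleGroup_congr.1 inferInstance
  have heq : f.range = g.range := eq_of_index_le_two (hfc.trans hgc.symm) (by rw [hfc]; norm_num)
    (by rw [hfc]; exact card_aut_le (c.srg hG))
  exact ⟨((MonoidHom.ofInjective hfi).trans (MulEquiv.subgroupCongr heq)).trans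
    (MonoidHom.ofInjective hgi).symm⟩

theorem hyp_of_nse {G : Type u} [Group G] [Finite G] (hcard : Nat.card G = 443520)
    (hnse : {c : ℕ | 0 < c ∧ ∃ n : ℕ, c = Nat.card {g : G // orderOf g = n}} = ↑nseM22) : Hyp G where
  card := hcard
  val n hn := by
    have : cnt G n ∈ ({c : ℕ | 0 < c ∧ ∃ n : ℕ, c = Nat.card {g : G // orderOf g = n}}) :=
      ⟨Nat.pos_of_ne_zero hn, n, rfl⟩
    rw [hnse] at this
    exact this
  ach c hc := by
    have : c ∈ ({c : ℕ | 0 < c ∧ ∃ n : ℕ, c = Nat.card {g : G // orderOf g = n}}) := by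
      rw [hnse]; exact hc
    obtain ⟨-, n, e⟩ := this
    exact ⟨n, e.symm⟩

end CfsgLib.ClassK.M22Nse
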