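import Cfsg.Agent.Lib.ClassK.M22Nse.Base
import Mathlib.GroupTheory.GroupAction.Quotient

/-!
The orbit of length sixteen of the subgroup of order 5760 on its 77 cosets.
-/

set_option autoImplicit false
set_option linter.unusedSectionVars false

namespace CfsgLib.ClassK.M22Nse

open Subgroup CfsgLib.StructB.OrderCount

universe u

variable {G : Type u} [Group G] [Finite G]

theorem ncard_modEq_fixed_smul {X : Type*} [MulAction G X] [Finite X] {p : ℕ} [Fact p.Prime] {x : G}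
    (hx : orderOf x = p) (S : Set X) (hS : ∀ q ∈ S, x • q ∈ S) :
    S.ncard ≡ {q | q ∈ S ∧ x • q = q}.ncard [MOD p] := by
  have hp : IsPGroup p (zpowers x) := IsPGroup.of_card (n := 1) (by rw [Nat.card_zpowers, hx, pow_one])
  have hinv : ∀ k ∈ zpowers x, ∀ q ∈ S, k • q ∈ S := by
    intro k hk
    obtain ⟨j, rfl⟩ := mem_powers_iff_mem_zpowers.2 hk
    show ∀ q ∈ S, x ^ j • q ∈ S
    induction j with
    | zero => simp
    | succ j ih => intro q hq; rw [pow_succ', mul_smul]; exact hS _ (ih (pow_mem (mem_zpowers x) j) q hq)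
  let inst : MulAction (zpowers x) S :=
    { smul := fun k q => ⟨(k : G) • (q : X), hinv k k.2 q q.2⟩
      one_smul := fun q => Subtype.ext (one_smul G (q : X))
      mul_smul := fun k l q => Subtype.ext (mul_smul (k : G) (l : G) (q : X)) }
  have h := hp.card_modEq_card_fixedPoints S
  rw [Nat.card_coe_set_eq] at h
  rw [← Nat.card_coe_set_eq {q | q ∈ S ∧ x • q = q}]
  refine h.trans (congrArg (fun n => n % p) (Nat.card_congr
    ⟨fun q => ⟨q.1, q.1.2, congrArg Subtype.val (q.2 ⟨x, mem_zpowers x⟩)⟩,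
     fun q => ⟨⟨q.1, q.2.1⟩, fun k => Subtype.ext ?_⟩, fun _ => rfl, fun _ => rfl⟩))
  have : zpowers x ≤ MulAction.stabilizer G (q.1 : X) := zpowers_le.2 q.2.2
  exact this k.2

/-- A free action divides the size of an invariant set. -/
theorem dvd_ncard_of_free_smul {X : Type*} [MulAction G X] [Finite X] {K : Subgroup G} (S : Set X)
    (hS : ∀ k ∈ K, ∀ q ∈ S, k • q ∈ S) (hfree : ∀ k ∈ K, ∀ q ∈ S, k • q = q → k = 1) :
    Nat.card K ∣ S.ncard := by
  let inst : MulAction K S :=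
    { smul := fun k q => ⟨(k : G) • (q : X), hS k k.2 q q.2⟩
      one_smul := fun q => Subtype.ext (one_smul G (q : X))
      mul_smul := fun k l q => Subtype.ext (mul_smul (k : G) (l : G) (q : X)) }
  have h : ∀ b : S, MulAction.stabilizer K b = ⊥ := fun b => (eq_bot_iff_forall _).2 fun k hk =>
    Subtype.ext (hfree k k.2 b b.2 (congrArg Subtype.val hk))
  rw [← Nat.card_coe_set_eq, Nat.card_congr (MulAction.selfEquivOrbitsQuotientProd h), Nat.card_prod]
  exact dvd_mul_left _ _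

namespace EData

variable (d : EData G)

/-- The normalizer. -/
def H : Subgroup G := normalizer (d.E : Set G)

theorem E_le : d.E ≤ d.H := le_normalizer

theorem card_H : Nat.card d.H = 5760 := d.card_norm

theorem conj_E {g s : G} (hg : g ∈ d.H) (hs : s ∈ d.E) : g * s * g⁻¹ ∈ d.E :=
  conj_mem_of_le_normalizer le_rfl hg hs

theorem commute_E {s s' : G} (hs : s ∈ d.E) (hs' : s' ∈ d.E) : s * s' = s' * s :=
  (mem_centralizer_iff.1 (d.cent.ge hs') s hs)

theorem orderOf_E {s : G} (hs : s ∈ d.E) (h1 : s ≠ 1) : orderOf s = 2 :=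
  orderOf_eq_prime (by rw [pow_two]; exact d.sq s hs) h1

theorem card_space (h : Hyp G) : Nat.card (G ⧸ d.H) = 77 := by
  have := d.H.card_mul_index
  rw [d.card_H, h.card, Subgroup.index] at this
  omega

/-- The base point. -/
def a : G ⧸ d.H := ((1 : G) : G ⧸ d.H)

theorem smul_a (g : G) : g • d.a = ((g : G) : G ⧸ d.H) := by
  rw [a, MulAction.Quotient.smul_mk, smul_eq_mul, mul_one]

theorem smul_a_iff {g : G} : g • d.a = d.a ↔ g ∈ d.H := by
  rw [d.smul_a, a, QuotientGroup.eq, mul_one, inv_mem_iff]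

theorem exists_smul_a (p : G ⧸ d.H) : ∃ g : G, g • d.a = p := by
  obtain ⟨g, rfl⟩ := QuotientGroup.mk_surjective p
  exact ⟨g, d.smul_a g⟩

/-- The involutions of `E` have their centralizers inside `H`. -/
theorem cent_le_H (h : Hyp G) {s : G} (hs : s ∈ d.E) (h1 : s ≠ 1) :
    centralizer ({s} : Set G) ≤ d.H := by
  have hsH := d.E_le hs
  have h2 := M12Nse.ncard_cl_mul (⟨s, hsH⟩ : d.H)
  have hcl : (M12Nse.cl (⟨s, hsH⟩ : d.H)).ncard = 15 := by
    rw [← Set.ncard_image_of_injective _ Subtype.val_injective]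
    rw [show Subtype.val '' (M12Nse.cl (⟨s, hsH⟩ : d.H)) = (d.E : Set G) \ {1} from ?_]
    · rw [Set.ncard_diff_singleton_of_mem (one_mem _), ← Nat.card_coe_set_eq]
      show Nat.card d.E - 1 = 15
      rw [d.card]
    ext z
    constructor
    · rintro ⟨z', hz, rfl⟩
      obtain ⟨g, hg⟩ := isConj_iff.1 (show IsConj _ z' from hz)
      have e : (g : G) * s * (g : G)⁻¹ = z' := congrArg Subtype.val hg
      rw [← e]
      exact ⟨d.conj_E g.2 hs, fun e' => h1 (conj_eq_one_iff.1 e')⟩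
    · rintro ⟨hz, hz1⟩
      obtain ⟨g, hg, rfl⟩ := d.trans s hs z hz h1 hz1
      exact ⟨⟨g, hg⟩ * ⟨s, hsH⟩ * ⟨g, hg⟩⁻¹, M12Nse.conj_mem_cl _ (M12Nse.mem_cl_self _), rfl⟩
  rw [hcl, d.card_H] at h2
  have h3 : Nat.card (centralizer ({(⟨s, hsH⟩ : d.H)} : Set d.H)) =
      Nat.card (centralizer ({s} : Set G) ⊓ d.H : Subgroup G) :=
    Nat.card_congr
      ⟨fun z => ⟨((z : d.H) : G), mem_inf.2 ⟨mem_centralizer_singleton_iff.2
          (congrArg Subtype.val (mem_centralizer_singleton_iff.1 z.2)), (z : d.H).2⟩⟩,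
       fun z => ⟨⟨z, (mem_inf.1 z.2).2⟩, mem_centralizer_singleton_iff.2
          (Subtype.ext (mem_centralizer_singleton_iff.1 (mem_inf.1 z.2).1))⟩,
       fun _ => rfl, fun _ => rfl⟩
  rw [h3] at h2
  have : centralizer ({s} : Set G) ⊓ d.H = centralizer ({s} : Set G) :=
    eq_of_le_of_card_ge inf_le_left (by rw [cent_two h (d.orderOf_E hs h1)]; omega)
  exact this ▸ inf_le_right

/-- An element of order five with exactly two fixed points, and an element exchanging them. -/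
structure Flip where
  x : G
  j : G
  hx : orderOf x = 5
  hxH : x ∈ d.H
  hj : j ∉ d.H
  flip : j • (j • d.a) = d.a
  fix : x • (j • d.a) = j • d.a
  only : ∀ p, x • p = p → p = d.a ∨ p = j • d.a

theorem exists_flip (h : Hyp G) : Nonempty d.Flip := by
  have : Fact (Nat.Prime 5) := ⟨by norm_num⟩
  obtain ⟨⟨x, hxH⟩, hx'⟩ := exists_prime_orderOf_dvd_card' (G := d.H) 5 (by rw [d.card_H]; norm_num)
  have hx : orderOf x = 5 := by rw [← hx', Subgroup.orderOf_mk]
  set N := normalizer (zpowers x : Set G) with hN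
  -- the normalizer in `H` has order ten
  have hcardP : ∀ Q : Sylow 5 d.H, Nat.card (Q : Subgroup d.H) = 5 := fun Q => by
    rw [Q.card_eq_multiplicity, d.card_H]
    have : Nat.factorization 5760 5 = 1 := by
      rw [show 5760 = 5 ^ 1 * 1152 by norm_num, Nat.factorization_mul (by norm_num) (by norm_num),
        Finsupp.add_apply, Nat.Prime.factorization_pow (by norm_num : Nat.Prime 5),
        Finsupp.single_eq_same, Nat.factorization_eq_zero_of_not_dvd (by norm_num : ¬5 ∣ 1152)]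
    rw [this, pow_one]
  obtain ⟨Q, hQ⟩ := (IsPGroup.of_card (G := zpowers (⟨x, hxH⟩ : d.H)) (p := 5) (n := 1)
    (by rw [Nat.card_zpowers, hx', pow_one])).exists_le_sylow
  have hQx : (Q : Subgroup d.H) = zpowers (⟨x, hxH⟩ : d.H) :=
    (eq_of_le_of_card_ge hQ (by rw [hcardP Q, Nat.card_zpowers, hx'])).symm
  have h10 : Nat.card (N ⊓ d.H : Subgroup G) = 10 := by
    set M := normalizer (((Q : Subgroup d.H)) : Set d.H) with hM
    have hMN : Nat.card M = Nat.card (N ⊓ d.H : Subgroup G) := by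
      have hmap : (Q : Subgroup d.H).map d.H.subtype = zpowers x := by
        rw [hQx, MonoidHom.map_zpowers]; rfl
      refine Nat.card_congr
        ⟨fun g => ⟨((g : d.H) : G), mem_inf.2 ⟨mem_normalizer_of_conj fun s hs => ?_, (g : d.H).2⟩⟩,
         fun g => ⟨⟨g, (mem_inf.1 g.2).2⟩, mem_normalizer_of_conj fun s hs => ?_⟩,
         fun _ => rfl, fun _ => rfl⟩
      · rw [← hmap] at hs ⊢
        obtain ⟨s', hs', rfl⟩ := hs
        exact ⟨(g : d.H) * s' * (g : d.H)⁻¹, conj_mem_of_le_normalizer le_rfl g.2 hs', rfl⟩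
      · have h1 : (g : G) * (s : G) * (g : G)⁻¹ ∈ zpowers x :=
          conj_mem_of_le_normalizer le_rfl (mem_inf.1 g.2).1 (hmap ▸ ⟨s, hs, rfl⟩)
        rw [← hmap] at h1
        obtain ⟨s', hs', e⟩ := h1
        have he : s' = ⟨(g : G), (mem_inf.1 g.2).2⟩ * s * ⟨(g : G), (mem_inf.1 g.2).2⟩⁻¹ := Subtype.ext e
        exact he ▸ hs'
    have h5 : 5 ∣ Nat.card M := hcardP Q ▸ card_dvd_of_le le_normalizer
    have h20 : Nat.card M ∣ 20 := by
      rw [hMN, ← norm_five h hx]; exact card_dvd_of_le inf_le_left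
    have hidx := M.card_mul_index
    rw [d.card_H] at hidx
    have hmod := card_sylow_modEq_one 5 d.H
    rw [Q.card_eq_index_normalizer] at hmod
    change M.index ≡ 1 [MOD 5] at hmod
    rw [← hMN]
    have : ∀ m ∈ Nat.divisors 20, 5 ∣ m → m = 5 ∨ m = 10 ∨ m = 20 := by decide
    unfold Nat.ModEq at hmod
    rcases this _ (Nat.mem_divisors.2 ⟨h20, by norm_num⟩) h5 with e | e | e <;> rw [e] at hidx ⊢ <;> omega
  -- fixed points are images under the normalizer
  have hfix : ∀ p, x • p = p → ∃ n ∈ N, n • d.a = p := by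
    intro p hp
    obtain ⟨g, rfl⟩ := d.exists_smul_a p
    have hg : g⁻¹ * x * g ∈ d.H := d.smul_a_iff.1 (by rw [mul_smul, mul_smul, hp, inv_smul_smul])
    have ho : orderOf (⟨g⁻¹ * x * g, hg⟩ : d.H) = 5 := by
      rw [Subgroup.orderOf_mk]
      have := CfsgLib.Invol.orderOf_conj_eq g⁻¹ x
      rw [inv_inv] at this
      rw [this, hx]
    obtain ⟨Q', hQ'⟩ := (IsPGroup.of_card (G := zpowers (⟨g⁻¹ * x * g, hg⟩ : d.H)) (p := 5) (n := 1)
      (by rw [Nat.card_zpowers, ho, pow_one])).exists_le_sylow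
    obtain ⟨k, hk⟩ := MulAction.exists_smul_eq d.H Q' Q
    have hk' : k * ⟨g⁻¹ * x * g, hg⟩ * k⁻¹ ∈ (Q : Subgroup d.H) := by
      rw [← hk]
      exact Subgroup.smul_mem_pointwise_smul _ (MulAut.conj k) _ (hQ' (mem_zpowers _))
    rw [hQx] at hk'
    obtain ⟨i, hi⟩ := mem_zpowers_iff.1 hk'
    have hi' : x ^ i = (k : G) * (g⁻¹ * x * g) * (k : G)⁻¹ := congrArg Subtype.val hi
    refine ⟨g * (k : G)⁻¹, ?_, by rw [mul_smul, d.smul_a_iff.2 (inv_mem k.2)]⟩
    have hmem : g * (k : G)⁻¹ * x ^ i * (g * (k : G)⁻¹)⁻¹ = x := by rw [hi']; group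
    have hle : zpowers x ≤ (zpowers x).map (MulAut.conj (g * (k : G)⁻¹)).toMonoidHom :=
      zpowers_le.2 ⟨x ^ i, zpow_mem (mem_zpowers x) i, hmem⟩
    have heq : zpowers x = (zpowers x).map (MulAut.conj (g * (k : G)⁻¹)).toMonoidHom :=
      eq_of_le_of_card_ge hle (le_of_eq (card_map_of_injective (MulAut.conj _).injective))
    refine mem_normalizer_of_conj fun s hs => ?_
    rw [heq]
    exact ⟨s, hs, rfl⟩
  have hNfix : ∀ n ∈ N, ∀ p : G ⧸ d.H, x • p = p → x • (n • p) = n • p := by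
    intro n hn p hp
    have h1 : n⁻¹ * x * n ∈ zpowers x := by
      have := conj_mem_of_le_normalizer le_rfl (inv_mem hn) (mem_zpowers x)
      rwa [inv_inv] at this
    have h2 : zpowers x ≤ MulAction.stabilizer G p := zpowers_le.2 hp
    calc x • (n • p) = n • ((n⁻¹ * x * n) • p) := by rw [smul_smul, smul_smul]; congr 1; group
      _ = n • p := by rw [h2 h1]
  -- two fixed points
  obtain ⟨j, hjN, hjH⟩ : ∃ j ∈ N, j ∉ d.H := by
    by_contra hall
    simp only [not_exists, not_and, not_not] at hall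
    rw [inf_eq_left.2 hall, hN, norm_five h hx] at h10
    norm_num at h10
  have hidx2 : ((N ⊓ d.H).subgroupOf N).index = 2 := by
    have hN20 : Nat.card N = 20 := norm_five h hx
    have := ((N ⊓ d.H).subgroupOf N).card_mul_index
    rw [Nat.card_congr (subgroupOfEquivOfLe (show N ⊓ d.H ≤ N from inf_le_left)).toEquiv, h10, hN20] at this
    omega
  have htwo : ∀ n ∈ N, ∀ n' ∈ N, n ∉ d.H → n' ∉ d.H → n * n' ∈ d.H := by
    intro n hn n' hn' hnH hn'H
    have := (mul_mem_iff_of_index_two hidx2 (a := ⟨n, hn⟩) (b := ⟨n', hn'⟩)).2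
      (iff_of_false (fun h => hnH (mem_inf.1 (mem_subgroupOf.1 h)).2)
        (fun h => hn'H (mem_inf.1 (mem_subgroupOf.1 h)).2))
    exact (mem_inf.1 (mem_subgroupOf.1 this)).2
  refine ⟨⟨x, j, hx, hxH, hjH, ?_, hNfix j hjN _ (d.smul_a_iff.2 hxH), fun p hp => ?_⟩⟩
  · rw [smul_smul, d.smul_a_iff]; exact htwo j hjN j hjN hjH hjH
  · obtain ⟨n, hn, rfl⟩ := hfix p hp
    by_cases hnH : n ∈ d.H
    · exact Or.inl (d.smul_a_iff.2 hnH)
    · right
      have : n⁻¹ * j ∈ d.H := htwo n⁻¹ (inv_mem hn) j hjN (fun h => hnH (by simpa using inv_mem h)) hjH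
      conv_rhs => rw [show j = n * (n⁻¹ * j) by group, mul_smul, d.smul_a_iff.2 this]

namespace Flip

variable {d} (c : d.Flip)

/-- The second fixed point. -/
def om : G ⧸ d.H := c.j • d.a

theorem om_ne : c.om ≠ d.a := fun e => c.hj (d.smul_a_iff.1 e)

theorem j_om : c.j • c.om = d.a := c.flip

/-- The point stabiliser of the pair. -/
def K : Subgroup G := d.H ⊓ MulAction.stabilizer G c.om

theorem mem_K {g : G} : g ∈ c.K ↔ g ∈ d.H ∧ g • c.om = c.om := mem_inf

theorem x_mem_K : c.x ∈ c.K := c.mem_K.2 ⟨c.hxH, c.fix⟩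

/-- The orbit of the second point. -/
def O : Set (G ⧸ d.H) := {p | ∃ g ∈ d.H, g • c.om = p}

theorem a_not_mem_O : d.a ∉ c.O := by
  rintro ⟨g, hg, e⟩
  refine c.om_ne (MulAction.injective g ?_)
  show g • c.om = g • d.a
  rw [e, d.smul_a_iff.2 hg]

theorem cent_x (h : Hyp G) {s : G} (hs : s ∈ d.E) (hxs : c.x * s = s * c.x) : s = 1 := by
  by_contra h1
  have := no_five_in_cent h c.hx hxs.symm
  rw [d.orderOf_E hs h1] at this
  norm_num at this

theorem E_regular (h : Hyp G) {s : G} (hs : s ∈ d.E) (hfix : s • c.om = c.om) : s = 1 := by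
  have : Fact (Nat.Prime 5) := ⟨by norm_num⟩
  by_contra hs1
  -- the orbit of `E` has length one
  set S : Set (G ⧸ d.H) := {p | ∃ e ∈ d.E, e • c.om = p} with hS
  set Es : Subgroup G := d.E ⊓ MulAction.stabilizer G c.om with hEs
  have hnorm : ∀ e ∈ Es, c.x * e * c.x⁻¹ ∈ Es := fun e he => by
    refine mem_inf.2 ⟨d.conj_E c.hxH (mem_inf.1 he).1, ?_⟩
    show (c.x * e * c.x⁻¹) • c.om = c.om
    have h2 : c.x⁻¹ • c.om = c.om := inv_smul_eq_iff.2 c.fix.symm
    rw [mul_smul, mul_smul, h2, show e • c.om = c.om from (mem_inf.1 he).2]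
    exact c.fix
  have hmod : ∀ T : Subgroup G, T ≤ d.E → (∀ e ∈ T, c.x * e * c.x⁻¹ ∈ T) → Nat.card T % 5 = 1 := by
    intro T hT hTx
    have hm := M12Nse.ncard_modEq_fixed (p := 5) (K := zpowers c.x)
      (IsPGroup.of_card (n := 1) (by rw [Nat.card_zpowers, c.hx, pow_one])) (T : Set G)
      (fun k hk t ht => conj_mem_of_le_normalizer (zpowers_le.2 (mem_normalizer_of_conj hTx)) hk ht)
    have e1 : {t | t ∈ (T : Set G) ∧ ∀ k ∈ zpowers c.x, k * t = t * k} = {1} := by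
      ext t
      refine ⟨fun ht => c.cent_x h (hT ht.1) (ht.2 _ (mem_zpowers _)), ?_⟩
      rintro rfl
      exact ⟨one_mem _, fun k _ => by simp⟩
    rw [e1, Set.ncard_singleton, ← Nat.card_coe_set_eq] at hm
    exact hm
  have hcases : ∀ T : Subgroup G, T ≤ d.E → (∀ e ∈ T, c.x * e * c.x⁻¹ ∈ T) → T = ⊥ ∨ T = d.E := by
    intro T hT hTx
    have hd : Nat.card T ∣ 16 := d.card ▸ card_dvd_of_le hT
    have := hmod T hT hTx
    have key : ∀ m ∈ Nat.divisors 16, m % 5 = 1 → m = 1 ∨ m = 16 := by decide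
    rcases key _ (Nat.mem_divisors.2 ⟨hd, by norm_num⟩) this with e | e
    · exact Or.inl (Subgroup.eq_bot_of_card_eq _ e)
    · exact Or.inr (eq_of_le_of_card_ge hT (by rw [e, d.card]))
  have hEfix : ∀ e ∈ d.E, e • c.om = c.om := by
    rcases hcases Es inf_le_left hnorm with e | e
    · exact absurd (e ▸ mem_inf.2 ⟨hs, hfix⟩ : s ∈ (⊥ : Subgroup G)) (by simpa using hs1)
    · exact fun e' he' => (mem_inf.1 (e.ge he')).2
  -- so the conjugate by the exchanging element is also in `H`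
  have hjE : ∀ e ∈ d.E, c.j * e * c.j⁻¹ ∈ d.H := fun e he => by
    refine d.smul_a_iff.1 ?_
    have hja : c.j⁻¹ • d.a = c.om := inv_smul_eq_iff.2 c.j_om.symm
    rw [mul_smul, mul_smul, hja, hEfix e he, c.j_om]
  set E' := d.E.map (MulAut.conj c.j).toMonoidHom with hE'
  have hE'H : E' ≤ d.H := by
    rintro _ ⟨e, he, rfl⟩
    exact hjE e he
  have hx' : c.j⁻¹ * c.x * c.j ∈ d.H := d.smul_a_iff.1 (by
    show (c.j⁻¹ * c.x * c.j) • d.a = d.a
    rw [mul_smul, mul_smul, c.fix, inv_smul_smul])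
  have hint : ∀ e ∈ (d.E ⊓ E'), c.x * e * c.x⁻¹ ∈ d.E ⊓ E' := by
    intro e he
    obtain ⟨e', he', rfl⟩ := (mem_inf.1 he).2
    refine mem_inf.2 ⟨d.conj_E c.hxH (mem_inf.1 he).1,
      ⟨c.j⁻¹ * c.x * c.j * e' * (c.j⁻¹ * c.x * c.j)⁻¹, d.conj_E hx' he', ?_⟩⟩
    show c.j * _ * c.j⁻¹ = c.x * (c.j * e' * c.j⁻¹) * c.x⁻¹
    group
  have hEE : Nat.card E' = 16 := by
    rw [hE', card_map_of_injective (MulAut.conj c.j).injective, d.card]
  rcases hcases _ inf_le_left hint with e | e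
  · have hprod : Nat.card (E' ⊔ d.E : Subgroup G) = 256 := by
      rw [← SetLike.coe_sort_coe, coe_mul_of_left_le_normalizer_right E' d.E hE'H,
        ← Set.image2_mul, ← Set.image_prod, Nat.card_coe_set_eq, Set.InjOn.ncard_image ?_,
        Set.ncard_prod, ← Nat.card_coe_set_eq, ← Nat.card_coe_set_eq]
      · show Nat.card E' * Nat.card d.E = 256
        rw [hEE, d.card]
      rintro ⟨p, q⟩ ⟨hp, hq⟩ ⟨p', q'⟩ ⟨hp', hq'⟩ e2
      have e2 : p * q = p' * q' := e2
      have e3 : p'⁻¹ * p = q' * q⁻¹ := by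
        calc p'⁻¹ * p = p'⁻¹ * (p * q) * q⁻¹ := by group
          _ = q' * q⁻¹ := by rw [e2]; group
      have h1 : p'⁻¹ * p ∈ d.E ⊓ E' :=
        mem_inf.2 ⟨e3 ▸ mul_mem hq' (inv_mem hq), mul_mem (inv_mem hp') hp⟩
      rw [e, mem_bot, inv_mul_eq_one] at h1
      subst h1
      rw [mul_left_cancel e2]
    have := card_dvd_of_le (sup_le hE'H d.E_le)
    rw [hprod, d.card_H] at this
    norm_num at this
  · have hEeq : E' = d.E :=
      (eq_of_le_of_card_ge (e ▸ inf_le_right : d.E ≤ E') (by rw [hEE, d.card])).symm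
    refine c.hj (mem_normalizer_of_conj fun e' he' => ?_)
    exact hEeq ▸ (⟨e', he', rfl⟩ : c.j * e' * c.j⁻¹ ∈ E')

theorem ncard_Eorbit (h : Hyp G) : {p | ∃ e ∈ d.E, e • c.om = p}.ncard = 16 := by
  rw [← d.card, ← Nat.card_coe_set_eq]
  refine (Nat.card_congr (Equiv.ofBijective
    (fun e : d.E => (⟨(e : G) • c.om, e, e.2, rfl⟩ : {p | ∃ e ∈ d.E, e • c.om = p})) ⟨?_, ?_⟩)).symm
  · intro e e' he
    have he : (e : G) • c.om = (e' : G) • c.om := congrArg Subtype.val he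
    refine Subtype.ext (inv_mul_eq_one.1 (c.E_regular h (mul_mem (inv_mem e.2) e'.2) ?_))
    rw [mul_smul, ← he, inv_smul_smul]
  · rintro ⟨p, e, he, rfl⟩
    exact ⟨⟨e, he⟩, rfl⟩

theorem ncard_O (h : Hyp G) : c.O.ncard = 16 := by
  have : Fact (Nat.Prime 5) := ⟨by norm_num⟩
  have hfin : Finite (G ⧸ d.H) := inferInstance
  have horb : c.O = MulAction.orbit d.H c.om := by
    ext p
    exact ⟨fun ⟨g, hg, e⟩ => ⟨⟨g, hg⟩, e⟩, fun ⟨g, e⟩ => ⟨g, g.2, e⟩⟩
  have hidx : c.O.ncard = (c.K.subgroupOf d.H).index := by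
    rw [horb, ← MulAction.index_stabilizer]
    congr 1
    ext g
    exact ⟨fun hg => c.mem_K.2 ⟨g.2, hg⟩, fun hg => (c.mem_K.1 hg).2⟩
  have hmul := (c.K.subgroupOf d.H).card_mul_index
  rw [Nat.card_congr (subgroupOfEquivOfLe (show c.K ≤ d.H from inf_le_left)).toEquiv, d.card_H, ← hidx] at hmul
  have hle : c.O.ncard ≤ 76 := by
    have h1 := Set.ncard_le_ncard (Set.subset_univ (insert d.a c.O)) (Set.toFinite _)
    rw [Set.ncard_univ, d.card_space h, Set.ncard_insert_of_notMem c.a_not_mem_O (Set.toFinite _)] at h1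
    omega
  have h16 : 16 ≤ c.O.ncard := c.ncard_Eorbit h ▸
    Set.ncard_le_ncard (fun p ⟨e, he, hp⟩ => ⟨e, d.E_le he, hp⟩) (Set.toFinite _)
  have hmod := ncard_modEq_fixed_smul c.hx c.O (fun q hq => by
    obtain ⟨g, hg, rfl⟩ := hq
    exact ⟨c.x * g, mul_mem c.hxH hg, mul_smul _ _ _⟩)
  rw [show {q | q ∈ c.O ∧ c.x • q = q} = {c.om} from ?_, Set.ncard_singleton] at hmod
  · have h16d : 16 ∣ c.O.ncard := by
      -- the stabiliser meets `E` trivially
      have hEn : (d.E.subgroupOf d.H).Normal := normal_subgroupOf_of_le_normalizer le_rfl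
      let f : c.K.subgroupOf d.H →* d.H ⧸ (d.E.subgroupOf d.H) :=
        (QuotientGroup.mk' _).comp (c.K.subgroupOf d.H).subtype
      have hinj : Function.Injective f := by
        refine (injective_iff_map_eq_one f).2 fun k hk => Subtype.ext (Subtype.ext ?_)
        have hkE : ((k : d.H) : G) ∈ d.E :=
          mem_subgroupOf.1 ((QuotientGroup.eq_one_iff _).1 hk)
        exact c.E_regular h hkE (c.mem_K.1 (mem_subgroupOf.1 k.2)).2
      have h360 : Nat.card (c.K.subgroupOf d.H) ∣ 360 := by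
        refine (card_dvd_of_injective f hinj).trans (dvd_of_eq ?_)
        have := (d.E.subgroupOf d.H).card_mul_index
        rw [Nat.card_congr (subgroupOfEquivOfLe d.E_le).toEquiv, d.card, d.card_H, Subgroup.index] at this
        omega
      rw [Nat.card_congr (subgroupOfEquivOfLe (show c.K ≤ d.H from inf_le_left)).toEquiv] at h360
      obtain ⟨r, hr⟩ := h360
      refine ⟨r, Nat.eq_of_mul_eq_mul_left (Nat.card_pos (α := c.K)) ?_⟩
      rw [hmul]
      calc (5760 : ℕ) = 16 * 360 := by norm_num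
        _ = Nat.card c.K * (16 * r) := by rw [hr]; ring
    have hd : c.O.ncard ∣ 5760 := Dvd.intro_left _ hmul
    have : ∀ m ∈ Nat.divisors 5760, m ≤ 76 → 16 ∣ m → m % 5 = 1 → m = 16 := by decide +kernel
    exact this _ (Nat.mem_divisors.2 ⟨hd, by norm_num⟩) hle h16d hmod
  ext q
  constructor
  · rintro ⟨hq, hxq⟩
    exact (c.only q hxq).resolve_left fun e => c.a_not_mem_O (e ▸ hq)
  · rintro rfl
    exact ⟨⟨1, one_mem _, one_smul _ _⟩, c.fix⟩

/-- The orbit is a regular orbit of `E`. -/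
theorem O_eq (h : Hyp G) {p : G ⧸ d.H} : p ∈ c.O ↔ ∃ e ∈ d.E, e • c.om = p := by
  have : {p | ∃ e ∈ d.E, e • c.om = p} = c.O :=
    Set.eq_of_subset_of_ncard_le (fun p ⟨e, he, hp⟩ => ⟨e, d.E_le he, hp⟩)
      (by rw [c.ncard_O h, c.ncard_Eorbit h]) (Set.toFinite _)
  exact ⟨fun hp => this.ge hp, fun hp => this.le hp⟩

theorem K_trans (h : Hyp G) {s s' : G} (hs : s ∈ d.E) (hs' : s' ∈ d.E) (h1 : s ≠ 1) (h1' : s' ≠ 1) :
    ∃ k ∈ c.K, k * s * k⁻¹ = s' := by
  obtain ⟨g, hg, e⟩ := d.trans s hs s' hs' h1 h1'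
  obtain ⟨u, hu, hug⟩ := (c.O_eq h).1 ⟨g, hg, rfl⟩
  refine ⟨u⁻¹ * g, c.mem_K.2 ⟨mul_mem (inv_mem (d.E_le hu)) hg, ?_⟩, ?_⟩
  · rw [mul_smul, ← hug, inv_smul_smul]
  · calc u⁻¹ * g * s * (u⁻¹ * g)⁻¹ = u⁻¹ * (g * s * g⁻¹) * u := by group
      _ = s' := by rw [e, d.commute_E (inv_mem hu) hs', mul_assoc, inv_mul_cancel, mul_one]

end Flip

end EData

end CfsgLib.ClassK.M22Nse
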