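import Cfsg.Agent.Lib.ClassK.M12Nse.Basic
import Cfsg.Agent.Lib.StructB.OrderCount

/-!
A group of order 443520 whose numbers of elements of given orders take the values of M22: the orders
of its elements and the number of elements of each order.
-/

set_option autoImplicit false

namespace CfsgLib.ClassK.M22Nse

open Subgroup CfsgLib.StructB.OrderCount
open CfsgLib.ClassK.M12Nse (centralizer_le_normalizer_zpowers)

universe u

/-- The values. -/
def vals : Finset ℕ := {1, 1155, 12320, 41580, 88704, 36960, 126720, 55440, 80640}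

/-- The hypotheses on the group. -/
structure Hyp (G : Type u) [Group G] : Prop where
  card : Nat.card G = 443520
  val : ∀ n : ℕ, cnt G n ≠ 0 → cnt G n ∈ vals
  ach : ∀ c ∈ vals, ∃ n : ℕ, cnt G n = c

variable {G : Type u} [Group G] [Finite G]

theorem sum_cnt : ∑ d ∈ (Nat.card G).divisors, cnt G d = Nat.card G := by
  rw [← card_root_eq Nat.card_pos.ne']
  exact Nat.card_congr (Equiv.subtypeUnivEquiv fun x => pow_card_eq_one')

/-- Every order occurring is the only one with its count. -/
theorem Hyp.inj (h : Hyp G) {d e : ℕ} (hd : cnt G d ≠ 0) (he : cnt G d = cnt G e) : d = e := by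
  classical
  have : ∀ c : {x // x ∈ vals}, ∃ n : ℕ, cnt G n = c.1 := fun c => h.ach c.1 c.2
  choose w hw using this
  set S : Finset ℕ := vals.attach.image w with hS
  have hpos : ∀ c : {x // x ∈ vals}, cnt G (w c) ≠ 0 := fun c => by
    rw [hw]
    rintro e
    have hc := c.2
    rw [e] at hc
    exact absurd hc (by decide)
  have hwinj : Function.Injective w := fun a b hab => Subtype.ext (by rw [← hw a, ← hw b, hab])
  have hsub : S ⊆ (Nat.card G).divisors := by
    intro n hn
    obtain ⟨c, -, rfl⟩ := Finset.mem_image.1 hn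
    exact Nat.mem_divisors.2 ⟨dvd_card_of_cnt (hpos c), Nat.card_pos.ne'⟩
  have hsum : ∑ n ∈ S, cnt G n = Nat.card G := by
    rw [hS, Finset.sum_image fun a _ b _ hab => hwinj hab, h.card]
    rw [Finset.sum_congr rfl fun c _ => hw c, Finset.sum_attach vals (fun c => c)]
    decide
  have hzero : ∀ n, cnt G n ≠ 0 → n ∈ S := by
    intro n hn
    by_contra hnS
    have hlt : ∑ m ∈ S, cnt G m < ∑ m ∈ (Nat.card G).divisors, cnt G m :=
      Finset.sum_lt_sum_of_subset hsub (Nat.mem_divisors.2 ⟨dvd_card_of_cnt hn, Nat.card_pos.ne'⟩)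
        hnS (Nat.pos_of_ne_zero hn) fun j _ _ => Nat.zero_le _
    rw [hsum, sum_cnt] at hlt
    exact lt_irrefl _ hlt
  obtain ⟨a, -, rfl⟩ := Finset.mem_image.1 (hzero d hd)
  obtain ⟨b, -, rfl⟩ := Finset.mem_image.1 (hzero e (he ▸ hd))
  rw [hw, hw] at he
  rw [Subtype.ext he]

theorem Hyp.cases (h : Hyp G) (n : ℕ) : cnt G n = 0 ∨ cnt G n = 1 ∨ cnt G n = 1155 ∨
    cnt G n = 12320 ∨ cnt G n = 41580 ∨ cnt G n = 88704 ∨ cnt G n = 36960 ∨ cnt G n = 126720 ∨
    cnt G n = 55440 ∨ cnt G n = 80640 := by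
  by_cases hn : cnt G n = 0
  · exact Or.inl hn
  · have := h.val n hn
    simp only [vals, Finset.mem_insert, Finset.mem_singleton] at this
    tauto

theorem cnt_prime_dvd {p : ℕ} (hp : p.Prime) (hd : p ∣ Nat.card G) : p ∣ cnt G p + 1 := by
  have h := dvd_sum_cnt hd
  rwa [hp.divisors, Finset.sum_pair hp.ne_one.symm, cnt_one, add_comm] at h

theorem Hyp.cnt_two (h : Hyp G) : cnt G 2 = 1155 := by
  have hd := cnt_prime_dvd (G := G) Nat.prime_two (h.card ▸ by norm_num)
  have h1 : cnt G 2 ≠ 1 := fun e => absurd (h.inj (d := 2) (e := 1)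
    (by rw [e]; norm_num) (e.trans cnt_one.symm)) (by norm_num)
  rcases h.cases 2 with e | e | e | e | e | e | e | e | e | e <;> rw [e] at hd h1 ⊢ <;> omega

theorem Hyp.cnt_three (h : Hyp G) : cnt G 3 = 12320 := by
  have hd := cnt_prime_dvd (G := G) Nat.prime_three (h.card ▸ by norm_num)
  have h2 := totient_dvd_cnt (G := G) 3
  rw [Nat.totient_prime Nat.prime_three] at h2
  rcases h.cases 3 with e | e | e | e | e | e | e | e | e | e <;> rw [e] at hd h2 ⊢ <;> omega

theorem Hyp.cnt_five (h : Hyp G) : cnt G 5 = 88704 := by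
  have hd := cnt_prime_dvd (G := G) (p := 5) (by norm_num) (h.card ▸ by norm_num)
  rcases h.cases 5 with e | e | e | e | e | e | e | e | e | e <;> rw [e] at hd ⊢ <;> omega

theorem Hyp.cnt_seven (h : Hyp G) : cnt G 7 = 126720 := by
  have hd := cnt_prime_dvd (G := G) (p := 7) (by norm_num) (h.card ▸ by norm_num)
  rcases h.cases 7 with e | e | e | e | e | e | e | e | e | e <;> rw [e] at hd ⊢ <;> omega

theorem Hyp.cnt_eleven (h : Hyp G) : cnt G 11 = 80640 := by
  have hd := cnt_prime_dvd (G := G) (p := 11) (by norm_num) (h.card ▸ by norm_num)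
  rcases h.cases 11 with e | e | e | e | e | e | e | e | e | e <;> rw [e] at hd ⊢ <;> omega

/-- The other orders take the three remaining values. -/
theorem Hyp.other (h : Hyp G) {n : ℕ} (hn : n ∉ ([1, 2, 3, 5, 7, 11] : List ℕ)) :
    cnt G n = 0 ∨ cnt G n = 41580 ∨ cnt G n = 36960 ∨ cnt G n = 55440 := by
  simp only [List.mem_cons, List.not_mem_nil, or_false, not_or] at hn
  have key : ∀ {m c : ℕ}, cnt G m = c → c ≠ 0 → n ≠ m → cnt G n ≠ c := fun hm hc hne e =>
    hne (h.inj (by rw [e]; exact hc) (e.trans hm.symm))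
  have k1 := key cnt_one one_ne_zero hn.1
  have k2 := key h.cnt_two (by norm_num) hn.2.1
  have k3 := key h.cnt_three (by norm_num) hn.2.2.1
  have k5 := key h.cnt_five (by norm_num) hn.2.2.2.1
  have k7 := key h.cnt_seven (by norm_num) hn.2.2.2.2.1
  have k11 := key h.cnt_eleven (by norm_num) hn.2.2.2.2.2
  rcases h.cases n with e | e | e | e | e | e | e | e | e | e <;> omega

/-- At most three other orders occur. -/
theorem Hyp.not_four (h : Hyp G) {a b c d : ℕ} (ha : a ∉ ([1, 2, 3, 5, 7, 11] : List ℕ))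
    (hb : b ∉ ([1, 2, 3, 5, 7, 11] : List ℕ)) (hc : c ∉ ([1, 2, 3, 5, 7, 11] : List ℕ))
    (hd : d ∉ ([1, 2, 3, 5, 7, 11] : List ℕ)) (hne : List.Pairwise (· ≠ ·) [a, b, c, d])
    (na : cnt G a ≠ 0) (nb : cnt G b ≠ 0) (nc : cnt G c ≠ 0) : cnt G d = 0 := by
  simp only [List.pairwise_cons, List.mem_cons, List.not_mem_nil, or_false, forall_eq_or_imp,
    forall_eq, List.Pairwise.nil, and_true] at hne
  obtain ⟨⟨ab, ac, ad⟩, ⟨bc, bd⟩, cd, -⟩ := hne
  by_contra nd
  have e1 : cnt G a ≠ cnt G b := fun e => ab (h.inj na e)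
  have e2 : cnt G a ≠ cnt G c := fun e => ac (h.inj na e)
  have e3 : cnt G a ≠ cnt G d := fun e => ad (h.inj na e)
  have e4 : cnt G b ≠ cnt G c := fun e => bc (h.inj nb e)
  have e5 : cnt G b ≠ cnt G d := fun e => bd (h.inj nb e)
  have e6 : cnt G c ≠ cnt G d := fun e => cd (h.inj nc e)
  rcases h.other ha with x | x | x | x <;> rcases h.other hb with y | y | y | y <;>
    rcases h.other hc with z | z | z | z <;> rcases h.other hd with w | w | w | w <;> omega

/-- An element of order `q * p`, with `p`-part `x`, from a commuting element of order `q`. -/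
theorem cnt_ne_zero_of_commute {p q : ℕ} (hco : p.Coprime q) {x y : G} (hx : orderOf x = p)
    (hy : orderOf y = q) (hxy : x * y = y * x) : cnt G (p * q) ≠ 0 := by
  have : orderOf (x * y) = p * q := by
    rw [Commute.orderOf_mul_eq_mul_orderOf_of_coprime hxy (by rw [hx, hy]; exact hco), hx, hy]
  exact Nat.card_ne_zero.2 ⟨⟨⟨x * y, this⟩⟩, inferInstance⟩

theorem card_normalizer (h : Hyp G) {p k : ℕ} [hp : Fact p.Prime] (hd : p ∣ 443520)
    (hd2 : ¬ p ^ 2 ∣ 443520) (hk : cnt G p = k) {x : G} (hx : orderOf x = p) :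
    k * Nat.card (normalizer (zpowers x : Set G)) = (p - 1) * 443520 := by
  obtain ⟨P, hP⟩ := (IsPGroup.of_card (G := zpowers x) (p := p) (n := 1)
    (by rw [Nat.card_zpowers, hx, pow_one])).exists_le_sylow
  have hPc := CfsgLib.Transfer.card_sylow_eq_prime P (h.card ▸ hd) (h.card ▸ hd2)
  have hPx : (P : Subgroup G) = zpowers x :=
    (eq_of_le_of_card_ge hP (by rw [hPc, Nat.card_zpowers, hx])).symm
  rw [cnt, CfsgLib.Transfer.card_orderOf_eq_prime P hPc] at hk
  have h1 := (normalizer ((P : Subgroup G) : Set G)).index_mul_card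
  rw [← show Nat.card (Sylow p G) = (normalizer ((P : Subgroup G) : Set G)).index from
    P.card_eq_index_normalizer, h.card, hPx] at h1
  rw [← hk]
  calc _ = (p - 1) * (Nat.card (Sylow p G) * Nat.card (normalizer (zpowers x : Set G))) := by ring
    _ = (p - 1) * 443520 := by rw [h1]

theorem norm_five (h : Hyp G) {x : G} (hx : orderOf x = 5) :
    Nat.card (normalizer (zpowers x : Set G)) = 20 := by
  have : Fact (Nat.Prime 5) := ⟨by norm_num⟩
  have := card_normalizer h (by norm_num) (by norm_num) h.cnt_five hx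
  omega

theorem norm_seven (h : Hyp G) {x : G} (hx : orderOf x = 7) :
    Nat.card (normalizer (zpowers x : Set G)) = 21 := by
  have : Fact (Nat.Prime 7) := ⟨by norm_num⟩
  have := card_normalizer h (by norm_num) (by norm_num) h.cnt_seven hx
  omega

theorem norm_eleven (h : Hyp G) {x : G} (hx : orderOf x = 11) :
    Nat.card (normalizer (zpowers x : Set G)) = 55 := by
  have : Fact (Nat.Prime 11) := ⟨by norm_num⟩
  have := card_normalizer h (by norm_num) (by norm_num) h.cnt_eleven hx
  omega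

/-- All members of the subgroups of order `p` see the same centraliser, so a commuting element of
order `q` gives many elements of order `p * q`. -/
theorem le_cnt_mul {p q : ℕ} [hp : Fact p.Prime] [hq : Fact q.Prime] (hne : p ≠ q)
    (hd : p ∣ Nat.card G) (hd2 : ¬ p ^ 2 ∣ Nat.card G) {x y : G} (hx : orderOf x = p)
    (hy : orderOf y = q) (hxy : x * y = y * x) :
    cnt G p * (q - 1) ≤ cnt G (p * q) := by
  classical
  have := Fintype.ofFinite G
  have hco : p.Coprime q := (Nat.coprime_primes hp.out hq.out).2 hne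
  -- every element of order `p` commutes with an element of order `q`
  have hall : ∀ z : G, orderOf z = p → ∃ w : G, orderOf w = q ∧ z * w = w * z := by
    intro z hz
    obtain ⟨P, hP⟩ := (IsPGroup.of_card (G := zpowers x) (p := p) (n := 1)
      (by rw [Nat.card_zpowers, hx, pow_one])).exists_le_sylow
    obtain ⟨Q, hQ⟩ := (IsPGroup.of_card (G := zpowers z) (p := p) (n := 1)
      (by rw [Nat.card_zpowers, hz, pow_one])).exists_le_sylow
    have hPx : (P : Subgroup G) = zpowers x := (eq_of_le_of_card_ge hP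
      (by rw [CfsgLib.Transfer.card_sylow_eq_prime P hd hd2, Nat.card_zpowers, hx])).symm
    obtain ⟨g, rfl⟩ := MulAction.exists_smul_eq G P Q
    obtain ⟨u, hu, hue⟩ : z ∈ ((g • P : Sylow p G) : Subgroup G) := hQ (mem_zpowers z)
    rw [hPx] at hu
    obtain ⟨k, rfl⟩ := mem_zpowers_iff.1 hu
    refine ⟨g * y * g⁻¹, by rw [CfsgLib.Invol.orderOf_conj_eq, hy], ?_⟩
    rw [show z = g * x ^ k * g⁻¹ from by simpa using hue.symm]
    calc g * x ^ k * g⁻¹ * (g * y * g⁻¹) = g * (x ^ k * y) * g⁻¹ := by group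
      _ = g * (y * x ^ k) * g⁻¹ := by rw [(Commute.zpow_left hxy k).eq]
      _ = g * y * g⁻¹ * (g * x ^ k * g⁻¹) := by group
  choose w hw hwc using hall
  -- the map `(z, j) ↦ z * w(z) ^ j`
  have hcard : cnt G p * (q - 1) = Nat.card ({g : G // orderOf g = p} × Fin (q - 1)) := by
    rw [Nat.card_prod, Nat.card_fin]; rfl
  rw [hcard]
  have hj : ∀ (z : {g : G // orderOf g = p}) (j : Fin (q - 1)),
      orderOf (w z.1 z.2 ^ (j.1 + 1)) = q := fun z j => by
    rw [orderOf_pow' _ (by omega), hw]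
    have : Nat.Coprime q (j.1 + 1) := (Nat.Prime.coprime_iff_not_dvd hq.out).2
      (Nat.not_dvd_of_pos_of_lt (by omega) (by omega))
    rw [this.gcd_eq_one, Nat.div_one]
  refine Nat.card_le_card_of_injective (fun a => ⟨a.1.1 * w a.1.1 a.1.2 ^ (a.2.1 + 1), ?_⟩) ?_
  · rw [Commute.orderOf_mul_eq_mul_orderOf_of_coprime (Commute.pow_right (hwc a.1.1 a.1.2) _)
      (by rw [a.1.2, hj]; exact hco), a.1.2, hj]
  · rintro ⟨⟨z, hz⟩, i⟩ ⟨⟨z', hz'⟩, j⟩ e
    have e' : z * w z hz ^ (i.1 + 1) = z' * w z' hz' ^ (j.1 + 1) := congrArg Subtype.val e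
    have hwq : ∀ (u : G) (hu : orderOf u = p) (k : ℕ), (w u hu ^ k) ^ q = 1 := fun u hu k => by
      have h1 := pow_orderOf_eq_one (w u hu)
      rw [hw] at h1
      rw [← pow_mul, mul_comm k q, pow_mul, h1, one_pow]
    have e1 : z ^ q = z' ^ q := by
      have := congrArg (fun g => g ^ q) e'
      simpa only [(Commute.pow_right (hwc z hz) _).mul_pow, (Commute.pow_right (hwc z' hz') _).mul_pow,
        hwq, mul_one] using this
    obtain ⟨m, hm⟩ := exists_pow_eq_self_of_coprime (x := z) (n := q) (by rw [hz]; exact hco.symm)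
    have hzz : z = z' := by
      -- equal `q`-th powers of elements of order `p` are equal
      have h1 : (q * m) % p = 1 % p := by
        rw [← hz]
        exact pow_inj_mod.1 (by rw [pow_mul, hm, pow_one])
      have h2 : (z' ^ q) ^ m = z' := by
        rw [← pow_mul]
        nth_rewrite 2 [← pow_one z']
        exact pow_inj_mod.2 (by rw [hz', h1])
      rw [← hm, e1, h2]
    subst hzz
    have e2 : w z hz ^ (i.1 + 1) = w z hz ^ (j.1 + 1) := mul_left_cancel e'
    have e3 := (pow_inj_mod).1 e2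
    have hi := i.isLt
    have hj' := j.isLt
    rw [hw, Nat.mod_eq_of_lt (show i.1 + 1 < q by omega),
      Nat.mod_eq_of_lt (show j.1 + 1 < q by omega)] at e3
    exact Prod.ext rfl (Fin.ext (show i.1 = j.1 by omega))

end CfsgLib.ClassK.M22Nse
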