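import Cfsg.Agent.Lib.ClassK.M22Nse.Cent

/-! A group with the order and the element counts of M22 is simple. -/

set_option autoImplicit false
set_option linter.unusedSectionVars false

namespace CfsgLib.ClassK.M22Nse

open Subgroup CfsgLib.StructB.OrderCount
open CfsgLib.ClassK.M12Nse (ncard_modEq_fixed)

universe u

variable {G : Type u} [Group G] [Finite G]

theorem n11 (h : Hyp G) : Nat.card (Sylow 11 G) = 8064 := by
  have : Fact (Nat.Prime 11) := ⟨by norm_num⟩
  obtain ⟨P⟩ : Nonempty (Sylow 11 G) := inferInstance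
  have := h.cnt_eleven
  rw [cnt, CfsgLib.Transfer.card_orderOf_eq_prime P (CfsgLib.Transfer.card_sylow_eq_prime P
    (by rw [h.card]; norm_num) (by rw [h.card]; norm_num))] at this
  omega

theorem exists_sylow (h : Hyp G) {x : G} (hx : orderOf x = 11) :
    ∃ P : Sylow 11 G, (P : Subgroup G) = zpowers x := by
  have : Fact (Nat.Prime 11) := ⟨by norm_num⟩
  obtain ⟨P, hP⟩ := (IsPGroup.of_card (G := zpowers x) (p := 11) (n := 1)
    (by rw [Nat.card_zpowers, hx, pow_one])).exists_le_sylow
  refine ⟨P, (eq_of_le_of_card_ge hP ?_).symm⟩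
  rw [CfsgLib.Transfer.card_sylow_eq_prime P (by rw [h.card]; norm_num) (by rw [h.card]; norm_num),
    Nat.card_zpowers, hx]

theorem simple (h : Hyp G) : IsSimpleGroup G := by
  classical
  have h11p : Fact (Nat.Prime 11) := ⟨by norm_num⟩
  have hnt : Nontrivial G := Finite.one_lt_card_iff_nontrivial.1 (by rw [h.card]; norm_num)
  obtain ⟨x, hx⟩ := exists_prime_orderOf_dvd_card' (G := G) 11 (by rw [h.card]; norm_num)
  set A := zpowers x
  have hA : Nat.card A = 11 := by rw [Nat.card_zpowers, hx]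
  have hsmall : ∀ N : Subgroup G, N.Normal → ¬ 11 ∣ Nat.card N → N = ⊥ := by
    intro N _ h11
    by_contra hN
    have hne : Nat.card N ≠ 1 := fun e => hN (card_eq_one.1 e)
    have : Fact (Nat.card N).minFac.Prime := ⟨Nat.minFac_prime hne⟩
    obtain ⟨P, hP⟩ := CfsgLib.Coprime.exists_invariant_sylow (A := A) (G := N)
      (by rw [normalizer_eq_top]; exact le_top)
      (by rw [hA]; exact (Nat.Prime.coprime_iff_not_dvd h11p.out).2 h11)
      (Or.inl (inferInstance : Group.IsSolvable A)) (Nat.card N).minFac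
    set R := (P : Subgroup N).map N.subtype
    have hR : Nat.card R = Nat.card (P : Subgroup N) := card_map_of_injective N.subtype_injective
    have hmod := ncard_modEq_fixed (p := 11)
      (IsPGroup.of_card (G := A) (p := 11) (n := 1) (by rw [hA, pow_one]))
      (R : Set G) (fun k hk t ht => (mem_normalizer_iff.1 (hP hk) t).1 ht)
    have hfix : {t | t ∈ (R : Set G) ∧ ∀ k ∈ A, k * t = t * k} = {1} := by
      ext t
      refine ⟨fun ht => ?_, fun ht => by rw [Set.mem_singleton_iff.1 ht]; exact ⟨R.one_mem, by simp⟩⟩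
      have hmem : t ∈ centralizer ({x} : Set G) :=
        mem_centralizer_singleton_iff.2 (ht.2 x (mem_zpowers x)).symm
      have h2 := Subgroup.orderOf_dvd_natCard _ hmem
      rw [cent_eleven h hx] at h2
      rcases (Nat.dvd_prime h11p.out).1 h2 with h3 | h3
      · exact orderOf_eq_one_iff.1 h3
      · have h4 := (Subgroup.orderOf_dvd_natCard _ ht.1).trans
          (hR ▸ (P : Subgroup N).card_subgroup_dvd_card)
        exact (h11 (h3 ▸ h4)).elim
    rw [hfix, Set.ncard_singleton, ← Nat.card_coe_set_eq] at hmod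
    change Nat.card R ≡ 1 [MOD 11] at hmod
    obtain ⟨k, hk⟩ := IsPGroup.iff_card.1 P.2
    have hd : Nat.card R ∣ 443520 :=
      (hR ▸ (P : Subgroup N).card_subgroup_dvd_card).trans (h.card ▸ N.card_subgroup_dvd_card)
    have hk0 : k ≠ 0 := by
      rintro rfl
      have := P.dvd_card_of_dvd_card (Nat.minFac_dvd _)
      rw [hk, pow_zero] at this
      exact (Fact.out : (Nat.card N).minFac.Prime).one_lt.ne' (Nat.dvd_one.1 this)
    rw [hR, hk] at hd hmod
    have hrd : (Nat.card N).minFac ∣ 443520 := (dvd_pow_self _ hk0).trans hd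
    have hall : ∀ r ∈ Nat.divisors 443520, r.Prime → r ≠ 11 →
        ∀ j < 19, j ≠ 0 → r ^ j ∣ 443520 → r ^ j % 11 ≠ 1 := by
      intro r hr hrp
      have hr4 : r = 2 ∨ r = 3 ∨ r = 5 ∨ r = 7 ∨ r = 11 := by
        have h1 : r ∣ 2 ^ 7 * 3 ^ 2 * 5 * 7 * 11 := by
          norm_num; exact (Nat.mem_divisors.1 hr).1
        have pr : ∀ {q : ℕ}, q.Prime → r ∣ q → r = q := fun hq hd' =>
          (Nat.prime_dvd_prime_iff_eq hrp hq).1 hd'
        rcases (Nat.Prime.dvd_mul hrp).1 h1 with h2 | h2
        · rcases (Nat.Prime.dvd_mul hrp).1 h2 with h3 | h3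
          · rcases (Nat.Prime.dvd_mul hrp).1 h3 with h4 | h4
            · rcases (Nat.Prime.dvd_mul hrp).1 h4 with h5 | h5
              · exact Or.inl (pr Nat.prime_two (hrp.dvd_of_dvd_pow h5))
              · exact Or.inr (Or.inl (pr Nat.prime_three (hrp.dvd_of_dvd_pow h5)))
            · exact Or.inr (Or.inr (Or.inl (pr (by norm_num) h4)))
          · exact Or.inr (Or.inr (Or.inr (Or.inl (pr (by norm_num) h3))))
        · exact Or.inr (Or.inr (Or.inr (Or.inr (pr (by norm_num) h2))))
      rcases hr4 with rfl | rfl | rfl | rfl | rfl <;> intro h11' <;>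
        first
          | exact absurd rfl h11'
          | decide +kernel
    have hlt : k < 19 := (Nat.pow_lt_pow_iff_right (Nat.one_lt_two)).1 (calc
      2 ^ k ≤ (Nat.card N).minFac ^ k := Nat.pow_le_pow_left (Nat.minFac_prime hne).two_le k
      _ ≤ 443520 := Nat.le_of_dvd (by norm_num) hd
      _ < 2 ^ 19 := by norm_num)
    exact hall _ (Nat.mem_divisors.2 ⟨hrd, by norm_num⟩) Fact.out
      (fun e => h11 (e ▸ Nat.minFac_dvd _)) k hlt hk0 hd hmod
  refine ⟨fun N hN => ?_⟩
  by_cases h11 : 11 ∣ Nat.card N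
  swap
  · exact Or.inl (hsmall N hN h11)
  have hP : ∀ P : Sylow 11 G, Nat.card (P : Subgroup G) = 11 := fun P =>
    CfsgLib.Transfer.card_sylow_eq_prime P (by rw [h.card]; norm_num) (by rw [h.card]; norm_num)
  have hmem : ∀ g : G, orderOf g = 11 → g ∈ N := by
    intro g hg
    obtain ⟨⟨y, hyN⟩, hy⟩ := exists_prime_orderOf_dvd_card' (G := N) 11 h11
    rw [Subgroup.orderOf_mk] at hy
    obtain ⟨P, hgP⟩ := exists_sylow h hg
    obtain ⟨Q, hyQ⟩ := exists_sylow h hy
    obtain ⟨c, rfl⟩ := MulAction.exists_smul_eq G Q P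
    have h1 : g ∈ ((c • Q : Sylow 11 G) : Subgroup G) := by rw [hgP]; exact mem_zpowers g
    obtain ⟨q, hq, rfl⟩ := h1
    exact hN.conj_mem q ((show (Q : Subgroup G) ≤ N from hyQ ▸ zpowers_le.2 hyN) hq) c
  have hcnt : Nat.card {g : N // orderOf g = 11} = Nat.card {g : G // orderOf g = 11} := by
    refine Nat.card_congr
      { toFun := fun g => ⟨(g.1 : G), by rw [Subgroup.orderOf_coe]; exact g.2⟩
        invFun := fun g => ⟨⟨g.1, hmem g.1 g.2⟩, by rw [Subgroup.orderOf_mk]; exact g.2⟩
        left_inv := fun g => rfl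
        right_inv := fun g => rfl }
  obtain ⟨P⟩ : Nonempty (Sylow 11 N) := inferInstance
  obtain ⟨P₀⟩ : Nonempty (Sylow 11 G) := inferInstance
  have hPN : Nat.card (P : Subgroup N) = 11 :=
    CfsgLib.Transfer.card_sylow_eq_prime P h11 fun h2 => by
      have := h2.trans N.card_subgroup_dvd_card
      rw [h.card] at this; norm_num at this
  rw [CfsgLib.Transfer.card_orderOf_eq_prime P hPN,
    CfsgLib.Transfer.card_orderOf_eq_prime P₀ (hP P₀), n11 h] at hcnt
  have hn' : Nat.card (Sylow 11 N) = 8064 := by omega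
  have hidx : 8064 * Nat.card (normalizer ((P : Subgroup N) : Set N)) = Nat.card N := by
    rw [← hn', P.card_eq_index_normalizer]
    exact Subgroup.index_mul_card _
  have hk : Nat.card (normalizer ((P : Subgroup N) : Set N)) ∣ 55 := by
    have h' := N.card_subgroup_dvd_card
    rw [h.card, ← hidx] at h'
    exact Nat.dvd_of_mul_dvd_mul_left (by norm_num : 0 < 8064) (h' : _ ∣ 8064 * 55)
  have hk' : 11 ∣ Nat.card (normalizer ((P : Subgroup N) : Set N)) := by
    have := Subgroup.card_dvd_of_le (le_normalizer (H := (P : Subgroup N)))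
    rwa [hPN] at this
  have hcases : ∀ m ∈ Nat.divisors 55, 11 ∣ m → m = 11 ∨ m = 55 := by decide +kernel
  rcases hcases _ (Nat.mem_divisors.2 ⟨hk, by norm_num⟩) hk' with he | he
  swap
  · exact Or.inr (eq_top_of_card_eq _ (by rw [← hidx, he, h.card]))
  exfalso
  have hcyc : IsCyclic (P : Subgroup N) := isCyclic_of_prime_card hPN
  have hle : normalizer ((P : Subgroup N) : Set N) ≤ centralizer ((P : Subgroup N) : Set N) := by
    rw [show normalizer ((P : Subgroup N) : Set N) = (P : Subgroup N) from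
      (eq_of_le_of_card_ge le_normalizer (by rw [hPN, he])).symm]
    exact fun a ha b hb =>
      congrArg Subtype.val (IsCyclic.commGroup.mul_comm (⟨b, hb⟩ : (P : Subgroup N)) ⟨a, ha⟩)
  have hcompl := MonoidHom.ker_transferSylow_isComplement' P hle
  set K := (MonoidHom.transferSylow P hle).ker
  have hK : Nat.card K = 8064 := by
    have h1 := hcompl.card_mul_card
    rw [hPN, ← hidx, he] at h1
    omega
  have hin : ∀ g : N, g ^ 8064 = 1 → g ∈ K := by
    intro g hg
    refine MonoidHom.mem_ker.2 ?_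
    have h1 : (MonoidHom.transferSylow P hle g) ^ 8064 = 1 := by rw [← map_pow, hg, map_one]
    have h2 : (MonoidHom.transferSylow P hle g) ^ Nat.card (P : Subgroup N) = 1 := pow_card_eq_one'
    rw [hPN] at h2
    simpa using pow_gcd_eq_one.2 ⟨h1, h2⟩
  have hKG : (K.map N.subtype).Normal := ⟨by
    rintro _ ⟨g, hg, rfl⟩ c
    refine ⟨⟨c * (g : G) * c⁻¹, hN.conj_mem g g.2 c⟩, hin _ (Subtype.ext ?_), rfl⟩
    have h1 : g ^ 8064 = 1 := by
      rw [← hK]
      exact congrArg Subtype.val (pow_card_eq_one' (x := (⟨g, hg⟩ : K)))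
    show (c * (g : G) * c⁻¹) ^ 8064 = 1
    rw [conj_pow, ← SubmonoidClass.coe_pow, h1]
    simp⟩
  have hKc : Nat.card (K.map N.subtype) = 8064 := by
    rw [card_map_of_injective N.subtype_injective, hK]
  have := hsmall _ hKG (by rw [hKc]; norm_num)
  rw [this, card_bot] at hKc
  omega

theorem nonabelian (h : Hyp G) : ¬ IsMulCommutative G := by
  have := simple h
  exact CfsgLib.Transfer.not_isMulCommutative_of_not_prime (by rw [h.card]; norm_num)

end CfsgLib.ClassK.M22Nse
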