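import Cfsg.Agent.Lib.ClassK.M22Nse.Words

/-! Counting elements of given order in a stabiliser chain by the images of two base points. -/

set_option autoImplicit false
set_option maxRecDepth 100000

namespace CfsgLib.ClassK.M22Nse

open Cfsg CfsgLib.Golay
open CfsgLib.ClassK.M12Nse (wval app wval_pt wval_append prods exists_prod wval_mem)
open scoped Pointwise

/-- The elements of a subgroup with given order and given further property. -/
def ordSet (X : List ℕ) (P : Equiv.Perm GolayPt → Prop) (n : ℕ) : Set (Equiv.Perm GolayPt) :=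
  {σ | σ ∈ fixMasks X ∧ P σ ∧ orderOf σ = n}

/-- A duplicate-free surjective list of words computes an order count. -/
theorem ncard_ordSet_list {X : List ℕ} (hX : fixMasks X ≤ fixMasks X22)
    {P : Equiv.Perm GolayPt → Prop} (W : List (List ℕ))
    (hW : ∀ w ∈ W, ∀ t ∈ w, valid t = true)
    (hsurj : ∀ σ, σ ∈ fixMasks X ∧ P σ → ∃ w ∈ W, wval w = σ)
    (hmem : ∀ w ∈ W, wval w ∈ fixMasks X ∧ P (wval w))
    (hlen : W.length ≤ Set.ncard {σ | σ ∈ fixMasks X ∧ P σ})
    (hord : ∀ w ∈ W, ordW w ≠ 0) (n : ℕ) :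
    (ordSet X P n).ncard = hist W n := by
  classical
  have hset : {σ | σ ∈ fixMasks X ∧ P σ} = ↑((W.map wval).toFinset) := by
    ext σ
    simp only [List.coe_toFinset, List.mem_map, Set.mem_setOf_eq]
    exact ⟨hsurj σ, by rintro ⟨w, hw, rfl⟩; exact hmem w hw⟩
  rw [hset, Set.ncard_coe_finset] at hlen
  have hnd : (W.map wval).Nodup := by
    rw [List.card_toFinset] at hlen
    exact List.dedup_eq_self.1
      ((List.dedup_sublist _).eq_of_length_le (by simpa using hlen))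
  have hsub : ordSet X P n = ↑((((W.filter fun w => Nat.beq (ordW w) n)).map wval).toFinset) := by
    ext σ
    simp only [List.coe_toFinset, List.mem_map, List.mem_filter, Set.mem_setOf_eq, ordSet]
    constructor
    · rintro ⟨h1, h2, h3⟩
      obtain ⟨w, hw, rfl⟩ := hsurj σ ⟨h1, h2⟩
      refine ⟨w, ⟨hw, ?_⟩, rfl⟩
      rw [← h3, orderOf_wval (hW w hw) (hX h1) (hord w hw)]
      exact Nat.beq_refl _
    · rintro ⟨w, ⟨hw, hn⟩, rfl⟩
      refine ⟨(hmem w hw).1, (hmem w hw).2, ?_⟩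
      rw [orderOf_wval (hW w hw) (hX (hmem w hw).1) (hord w hw)]
      exact Nat.eq_of_beq_eq_true hn
  rw [hsub, Set.ncard_coe_finset, List.toFinset_card_of_nodup, List.length_map, hist,
    List.countP_eq_length_filter]
  exact hnd.sublist (List.filter_sublist.map _)

/-- The count of a whole group of the chain. -/
theorem ncard_ordSet_prods {X : List ℕ} {L : List Level} {fin : List (ℕ × ℕ × ℕ)}
    (hc : chainOK X L fin = true) (hX : fixMasks X ≤ fixMasks X22)
    (hin : (prods L).all (fun w => w.all (inFix X) && !Nat.beq (ordW w) 0) = true)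
    (hlen : (prods L).length = chainCard L) (n : ℕ) :
    (ordSet X (fun _ => True) n).ncard = hist (prods L) n := by
  simp only [List.all_eq_true, Bool.and_eq_true, Bool.not_eq_true'] at hin
  refine ncard_ordSet_list hX _ (fun w hw t ht => inFix_valid ((hin w hw).1 t ht))
    (fun σ hσ => exists_prod hc σ hσ.1) (fun w hw => ⟨wval_mem (hin w hw).1, trivial⟩) ?_
    (fun w hw h0 => ?_) n
  · rw [hlen, ← card_fixMasks hc, ← Nat.card_coe_set_eq]
    exact le_of_eq (Nat.card_congr (Equiv.subtypeEquivRight fun σ => by simp))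
  · have := (hin w hw).2
    rw [h0] at this
    simp at this

/-- The count of a coset `e * fixMasks X'`, described by the images of two points. -/
theorem ncard_ordSet_coset {X : List ℕ} {b b' z : ℕ} (hb : b < 24) (hb' : b' < 24)
    {L : List Level} {fin : List (ℕ × ℕ × ℕ)}
    (hc : chainOK (Nat.shiftLeft 1 b' :: Nat.shiftLeft 1 b :: X) L fin = true)
    (hX : fixMasks X ≤ fixMasks X22) (e : List ℕ) (he : e.all (inFix X) = true)
    (he1 : app e b = b') (he2 : app e b' = z)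
    (hin : (prods L).all (fun w => w.all (inFix (Nat.shiftLeft 1 b' :: Nat.shiftLeft 1 b :: X))
      && !Nat.beq (ordW (e ++ w)) 0) = true)
    (hlen : (prods L).length = chainCard L) (n : ℕ) :
    (ordSet X (fun σ => σ (pt b) = pt b' ∧ σ (pt b') = pt z) n).ncard =
      hist ((prods L).map (e ++ ·)) n := by
  simp only [List.all_eq_true, Bool.and_eq_true, Bool.not_eq_true'] at hin he
  have hev : ∀ t ∈ e, valid t = true := fun t ht => inFix_valid (he t ht)
  have hem := wval_mem he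
  have e1 : wval e (pt b) = pt b' := by rw [wval_pt hev hb, he1]
  have e2 : wval e (pt b') = pt z := by rw [wval_pt hev hb', he2]
  refine ncard_ordSet_list hX _ ?_ ?_ ?_ ?_ ?_ n
  · intro w hw t ht
    obtain ⟨v, hv, rfl⟩ := List.mem_map.1 hw
    rcases List.mem_append.1 ht with ht | ht
    · exact hev t ht
    · exact inFix_valid ((hin v hv).1 t ht)
  · rintro σ ⟨hσ, h1, h2⟩
    obtain ⟨v, hv, hve⟩ := exists_prod hc ((wval e)⁻¹ * σ) ((mem_fixMasks_cons hb').2
      ⟨(mem_fixMasks_cons hb).2 ⟨Subgroup.mul_mem _ (Subgroup.inv_mem _ hem) hσ, by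
        rw [Equiv.Perm.mul_apply, h1, Equiv.Perm.inv_eq_iff_eq, e1]⟩, by
        rw [Equiv.Perm.mul_apply, h2, Equiv.Perm.inv_eq_iff_eq, e2]⟩)
    exact ⟨e ++ v, List.mem_map.2 ⟨v, hv, rfl⟩, by rw [wval_append, hve, mul_inv_cancel_left]⟩
  · intro w hw
    obtain ⟨v, hv, rfl⟩ := List.mem_map.1 hw
    obtain ⟨h1, h2⟩ := (mem_fixMasks_cons hb').1 (wval_mem (hin v hv).1)
    obtain ⟨h3, h4⟩ := (mem_fixMasks_cons hb).1 h1
    rw [wval_append]
    exact ⟨Subgroup.mul_mem _ hem h3, by rw [Equiv.Perm.mul_apply, h4, e1],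
      by rw [Equiv.Perm.mul_apply, h2, e2]⟩
  · rw [List.length_map, hlen, ← card_fixMasks hc, ← Nat.card_coe_set_eq]
    refine Nat.card_le_card_of_injective
      (fun s => ⟨wval e * s.1, ?_⟩) fun s s' h => ?_
    · obtain ⟨h1, h2⟩ := (mem_fixMasks_cons hb').1 s.2
      obtain ⟨h3, h4⟩ := (mem_fixMasks_cons hb).1 h1
      exact ⟨Subgroup.mul_mem _ hem h3, by rw [Equiv.Perm.mul_apply, h4, e1],
        by rw [Equiv.Perm.mul_apply, h2, e2]⟩
    · exact Subtype.ext (mul_left_cancel (congrArg Subtype.val h))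
  · intro w hw h0
    obtain ⟨v, hv, rfl⟩ := List.mem_map.1 hw
    have := (hin v hv).2
    rw [h0] at this
    simp at this

/-- Fibres over two points that some element fixing `b` (and `c`) carries to each other. -/
theorem ncard_fibre {X : List ℕ} {P : Equiv.Perm GolayPt → Prop} {x : GolayPt}
    {K : Subgroup (Equiv.Perm GolayPt)} (hK : K ≤ fixMasks X)
    (hx : ∀ k ∈ K, k x = x) (hP : ∀ k ∈ K, ∀ σ, P σ → P (k * σ * k⁻¹)) {y y' : GolayPt}
    (hk : ∃ k ∈ K, k y = y') (n : ℕ) :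
    (ordSet X (fun σ => P σ ∧ σ x = y') n).ncard = (ordSet X (fun σ => P σ ∧ σ x = y) n).ncard := by
  obtain ⟨k, hk, rfl⟩ := hk
  have key : ∀ k ∈ K, ∀ u : GolayPt,
      (MulAut.conj k) '' ordSet X (fun σ => P σ ∧ σ x = u) n ⊆
        ordSet X (fun σ => P σ ∧ σ x = k u) n := by
    rintro k hk u _ ⟨σ, ⟨h1, ⟨h2, h3⟩, h4⟩, rfl⟩
    refine ⟨?_, ⟨?_, ?_⟩, ?_⟩
    · rw [MulAut.conj_apply]
      exact Subgroup.mul_mem _ (Subgroup.mul_mem _ (hK hk) h1) (Subgroup.inv_mem _ (hK hk))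
    · rw [MulAut.conj_apply]; exact hP k hk σ h2
    · rw [MulAut.conj_apply, Equiv.Perm.mul_apply, Equiv.Perm.mul_apply]
      have : k⁻¹ x = x := by rw [Equiv.Perm.inv_eq_iff_eq]; exact (hx k hk).symm
      rw [this, h3]
    · rw [MulEquiv.orderOf_eq]; exact h4
  refine le_antisymm ?_ ?_
  · have h := Set.ncard_le_ncard (key k⁻¹ (K.inv_mem hk) (k y)) (Set.toFinite _)
    rw [Set.ncard_image_of_injective _ (MulAut.conj k⁻¹).injective] at h
    simpa using h
  · have h := Set.ncard_le_ncard (key k hk y) (Set.toFinite _)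
    rwa [Set.ncard_image_of_injective _ (MulAut.conj k).injective] at h

/-- Splitting by the image of a point into a finite set of equally large fibres. -/
theorem ncard_fibres {X : List ℕ} {P : Equiv.Perm GolayPt → Prop} {x : GolayPt}
    (Y : Finset GolayPt) (c n : ℕ)
    (hc : ∀ y ∈ Y, (ordSet X (fun σ => P σ ∧ σ x = y) n).ncard = c) :
    (ordSet X (fun σ => P σ ∧ σ x ∈ Y) n).ncard = Y.card * c := by
  classical
  have hfin : ∀ P' : Equiv.Perm GolayPt → Prop, (ordSet X P' n).Finite := fun _ => Set.toFinite _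
  rw [Set.ncard_eq_toFinset_card _ (hfin _)]
  rw [Finset.card_eq_sum_card_fiberwise (f := fun σ => σ x) (t := Y) (fun σ hσ => by
    simp only [Set.Finite.coe_toFinset] at hσ; exact hσ.2.1.2)]
  rw [Finset.sum_congr rfl (g := fun _ => c), Finset.sum_const, smul_eq_mul]
  intro y hy
  rw [← hc y hy, Set.ncard_eq_toFinset_card _ (hfin _)]
  congr 1
  ext σ
  simp only [Finset.mem_filter, Set.Finite.mem_toFinset, ordSet, Set.mem_setOf_eq]
  constructor
  · rintro ⟨⟨h1, ⟨h2, -⟩, h3⟩, h4⟩; exact ⟨h1, ⟨h2, h4⟩, h3⟩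
  · rintro ⟨h1, ⟨h2, h4⟩, h3⟩; exact ⟨⟨h1, ⟨h2, by rw [h4]; exact hy⟩, h3⟩, h4⟩

/-- One step of the chain. -/
theorem ncard_step {X : List ℕ} {lv lv' lv'' : Level}
    (h : levelOK X lv = true) (h' : levelOK (Nat.shiftLeft 1 lv.1 :: X) lv' = true)
    (h'' : levelOK (Nat.shiftLeft 1 lv'.1 :: Nat.shiftLeft 1 lv.1 :: X) lv'' = true)
    (hO : orbMask lv.1 lv.2.1 = Nat.lor (Nat.shiftLeft 1 lv.1) (orbMask lv'.1 lv'.2.1))
    (hO' : orbMask lv'.1 lv'.2.1 = Nat.lor (Nat.shiftLeft 1 lv'.1) (orbMask lv''.1 lv''.2.1))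
    (hne : lv.1 ≠ lv'.1) (hbO : (orbMask lv'.1 lv'.2.1).testBit lv.1 = false)
    (hbO' : (orbMask lv''.1 lv''.2.1).testBit lv.1 = false) (n : ℕ) :
    (ordSet X (fun _ => True) n).ncard =
      (ordSet (Nat.shiftLeft 1 lv.1 :: X) (fun _ => True) n).ncard +
      pop (orbMask lv'.1 lv'.2.1) *
        ((ordSet X (fun σ => σ (pt lv.1) = pt lv'.1 ∧ σ (pt lv'.1) = pt lv.1) n).ncard +
          pop (orbMask lv''.1 lv''.2.1) *
          (ordSet X (fun σ => σ (pt lv.1) = pt lv'.1 ∧ σ (pt lv'.1) = pt lv''.1) n).ncard) := by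
  classical
  obtain ⟨hb, -, -, horb⟩ := levelOK_unpack h
  obtain ⟨hb', -, -, horb'⟩ := levelOK_unpack h'
  obtain ⟨hb'', -, -, horb''⟩ := levelOK_unpack h''
  set b := lv.1
  set b' := lv'.1
  set O' := mset (orbMask b' lv'.2.1)
  set O'' := mset (orbMask lv''.1 lv''.2.1)
  have hsingle : ∀ {i : ℕ}, i < 24 → mset (Nat.shiftLeft 1 i) = {pt i} := by
    intro i hi
    show mset (1 <<< i) = _
    rw [Nat.one_shiftLeft, mset_two_pow hi]
  have hOm : ∀ q, q ∈ mset (orbMask b lv.2.1) ↔ q = pt b ∨ q ∈ O' := by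
    intro q
    rw [hO, show Nat.lor (Nat.shiftLeft 1 b) (orbMask b' lv'.2.1) =
      Nat.shiftLeft 1 b ||| orbMask b' lv'.2.1 from rfl, mset_or, hsingle hb,
      Finset.mem_union, Finset.mem_singleton]
  have hOm' : ∀ q, q ∈ O' ↔ q = pt b' ∨ q ∈ O'' := by
    intro q
    show q ∈ mset (orbMask b' lv'.2.1) ↔ _
    rw [hO', show Nat.lor (Nat.shiftLeft 1 b') (orbMask lv''.1 lv''.2.1) =
      Nat.shiftLeft 1 b' ||| orbMask lv''.1 lv''.2.1 from rfl, mset_or, hsingle hb',
      Finset.mem_union, Finset.mem_singleton]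
  have hbO1 : pt b ∉ O' := by
    rw [mem_mset, idx_pt hb, hbO]; simp
  have hbO2 : pt b ∉ O'' := by
    rw [mem_mset, idx_pt hb, hbO']; simp
  have hne' : pt b' ≠ pt b := fun e => hne (by
    have := congrArg idx e; rw [idx_pt hb, idx_pt hb'] at this; exact this.symm)
  -- the image of the first point
  have e0 : ordSet X (fun _ => True) n = ordSet (Nat.shiftLeft 1 b :: X) (fun _ => True) n ∪
      ordSet X (fun σ => True ∧ σ (pt b) ∈ O') n := by
    ext σ
    simp only [ordSet, Set.mem_union, Set.mem_setOf_eq, mem_fixMasks_cons hb, true_and]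
    constructor
    · rintro ⟨h1, h2⟩
      rcases (hOm _).1 ((horb _).1 ⟨σ, h1, rfl⟩) with h3 | h3
      · exact Or.inl ⟨⟨h1, h3⟩, h2⟩
      · exact Or.inr ⟨h1, h3, h2⟩
    · rintro (⟨⟨h1, -⟩, h2⟩ | ⟨h1, -, h2⟩) <;> exact ⟨h1, h2⟩
  have d0 : Disjoint (ordSet (Nat.shiftLeft 1 b :: X) (fun _ => True) n)
      (ordSet X (fun σ => True ∧ σ (pt b) ∈ O') n) := by
    rw [Set.disjoint_left]
    rintro σ ⟨h1, -, -⟩ ⟨-, ⟨-, h2⟩, -⟩
    rw [((mem_fixMasks_cons hb).1 h1).2] at h2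
    exact hbO1 h2
  rw [e0, Set.ncard_union_eq d0 (Set.toFinite _) (Set.toFinite _)]
  congr 1
  rw [ncard_fibres O' ((ordSet X (fun σ => True ∧ σ (pt b) = pt b') n).ncard) n (fun y hy =>
    ncard_fibre (K := fixMasks (Nat.shiftLeft 1 b :: X))
      (fun k hk => ((mem_fixMasks_cons hb).1 hk).1) (fun k hk => ((mem_fixMasks_cons hb).1 hk).2)
      (fun _ _ _ _ => trivial) ((horb' y).2 hy) n), card_mset]
  congr 1
  -- the image of the second point
  have e1 : ordSet X (fun σ => True ∧ σ (pt b) = pt b') n =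
      ordSet X (fun σ => σ (pt b) = pt b' ∧ σ (pt b') = pt b) n ∪
      ordSet X (fun σ => σ (pt b) = pt b' ∧ σ (pt b') ∈ O'') n := by
    ext σ
    simp only [ordSet, Set.mem_union, Set.mem_setOf_eq, true_and]
    constructor
    · rintro ⟨h1, h2, h3⟩
      obtain ⟨τ, hτ, hτe⟩ := (horb (pt b')).2 ((hOm _).2 (Or.inr ((hOm' _).2 (Or.inl rfl))))
      have h4 := (horb (σ (pt b'))).1 ⟨σ * τ, Subgroup.mul_mem _ h1 hτ,
        by rw [Equiv.Perm.mul_apply, hτe]⟩
      rcases (hOm _).1 h4 with h5 | h5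
      · exact Or.inl ⟨h1, ⟨h2, h5⟩, h3⟩
      rcases (hOm' _).1 h5 with h6 | h6
      · exact absurd (σ.injective (h6.trans h2.symm)) hne'
      · exact Or.inr ⟨h1, ⟨h2, h6⟩, h3⟩
    · rintro (⟨h1, ⟨h2, -⟩, h3⟩ | ⟨h1, ⟨h2, -⟩, h3⟩) <;> exact ⟨h1, h2, h3⟩
  have d1 : Disjoint (ordSet X (fun σ => σ (pt b) = pt b' ∧ σ (pt b') = pt b) n)
      (ordSet X (fun σ => σ (pt b) = pt b' ∧ σ (pt b') ∈ O'') n) := by
    rw [Set.disjoint_left]
    rintro σ ⟨-, ⟨-, h1⟩, -⟩ ⟨-, ⟨-, h2⟩, -⟩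
    rw [h1] at h2
    exact hbO2 h2
  rw [e1, Set.ncard_union_eq d1 (Set.toFinite _) (Set.toFinite _)]
  congr 1
  rw [ncard_fibres O'' _ n (fun y hy =>
    ncard_fibre (K := fixMasks (Nat.shiftLeft 1 b' :: Nat.shiftLeft 1 b :: X))
      (fun k hk => ((mem_fixMasks_cons hb).1 ((mem_fixMasks_cons hb').1 hk).1).1)
      (fun k hk => ((mem_fixMasks_cons hb').1 hk).2)
      (fun k hk σ hσ => by
        have hkb := ((mem_fixMasks_cons hb).1 ((mem_fixMasks_cons hb').1 hk).1).2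
        have hkb' := ((mem_fixMasks_cons hb').1 hk).2
        have : k⁻¹ (pt b) = pt b := by rw [Equiv.Perm.inv_eq_iff_eq]; exact hkb.symm
        rw [Equiv.Perm.mul_apply, Equiv.Perm.mul_apply, this, hσ, hkb'])
      ((horb'' y).2 hy) n), card_mset]

end CfsgLib.ClassK.M22Nse
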