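import Cfsg.Agent.Lib.ClassK.M22Nse.Split

/-! A step of the chain where the second point stabiliser has two further orbits. -/

set_option autoImplicit false
set_option maxRecDepth 100000

namespace CfsgLib.ClassK.M22Nse

open Cfsg CfsgLib.Golay
open scoped Pointwise

/-- One step of the chain with two kinds of images of the second point. -/
theorem ncard_step2 {X : List ℕ} {lv lv' lv'' : Level} {c : ℕ} {T : List ℕ}
    (h : levelOK X lv = true) (h' : levelOK (Nat.shiftLeft 1 lv.1 :: X) lv' = true)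
    (h'' : levelOK (Nat.shiftLeft 1 lv'.1 :: Nat.shiftLeft 1 lv.1 :: X) lv'' = true)
    (hT : T.all (inFix (Nat.shiftLeft 1 lv'.1 :: Nat.shiftLeft 1 lv.1 :: X)) = true) (hc : c < 24)
    (hO : orbMask lv.1 lv.2.1 = Nat.lor (Nat.shiftLeft 1 lv.1) (orbMask lv'.1 lv'.2.1))
    (hO' : orbMask lv'.1 lv'.2.1 = Nat.lor (Nat.shiftLeft 1 lv'.1)
      (Nat.lor (orbMask c T) (orbMask lv''.1 lv''.2.1)))
    (hne : lv.1 ≠ lv'.1) (hbO : (orbMask lv'.1 lv'.2.1).testBit lv.1 = false)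
    (hbO' : (orbMask lv''.1 lv''.2.1).testBit lv.1 = false)
    (hbT : (orbMask c T).testBit lv.1 = false)
    (hTO : Nat.land (orbMask c T) (orbMask lv''.1 lv''.2.1) = 0) (n : ℕ) :
    (ordSet X (fun _ => True) n).ncard =
      (ordSet (Nat.shiftLeft 1 lv.1 :: X) (fun _ => True) n).ncard +
      pop (orbMask lv'.1 lv'.2.1) *
        ((ordSet X (fun σ => σ (pt lv.1) = pt lv'.1 ∧ σ (pt lv'.1) = pt lv.1) n).ncard +
          pop (orbMask c T) *
          (ordSet X (fun σ => σ (pt lv.1) = pt lv'.1 ∧ σ (pt lv'.1) = pt c) n).ncard +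
          pop (orbMask lv''.1 lv''.2.1) *
          (ordSet X (fun σ => σ (pt lv.1) = pt lv'.1 ∧ σ (pt lv'.1) = pt lv''.1) n).ncard) := by
  classical
  obtain ⟨hb, -, -, horb⟩ := levelOK_unpack h
  obtain ⟨hb', -, -, horb'⟩ := levelOK_unpack h'
  obtain ⟨hb'', -, -, horb''⟩ := levelOK_unpack h''
  set b := lv.1
  set b' := lv'.1
  set O' := mset (orbMask b' lv'.2.1)
  set O'' := mset (orbMask lv''.1 lv''.2.1)
  set O3 := mset (orbMask c T)
  have hsingle : ∀ {i : ℕ}, i < 24 → mset (Nat.shiftLeft 1 i) = {pt i} := by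
    intro i hi
    show mset (1 <<< i) = _
    rw [Nat.one_shiftLeft, mset_two_pow hi]
  have hOm : ∀ q, q ∈ mset (orbMask b lv.2.1) ↔ q = pt b ∨ q ∈ O' := by
    intro q
    rw [hO, show Nat.lor (Nat.shiftLeft 1 b) (orbMask b' lv'.2.1) =
      Nat.shiftLeft 1 b ||| orbMask b' lv'.2.1 from rfl, mset_or, hsingle hb,
      Finset.mem_union, Finset.mem_singleton]
  have hOm' : ∀ q, q ∈ O' ↔ q = pt b' ∨ q ∈ O3 ∨ q ∈ O'' := by
    intro q
    show q ∈ mset (orbMask b' lv'.2.1) ↔ _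
    rw [hO', show Nat.lor (Nat.shiftLeft 1 b') (Nat.lor (orbMask c T) (orbMask lv''.1 lv''.2.1)) =
      Nat.shiftLeft 1 b' ||| (orbMask c T ||| orbMask lv''.1 lv''.2.1) from rfl, mset_or, mset_or,
      hsingle hb', Finset.mem_union, Finset.mem_singleton, Finset.mem_union]
  have hbO1 : pt b ∉ O' := by
    rw [mem_mset, idx_pt hb, hbO]; simp
  have hbO2 : pt b ∉ O'' := by
    rw [mem_mset, idx_pt hb, hbO']; simp
  have hbO3 : pt b ∉ O3 := by
    rw [mem_mset, idx_pt hb, hbT]; simp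
  have hdisj : ∀ q, q ∈ O3 → q ∉ O'' := by
    intro q h3 h2
    rw [mem_mset] at h3 h2
    have : (Nat.land (orbMask c T) (orbMask lv''.1 lv''.2.1)).testBit (idx q) = true := by
      show (orbMask c T &&& orbMask lv''.1 lv''.2.1).testBit (idx q) = true
      rw [Nat.testBit_land, h3, h2]; rfl
    rw [hTO, Nat.zero_testBit] at this
    exact absurd this (by simp)
  have horb3 : ∀ y ∈ O3, ∃ k ∈ fixMasks (Nat.shiftLeft 1 b' :: Nat.shiftLeft 1 b :: X),
      k (pt c) = y := by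
    intro y hy
    rw [mem_mset] at hy
    obtain ⟨g, hg, hgy⟩ := testBit_orbMask.1 hy
    simp only [List.all_eq_true] at hT
    exact ⟨permOf g, inFix_mem (hT g hg), by
      rw [permOf_pt (inFix_valid (hT g hg)) hc, hgy, pt_idx]⟩
  have hne' : pt b' ≠ pt b := fun e => hne (by
    have := congrArg idx e; rw [idx_pt hb, idx_pt hb'] at this; exact this.symm)
  have e0 : ordSet X (fun _ => True) n = ordSet (Nat.shiftLeft 1 b :: X) (fun _ => True) n ∪
      ordSet X (fun σ => True ∧ σ (pt b) ∈ O') n := by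
    ext σ
    simp only [ordSet, Set.mem_union, Set.mem_setOf_eq, mem_fixMasks_cons hb, true_and]
    constructor
    · rintro ⟨h1, h2⟩
      rcases (hOm _).1 ((horb _).1 ⟨σ, h1, rfl⟩) with h3 | h3
      · exact Or.inl ⟨⟨h1, h3⟩, h2⟩
      · exact Or.inr ⟨h1, h3, h2⟩
    · rintro (⟨⟨h1, -⟩, h2⟩ | ⟨h1, -, h2⟩) <;> exact ⟨h1, h2⟩
  have d0 : Disjoint (ordSet (Nat.shiftLeft 1 b :: X) (fun _ => True) n)
      (ordSet X (fun σ => True ∧ σ (pt b) ∈ O') n) := by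
    rw [Set.disjoint_left]
    rintro σ ⟨h1, -, -⟩ ⟨-, ⟨-, h2⟩, -⟩
    rw [((mem_fixMasks_cons hb).1 h1).2] at h2
    exact hbO1 h2
  rw [e0, Set.ncard_union_eq d0 (Set.toFinite _) (Set.toFinite _)]
  congr 1
  rw [ncard_fibres O' ((ordSet X (fun σ => True ∧ σ (pt b) = pt b') n).ncard) n (fun y hy =>
    ncard_fibre (K := fixMasks (Nat.shiftLeft 1 b :: X))
      (fun k hk => ((mem_fixMasks_cons hb).1 hk).1) (fun k hk => ((mem_fixMasks_cons hb).1 hk).2)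
      (fun _ _ _ _ => trivial) ((horb' y).2 hy) n), card_mset]
  congr 1
  have e1 : ordSet X (fun σ => True ∧ σ (pt b) = pt b') n =
      ordSet X (fun σ => σ (pt b) = pt b' ∧ σ (pt b') = pt b) n ∪
      ordSet X (fun σ => σ (pt b) = pt b' ∧ σ (pt b') ∈ O3) n ∪
      ordSet X (fun σ => σ (pt b) = pt b' ∧ σ (pt b') ∈ O'') n := by
    ext σ
    simp only [ordSet, Set.mem_union, Set.mem_setOf_eq, true_and]
    constructor
    · rintro ⟨h1, h2, h3⟩
      obtain ⟨τ, hτ, hτe⟩ := (horb (pt b')).2 ((hOm _).2 (Or.inr ((hOm' _).2 (Or.inl rfl))))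
      have h4 := (horb (σ (pt b'))).1 ⟨σ * τ, Subgroup.mul_mem _ h1 hτ,
        by rw [Equiv.Perm.mul_apply, hτe]⟩
      rcases (hOm _).1 h4 with h5 | h5
      · exact Or.inl (Or.inl ⟨h1, ⟨h2, h5⟩, h3⟩)
      rcases (hOm' _).1 h5 with h6 | h6 | h6
      · exact absurd (σ.injective (h6.trans h2.symm)) hne'
      · exact Or.inl (Or.inr ⟨h1, ⟨h2, h6⟩, h3⟩)
      · exact Or.inr ⟨h1, ⟨h2, h6⟩, h3⟩
    · rintro ((⟨h1, ⟨h2, -⟩, h3⟩ | ⟨h1, ⟨h2, -⟩, h3⟩) | ⟨h1, ⟨h2, -⟩, h3⟩) <;>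
        exact ⟨h1, h2, h3⟩
  have d1 : Disjoint (ordSet X (fun σ => σ (pt b) = pt b' ∧ σ (pt b') = pt b) n)
      (ordSet X (fun σ => σ (pt b) = pt b' ∧ σ (pt b') ∈ O3) n) := by
    rw [Set.disjoint_left]
    rintro σ ⟨-, ⟨-, h1⟩, -⟩ ⟨-, ⟨-, h2⟩, -⟩
    rw [h1] at h2
    exact hbO3 h2
  have d2 : Disjoint (ordSet X (fun σ => σ (pt b) = pt b' ∧ σ (pt b') = pt b) n ∪
      ordSet X (fun σ => σ (pt b) = pt b' ∧ σ (pt b') ∈ O3) n)
      (ordSet X (fun σ => σ (pt b) = pt b' ∧ σ (pt b') ∈ O'') n) := by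
    rw [Set.disjoint_left]
    rintro σ (⟨-, ⟨-, h1⟩, -⟩ | ⟨-, ⟨-, h1⟩, -⟩) ⟨-, ⟨-, h2⟩, -⟩
    · rw [h1] at h2; exact hbO2 h2
    · exact hdisj _ h1 h2
  rw [e1, Set.ncard_union_eq d2 (Set.toFinite _) (Set.toFinite _),
    Set.ncard_union_eq d1 (Set.toFinite _) (Set.toFinite _)]
  have hPinv : ∀ k ∈ fixMasks (Nat.shiftLeft 1 b' :: Nat.shiftLeft 1 b :: X),
      ∀ σ : Equiv.Perm GolayPt, σ (pt b) = pt b' → (k * σ * k⁻¹) (pt b) = pt b' := by
    intro k hk σ hσ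
    have hkb := ((mem_fixMasks_cons hb).1 ((mem_fixMasks_cons hb').1 hk).1).2
    have hkb' := ((mem_fixMasks_cons hb').1 hk).2
    have : k⁻¹ (pt b) = pt b := by rw [Equiv.Perm.inv_eq_iff_eq]; exact hkb.symm
    rw [Equiv.Perm.mul_apply, Equiv.Perm.mul_apply, this, hσ, hkb']
  have hK : fixMasks (Nat.shiftLeft 1 b' :: Nat.shiftLeft 1 b :: X) ≤ fixMasks X :=
    fun k hk => ((mem_fixMasks_cons hb).1 ((mem_fixMasks_cons hb').1 hk).1).1
  congr 1
  · congr 1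
    rw [ncard_fibres O3 _ n (fun y hy => ncard_fibre hK
      (fun k hk => ((mem_fixMasks_cons hb').1 hk).2) hPinv (horb3 y hy) n), card_mset]
  · rw [ncard_fibres O'' _ n (fun y hy => ncard_fibre hK
      (fun k hk => ((mem_fixMasks_cons hb').1 hk).2) hPinv ((horb'' y).2 hy) n), card_mset]

end CfsgLib.ClassK.M22Nse
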