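import Cfsg.Agent.Lib.ClassK.M22Nse.Three

/-!
The Sylow 3-subgroups: self-centralising, normaliser of order 72; one class of involutions.
-/

set_option autoImplicit false
set_option linter.unusedSectionVars false

namespace CfsgLib.ClassK.M22Nse

open Subgroup CfsgLib.StructB.OrderCount
open CfsgLib.ClassK.M12Nse (cl mem_cl mem_cl_self conj_mem_cl ncard_cl_mul orderOf_mem_cl fixIn mem_fixIn
  cl_pairs ncard_modEq_fixed)

universe u

variable {G : Type u} [Group G] [Finite G]

theorem card_sylow_three (h : Hyp G) (P : Sylow 3 G) : Nat.card (P : Subgroup G) = 3 ^ 2 := by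
  have : Fact (Nat.Prime 3) := ⟨Nat.prime_three⟩
  rw [P.card_eq_multiplicity, h.card]
  have : Nat.factorization 443520 3 = 2 := by
    rw [show 443520 = 3 ^ 2 * 49280 by norm_num, Nat.factorization_mul (by norm_num) (by norm_num),
      Nat.Prime.factorization_pow Nat.prime_three, Finsupp.add_apply, Finsupp.single_eq_same,
      Nat.factorization_eq_zero_of_not_dvd (by norm_num)]
  rw [this]

theorem sylow_comm (h : Hyp G) (P : Sylow 3 G) {a b : G} (ha : a ∈ (P : Subgroup G))
    (hb : b ∈ (P : Subgroup G)) : a * b = b * a :=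
  have : Fact (Nat.Prime 3) := ⟨Nat.prime_three⟩
  congrArg Subtype.val (IsPGroup.commutative_of_card_eq_prime_sq (card_sylow_three h P) ⟨a, ha⟩ ⟨b, hb⟩)

theorem orderOf_sylow_three (h : Hyp G) (P : Sylow 3 G) {a : G} (ha : a ∈ (P : Subgroup G))
    (h1 : a ≠ 1) : orderOf a = 3 := by
  have hd := Subgroup.orderOf_dvd_natCard _ ha
  rw [card_sylow_three h P] at hd
  obtain ⟨j, hj, e⟩ := (Nat.dvd_prime_pow Nat.prime_three).1 hd
  interval_cases j
  · exact absurd (orderOf_eq_one_iff.1 (by simpa using e)) h1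
  · simpa using e
  · exact absurd e (h.no_order (by decide))

theorem invol_of_invC {x t : G} (ht : t ∈ invC x) : orderOf t = 2 := ht.1

/-- Conjugation by an element commuting with `x` keeps the involutions of `C(x)`. -/
theorem conj_mem_invC {x g t : G} (hg : g * x = x * g) (ht : t ∈ invC x) : g * t * g⁻¹ ∈ invC x := by
  refine ⟨by rw [CfsgLib.Invol.orderOf_conj_eq]; exact ht.1, ?_⟩
  have hg' : g⁻¹ * x = x * g⁻¹ := (Commute.inv_left hg).eq
  calc x * (g * t * g⁻¹) = (x * g) * t * g⁻¹ := by group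
    _ = g * (x * t) * g⁻¹ := by rw [← hg]; group
    _ = g * t * (x * g⁻¹) := by rw [ht.2]; group
    _ = g * t * g⁻¹ * x := by rw [← hg']; group

/-- An element of order dividing three fixing one involution of `C(x)` fixes all three. -/
theorem fix_invC (h : Hyp G) {x b t : G} (hx : orderOf x = 3) (hb : b * x = x * b) (hb3 : b ^ 3 = 1)
    (ht : t ∈ invC x) (hbt : b * t = t * b) : ∀ s ∈ invC x, b * s = s * b := by
  classical
  intro s hs
  by_contra hne
  have hst : s ≠ t := fun e => hne (e ▸ hbt)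
  have hb2 : b * b * x = x * (b * b) := (Commute.mul_left hb hb).eq
  have s1 := conj_mem_invC hb hs
  have s2 := conj_mem_invC hb2 hs
  have e3 : (invC x).ncard = 3 := ncard_invC h hx
  have n1 : b * s * b⁻¹ ≠ s := fun e => hne (mul_inv_eq_iff_eq_mul.1 e)
  have n2 : b * b * s * (b * b)⁻¹ ≠ b * s * b⁻¹ := fun e => n1 (by
    have e' : b * (b * s * b⁻¹) * b⁻¹ = b * s * b⁻¹ := by
      calc b * (b * s * b⁻¹) * b⁻¹ = b * b * s * (b * b)⁻¹ := by group
        _ = b * s * b⁻¹ := e
    exact mul_left_cancel (mul_right_cancel e'))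
  have n3 : b * b * s * (b * b)⁻¹ ≠ s := fun e => n1 (by
    have hb4 : b * b * b = 1 := by rw [← hb3, pow_succ, pow_two]
    calc b * s * b⁻¹ = b * (b * b * s * (b * b)⁻¹) * b⁻¹ := by rw [e]
      _ = (b * b * b) * s * (b * b * b)⁻¹ := by group
      _ = s := by rw [hb4]; group)
  have nt : ∀ g : G, g * t = t * g → g * s * g⁻¹ ≠ t := fun g hg e => hst (by
    have e' : g * t * g⁻¹ = t := mul_inv_eq_iff_eq_mul.2 hg
    exact mul_left_cancel (mul_right_cancel (e.trans e'.symm)))
  have hsub : ({t, s, b * s * b⁻¹, b * b * s * (b * b)⁻¹} : Set G) ⊆ invC x := by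
    intro z hz
    simp only [Set.mem_insert_iff, Set.mem_singleton_iff] at hz
    rcases hz with rfl | rfl | rfl | rfl <;> assumption
  have hle := Set.ncard_le_ncard hsub (Set.toFinite _)
  rw [e3, Set.ncard_insert_of_notMem (by
      simp only [Set.mem_insert_iff, Set.mem_singleton_iff, not_or]
      exact ⟨hst.symm, (nt b hbt).symm, (nt _ (Commute.mul_left hbt hbt).eq).symm⟩) (Set.toFinite _),
    Set.ncard_insert_of_notMem (by
      simp only [Set.mem_insert_iff, Set.mem_singleton_iff, not_or]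
      exact ⟨n1.symm, n3.symm⟩) (Set.toFinite _),
    Set.ncard_pair n2.symm] at hle
  omega

/-- The centraliser of a nontrivial member of a Sylow 3-subgroup. -/
theorem exists_mul_of_cent (h : Hyp G) (P : Sylow 3 G) {x g : G} (hx : x ∈ (P : Subgroup G))
    (hx1 : x ≠ 1) (hg : g * x = x * g) :
    ∃ a ∈ (P : Subgroup G), ∃ v : G, (v = 1 ∨ v ∈ invC x) ∧ g = v * a := by
  classical
  have hxo := orderOf_sylow_three h P hx hx1
  set S : Set G := insert 1 (invC x) with hS
  have hSc : S.ncard = 4 := by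
    rw [hS, Set.ncard_insert_of_notMem (fun e => by
      have := e.1
      rw [orderOf_one] at this; norm_num at this) (Set.toFinite _), ncard_invC h hxo]
  have hmem : ∀ v ∈ S, v * x = x * v := by
    rintro v (rfl | hv)
    · simp
    · exact hv.2.symm
  have hinj : Set.InjOn (fun p : G × G => p.1 * p.2) (S ×ˢ ((P : Subgroup G) : Set G)) := by
    rintro ⟨v, a⟩ ⟨hv, ha⟩ ⟨w, b⟩ ⟨hw, hb⟩ e
    simp only at hv ha hw hb e
    have key : w⁻¹ * v = b * a⁻¹ := by
      calc w⁻¹ * v = w⁻¹ * (v * a) * a⁻¹ := by group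
        _ = w⁻¹ * (w * b) * a⁻¹ := by rw [e]
        _ = b * a⁻¹ := by group
    have hwv : w⁻¹ * v ∈ S := by
      rcases hw with rfl | hw
      · simpa using hv
      rcases hv with rfl | hv
      · rw [mul_one, CfsgLib.Invol.invol_inv hw.1]; exact Or.inr hw
      rw [CfsgLib.Invol.invol_inv hw.1]
      by_cases e' : w = v
      · rw [e', CfsgLib.Invol.invol_mul_self hv.1]; exact Or.inl rfl
      · exact Or.inr (invC_mul h hxo hw hv e').1
    have hP : w⁻¹ * v ∈ (P : Subgroup G) := key ▸ (P : Subgroup G).mul_mem hb ((P : Subgroup G).inv_mem ha)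
    rcases hwv with h1 | h1
    · have hwv' : v = w := by
        calc v = w * (w⁻¹ * v) := by group
          _ = w := by rw [h1, mul_one]
      subst hwv'
      exact Prod.ext rfl (mul_left_cancel e)
    · exfalso
      have := orderOf_sylow_three h P hP (fun e' => by
        have := h1.1
        rw [e', orderOf_one] at this; norm_num at this)
      rw [h1.1] at this
      norm_num at this
  have himg : (fun p : G × G => p.1 * p.2) '' (S ×ˢ ((P : Subgroup G) : Set G)) =
      (centralizer ({x} : Set G) : Set G) := by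
    refine Set.eq_of_subset_of_ncard_le ?_ ?_ (Set.toFinite _)
    · rintro _ ⟨⟨v, a⟩, ⟨hv, ha⟩, rfl⟩
      exact mem_centralizer_singleton_iff.2
        ((Commute.mul_left (hmem v hv) (sylow_comm h P ha hx)).eq)
    · rw [Set.ncard_image_of_injOn hinj, Set.ncard_prod, hSc, ← Nat.card_coe_set_eq, ← Nat.card_coe_set_eq]
      show Nat.card (centralizer ({x} : Set G)) ≤ 4 * Nat.card (P : Subgroup G)
      rw [cent_three h hxo, card_sylow_three h P]
      norm_num
  obtain ⟨⟨v, a⟩, ⟨hv, ha⟩, e⟩ := (Set.ext_iff.1 himg g).2 (mem_centralizer_singleton_iff.2 hg)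
  exact ⟨a, ha, v, hv, e.symm⟩

/-- Sylow subgroups inside `C(y)` are conjugate there. -/
theorem exists_conj_normalizer (h : Hyp G) (P : Sylow 3 G) {x y : G} (hx : x ∈ (P : Subgroup G))
    (hy : y ∈ (P : Subgroup G)) (hx1 : x ≠ 1) (hy1 : y ≠ 1) :
    ∃ g ∈ normalizer ((P : Subgroup G) : Set G), g * x * g⁻¹ = y := by
  have : Fact (Nat.Prime 3) := ⟨Nat.prime_three⟩
  obtain ⟨g, hg⟩ := isConj_iff.1 (isConj_three h (orderOf_sylow_three h P hx hx1)
    (orderOf_sylow_three h P hy hy1))
  have hgx : g * x * g⁻¹ = y := hg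
  have h1 : (P : Subgroup G) ≤ centralizer ({y} : Set G) := fun c hc =>
    mem_centralizer_singleton_iff.2 (sylow_comm h P hc hy)
  have h2 : ((g • P : Sylow 3 G) : Subgroup G) ≤ centralizer ({y} : Set G) := by
    rintro _ ⟨c, hc, rfl⟩
    refine mem_centralizer_singleton_iff.2 ?_
    simp only [MulDistribMulAction.toMonoidEnd_apply, MulDistribMulAction.toMonoidHom_apply,
      MulAut.smul_def, MulAut.conj_apply, ← hgx]
    calc g * c * g⁻¹ * (g * x * g⁻¹) = g * (c * x) * g⁻¹ := by group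
      _ = g * (x * c) * g⁻¹ := by rw [sylow_comm h P hc hx]
      _ = g * x * g⁻¹ * (g * c * g⁻¹) := by group
  obtain ⟨c, hc⟩ := MulAction.exists_smul_eq (centralizer ({y} : Set G)) ((g • P).subtype h2) (P.subtype h1)
  rw [Sylow.smul_subtype] at hc
  have e := Sylow.subtype_injective hc
  have e' : ((c : G) * g) • P = P := by rw [mul_smul]; exact e
  refine ⟨(c : G) * g, Sylow.smul_eq_iff_mem_normalizer.1 e', ?_⟩
  calc (c : G) * g * x * ((c : G) * g)⁻¹ = (c : G) * (g * x * g⁻¹) * (c : G)⁻¹ := by group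
    _ = y := by rw [hgx, mem_centralizer_singleton_iff.1 c.2, mul_inv_cancel_right]

theorem ncard_nontrivial (h : Hyp G) (P : Sylow 3 G) :
    ({a | a ∈ (P : Subgroup G) ∧ a ≠ 1} : Set G).ncard = 8 := by
  rw [show ({a | a ∈ (P : Subgroup G) ∧ a ≠ 1} : Set G) = ((P : Subgroup G) : Set G) \ {1} from rfl,
    Set.ncard_diff_singleton_of_mem (one_mem _), ← Nat.card_coe_set_eq]
  show Nat.card (P : Subgroup G) - 1 = 8
  rw [card_sylow_three h P]
  norm_num

theorem card_normalizer_eq (h : Hyp G) (P : Sylow 3 G) {x : G} (hx : x ∈ (P : Subgroup G)) (hx1 : x ≠ 1) :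
    Nat.card (normalizer ((P : Subgroup G) : Set G)) =
      8 * Nat.card (centralizer ({x} : Set G) ⊓ normalizer ((P : Subgroup G) : Set G) : Subgroup G) := by
  set N := normalizer ((P : Subgroup G) : Set G) with hN
  have hxN : x ∈ N := le_normalizer hx
  have h1 := ncard_cl_mul (⟨x, hxN⟩ : N)
  have hcl : (cl (⟨x, hxN⟩ : N)).ncard = 8 := by
    rw [← ncard_nontrivial h P, ← Set.ncard_image_of_injective _ (N.subtype_injective)]
    congr 1
    ext a
    constructor
    · rintro ⟨b, hb, rfl⟩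
      obtain ⟨n, hn⟩ := isConj_iff.1 (mem_cl.1 hb)
      have e : (b : G) = n * x * (n : G)⁻¹ := by rw [← hn]; rfl
      show (b : G) ∈ (P : Subgroup G) ∧ (b : G) ≠ 1
      exact ⟨e ▸ (mem_normalizer_iff.1 n.2 x).1 hx, fun e' => hx1 (by
        rw [e'] at e
        calc x = (n : G)⁻¹ * ((n : G) * x * (n : G)⁻¹) * n := by group
          _ = 1 := by rw [← e]; group)⟩
    · rintro ⟨ha, ha1⟩
      obtain ⟨g, hg, e⟩ := exists_conj_normalizer h P hx ha hx1 ha1
      exact ⟨⟨a, le_normalizer ha⟩, mem_cl.2 (isConj_iff.2 ⟨⟨g, hg⟩, Subtype.ext e⟩), rfl⟩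
  have hC : Nat.card (centralizer ({(⟨x, hxN⟩ : N)} : Set N)) =
      Nat.card (centralizer ({x} : Set G) ⊓ N : Subgroup G) := by
    refine Nat.card_congr
      { toFun := fun c => ⟨c.1.1, mem_inf.2 ⟨mem_centralizer_singleton_iff.2
          (congrArg Subtype.val (mem_centralizer_singleton_iff.1 c.2)), c.1.2⟩⟩
        invFun := fun c => ⟨⟨c.1, (mem_inf.1 c.2).2⟩, mem_centralizer_singleton_iff.2
          (Subtype.ext (mem_centralizer_singleton_iff.1 (mem_inf.1 c.2).1))⟩
        left_inv := fun _ => rfl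
        right_inv := fun _ => rfl }
  rw [hcl, hC] at h1
  exact h1.symm

theorem ncard_two (h : Hyp G) : {g : G | orderOf g = 2}.ncard = 1155 := by
  rw [← h.cnt_two, ← Nat.card_coe_set_eq]; rfl

theorem cent_two_bounds (h : Hyp G) {t : G} (ht : orderOf t = 2) :
    Nat.card (centralizer ({t} : Set G)) ∣ 1152 ∧ 384 ≤ Nat.card (centralizer ({t} : Set G)) := by
  refine ⟨cent_dvd h (CfsgLib.Invol.invol_ne_one ht) (by rw [ht]; norm_num) (by rw [ht]; norm_num)
    (by rw [ht]; norm_num), ?_⟩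
  have h1 := ncard_cl_mul t
  rw [h.card] at h1
  have h2 : (cl t).ncard ≤ 1155 := ncard_two h ▸
    Set.ncard_le_ncard (fun u hu => (orderOf_mem_cl hu).trans ht) (Set.toFinite _)
  by_contra hlt
  have := Nat.mul_le_mul h2 (show Nat.card (centralizer ({t} : Set G)) ≤ 383 by omega)
  omega

/-- No involution centralises a Sylow 3-subgroup. -/
theorem no_invol_cent (h : Hyp G) (P : Sylow 3 G) {t : G} (ht : orderOf t = 2) :
    ¬ ∀ a ∈ (P : Subgroup G), a * t = t * a := by
  intro hPt
  classical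
  have : Fact (Nat.Prime 3) := ⟨Nat.prime_three⟩
  have : Fact (Nat.Prime 2) := ⟨Nat.prime_two⟩
  obtain ⟨x, hx, hx1⟩ : ∃ x, x ∈ (P : Subgroup G) ∧ x ≠ 1 := by
    obtain ⟨a, ha⟩ := Set.nonempty_of_ncard_ne_zero
      (show ({a | a ∈ (P : Subgroup G) ∧ a ≠ 1} : Set G).ncard ≠ 0 by rw [ncard_nontrivial h P]; norm_num)
    exact ⟨a, ha.1, ha.2⟩
  have hord := fun {a : G} (ha : a ∈ (P : Subgroup G)) (ha1 : a ≠ 1) => orderOf_sylow_three h P ha ha1
  -- the involutions of `C(a)` centralise `P`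
  have hfix : ∀ a ∈ (P : Subgroup G), a ≠ 1 → ∀ s ∈ invC a, ∀ b ∈ (P : Subgroup G), b * s = s * b := by
    intro a ha ha1 s hs b hb
    rcases eq_or_ne b 1 with rfl | hb1
    · simp
    exact fix_invC h (hord ha ha1) (sylow_comm h P hb ha) (hord hb hb1 ▸ pow_orderOf_eq_one b)
      ⟨ht, hPt a ha⟩ (hPt b hb) s hs
  -- `C(a) = C(P)`
  have hcent : ∀ a ∈ (P : Subgroup G), a ≠ 1 → ∀ g, g * a = a * g → ∀ b ∈ (P : Subgroup G),
      g * b = b * g := by
    intro a ha ha1 g hg b hb
    obtain ⟨c, hc, v, hv, rfl⟩ := exists_mul_of_cent h P ha ha1 hg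
    refine (Commute.mul_left ?_ (sylow_comm h P hc hb)).eq
    rcases hv with rfl | hv
    · exact Commute.one_left b
    · exact (hfix a ha ha1 v hv b hb).symm
  -- every element of order three of `C(a)` lies in `P`
  have hthree : ∀ a ∈ (P : Subgroup G), a ≠ 1 → ∀ g, g * a = a * g → g ^ 3 = 1 →
      g ∈ (P : Subgroup G) := by
    intro a ha ha1 g hg hg3
    obtain ⟨c, hc, v, hv, rfl⟩ := exists_mul_of_cent h P ha ha1 hg
    rcases hv with rfl | hv
    · simpa using hc
    exfalso
    have hvc : Commute v c := (hfix a ha ha1 v hv c hc).symm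
    have hc3 : c ^ 3 = 1 := by
      rcases eq_or_ne c 1 with rfl | hc1
      · simp
      · exact hord hc hc1 ▸ pow_orderOf_eq_one c
    rw [hvc.mul_pow, hc3, mul_one] at hg3
    have := orderOf_dvd_of_pow_eq_one hg3
    rw [hv.1] at this
    norm_num at this
  -- the normaliser has order 288
  set N := normalizer ((P : Subgroup G) : Set G) with hN
  have hCN : centralizer ({x} : Set G) ≤ N := by
    intro c hc
    refine mem_normalizer_iff.2 fun b => ⟨fun hb => ?_, fun hb => ?_⟩
    · rw [hcent x hx hx1 c (mem_centralizer_singleton_iff.1 hc) b hb, mul_inv_cancel_right]; exact hb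
    · have := hcent x hx hx1 c⁻¹ ((Commute.inv_left (mem_centralizer_singleton_iff.1 hc)).eq) _ hb
      rw [show b = c⁻¹ * (c * b * c⁻¹) * c by group, this, inv_mul_cancel_right]
      exact hb
  have hN288 : Nat.card N = 288 := by
    rw [hN, card_normalizer_eq h P hx hx1, inf_eq_left.2 hCN, cent_three h (hord hx hx1)]
  -- a 2-subgroup of order 32 fixes some involution of `C(x)`
  obtain ⟨T, hT⟩ := Sylow.exists_subgroup_card_pow_prime (G := N) 2 (n := 5) (by rw [hN288]; norm_num)
  set T' := T.map N.subtype with hT'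
  have hT'c : Nat.card T' = 2 ^ 5 := by rw [hT', card_map_of_injective N.subtype_injective, hT]
  have hT'N : T' ≤ N := map_subtype_le T
  have hconjV : ∀ k ∈ T', ∀ s ∈ invC x, k * s * k⁻¹ ∈ invC x := by
    intro k hk s hs
    refine ⟨by rw [CfsgLib.Invol.orderOf_conj_eq]; exact hs.1, ?_⟩
    obtain ⟨b, hb, hbe⟩ : ∃ b ∈ (P : Subgroup G), k * b * k⁻¹ = x := ⟨k⁻¹ * x * k, by
      simpa using (mem_normalizer_iff.1 (N.inv_mem (hT'N hk)) x).1 hx, by group⟩
    rw [← hbe]
    calc k * b * k⁻¹ * (k * s * k⁻¹) = k * (b * s) * k⁻¹ := by group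
      _ = k * (s * b) * k⁻¹ := by rw [hfix x hx hx1 s hs b hb]
      _ = k * s * k⁻¹ * (k * b * k⁻¹) := by group
  have hmod := ncard_modEq_fixed (p := 2) (IsPGroup.of_card (n := 5) hT'c) (invC x) hconjV
  rw [ncard_invC h (hord hx hx1)] at hmod
  obtain ⟨v, hv, hvT⟩ : {s | s ∈ invC x ∧ ∀ k ∈ T', k * s = s * k}.Nonempty := by
    refine Set.nonempty_of_ncard_ne_zero fun e => ?_
    rw [e] at hmod
    exact absurd hmod (by decide)
  -- the centraliser of `v`
  set L := centralizer ({v} : Set G) with hL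
  have hTL : T' ≤ L := fun k hk => mem_centralizer_singleton_iff.2 (hvT k hk)
  have hCL : centralizer ({x} : Set G) ≤ L := by
    intro c hc
    obtain ⟨a, ha, w, hw, rfl⟩ := exists_mul_of_cent h P hx hx1 (mem_centralizer_singleton_iff.1 hc)
    refine L.mul_mem (mem_centralizer_singleton_iff.2 ?_) (mem_centralizer_singleton_iff.2
      (hfix x hx hx1 v hv a ha))
    rcases hw with rfl | hw
    · simp
    by_cases e : w = v
    · rw [e]
    · exact (invC_mul h (hord hx hx1) hw hv e).2
  have hPL : (P : Subgroup G) ≤ L := fun a ha =>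
    mem_centralizer_singleton_iff.2 (hfix x hx hx1 v hv a ha)
  have h288 : 288 ∣ Nat.card (N ⊓ L : Subgroup G) := by
    have a1 := card_dvd_of_le (le_inf hT'N hTL)
    have a2 := card_dvd_of_le (le_inf hCN hCL)
    rw [hT'c] at a1
    rw [cent_three h (hord hx hx1)] at a2
    have := Nat.lcm_dvd a1 a2
    rwa [show Nat.lcm (2 ^ 5) 36 = 288 by decide] at this
  have hNL : N ≤ L := by
    have h2 : Nat.card (N ⊓ L : Subgroup G) = Nat.card N := by
      rw [hN288]
      exact Nat.dvd_antisymm (hN288 ▸ card_dvd_of_le inf_le_left) h288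
    exact inf_eq_left.1 (eq_of_le_of_card_ge inf_le_left h2.ge)
  obtain ⟨hLd, hLge⟩ := cent_two_bounds h hv.1
  rw [← hL] at hLd hLge
  have hd288 : 288 ∣ Nat.card L := hN288 ▸ card_dvd_of_le hNL
  -- the Sylow 3-subgroups of `L`
  set PL := P.subtype hPL with hPLdef
  have hidx : Nat.card (Sylow 3 L) * 288 = Nat.card L := by
    have e : normalizer ((PL : Subgroup L) : Set L) = N.subgroupOf L := by
      ext c
      simp only [mem_normalizer_iff, mem_subgroupOf, hN]
      constructor
      · intro hc b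
        constructor
        · intro hb; exact (hc ⟨b, hPL hb⟩).1 hb
        · intro hb
          have := hPL hb
          have hbL : b ∈ L := by
            have := L.mul_mem (L.mul_mem (L.inv_mem c.2) this) c.2
            simpa [mul_assoc] using this
          exact (hc ⟨b, hbL⟩).2 hb
      · exact fun hc b => hc b
    have e1 : Nat.card (Sylow 3 L) = (N.subgroupOf L).index := PL.card_eq_index_normalizer.trans
      (congrArg Subgroup.index e)
    rw [e1, ← hN288,
      show Nat.card N = Nat.card (N.subgroupOf L) from (Nat.card_congr (subgroupOfEquivOfLe hNL).toEquiv).symm]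
    exact index_mul_card _
  have hn3 : Nat.card (Sylow 3 L) = 4 := by
    have hmod3 := card_sylow_modEq_one 3 L
    have : ∀ m ∈ Nat.divisors 1152, 384 ≤ m → 288 ∣ m → m = 576 ∨ m = 1152 := by decide +kernel
    rcases this _ (Nat.mem_divisors.2 ⟨hLd, by norm_num⟩) hLge hd288 with e | e <;> rw [e] at hidx
    · rw [show Nat.card (Sylow 3 L) = 2 by omega] at hmod3
      exact absurd hmod3 (by decide)
    · omega
  obtain ⟨Q, hQ⟩ : ∃ Q : Sylow 3 L, Q ≠ PL := by
    by_contra hall
    simp only [not_exists, not_not] at hall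
    have : Nat.card (Sylow 3 L) ≤ 1 := Finite.card_le_one_iff_subsingleton.2 ⟨fun a b => (hall a).trans (hall b).symm⟩
    omega
  -- two elements of `P` move `Q` alike
  obtain ⟨a, b, hab, e⟩ : ∃ a b : (PL : Subgroup L), a ≠ b ∧ (a : L) • Q = (b : L) • Q := by
    by_contra hinj
    simp only [not_exists, not_and] at hinj
    have := Nat.card_le_card_of_injective (fun a : (PL : Subgroup L) => (a : L) • Q)
      fun a b e => by_contra fun hne => hinj a b hne e
    rw [hn3, show Nat.card (PL : Subgroup L) = 3 ^ 2 from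
      (Nat.card_congr (subgroupOfEquivOfLe hPL).toEquiv).trans (card_sylow_three h P)] at this
    omega
  set z : L := (b : L)⁻¹ * (a : L) with hz
  have hzQ : z • Q = Q := by rw [hz, mul_smul, e, inv_smul_smul]
  have hzP : z ∈ (PL : Subgroup L) := mul_mem (inv_mem b.2) a.2
  have hz1 : z ≠ 1 := fun e' => hab (Subtype.ext (inv_mul_eq_one.1 (hz ▸ e')).symm)
  have hzmem : z ∈ (Q : Subgroup L) := by
    obtain ⟨k, hk⟩ := PL.2 ⟨z, hzP⟩
    have hzk : IsPGroup 3 (zpowers z) := IsPGroup.of_card (n := Classical.choose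
      ((Nat.dvd_prime_pow Nat.prime_three).1 (orderOf_dvd_of_pow_eq_one (congrArg Subtype.val hk)))) (by
      rw [Nat.card_zpowers]
      exact (Classical.choose_spec ((Nat.dvd_prime_pow Nat.prime_three).1
        (orderOf_dvd_of_pow_eq_one (congrArg Subtype.val hk)))).2)
    have := hzk.inf_normalizer_sylow Q
    exact (this ▸ mem_inf.2 ⟨mem_zpowers z, Sylow.smul_eq_iff_mem_normalizer.1 hzQ⟩ :
      z ∈ zpowers z ⊓ (Q : Subgroup L)).2
  have hQP : (Q : Subgroup L) ≤ (PL : Subgroup L) := by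
    intro q hq
    have hQc : Nat.card (Q : Subgroup L) = 3 ^ 2 := by
      rw [Q.card_eq_multiplicity, ← PL.card_eq_multiplicity]
      exact (Nat.card_congr (subgroupOfEquivOfLe hPL).toEquiv).trans (card_sylow_three h P)
    have hcomm := congrArg Subtype.val
      (IsPGroup.commutative_of_card_eq_prime_sq hQc (⟨q, hq⟩ : (Q : Subgroup L)) ⟨z, hzmem⟩)
    refine hthree z hzP (fun e' => hz1 (Subtype.ext e')) q (congrArg Subtype.val hcomm) ?_
    have hd := Subgroup.orderOf_dvd_natCard _ hq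
    rw [hQc, ← Subgroup.orderOf_coe] at hd
    obtain ⟨j, hj, ej⟩ := (Nat.dvd_prime_pow Nat.prime_three).1 hd
    rw [← orderOf_dvd_iff_pow_eq_one, ej]
    interval_cases j
    · norm_num
    · norm_num
    · exact absurd ej (h.no_order (by decide))
  refine hQ (Sylow.ext (eq_of_le_of_card_ge hQP ?_))
  rw [Q.card_eq_multiplicity, PL.card_eq_multiplicity]

theorem cent_sylow (h : Hyp G) (P : Sylow 3 G) {g : G} (hg : ∀ a ∈ (P : Subgroup G), g * a = a * g) :
    g ∈ (P : Subgroup G) := by
  obtain ⟨x, hx, hx1⟩ : ∃ x, x ∈ (P : Subgroup G) ∧ x ≠ 1 := by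
    obtain ⟨a, ha⟩ := Set.nonempty_of_ncard_ne_zero
      (show ({a | a ∈ (P : Subgroup G) ∧ a ≠ 1} : Set G).ncard ≠ 0 by rw [ncard_nontrivial h P]; norm_num)
    exact ⟨a, ha.1, ha.2⟩
  obtain ⟨c, hc, v, hv, rfl⟩ := exists_mul_of_cent h P hx hx1 (hg x hx)
  rcases hv with rfl | hv
  · simpa using hc
  refine absurd (fun a ha => ?_) (no_invol_cent h P hv.1)
  have := hg a ha
  have hca := sylow_comm h P hc ha
  calc a * v = a * (v * c) * c⁻¹ := by group
    _ = v * c * a * c⁻¹ := by rw [this]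
    _ = v * a := by rw [mul_assoc v c a, hca]; group

theorem cent_inf_normalizer (h : Hyp G) (P : Sylow 3 G) {x : G} (hx : x ∈ (P : Subgroup G)) (hx1 : x ≠ 1) :
    centralizer ({x} : Set G) ⊓ normalizer ((P : Subgroup G) : Set G) = (P : Subgroup G) := by
  refine le_antisymm ?_ (le_inf (fun a ha => mem_centralizer_singleton_iff.2 (sylow_comm h P ha hx))
    le_normalizer)
  intro g hg
  obtain ⟨hgc, hgn⟩ := mem_inf.1 hg
  obtain ⟨c, hc, v, hv, rfl⟩ := exists_mul_of_cent h P hx hx1 (mem_centralizer_singleton_iff.1 hgc)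
  have hvn : v ∈ normalizer ((P : Subgroup G) : Set G) := by
    have := mul_mem hgn (inv_mem (le_normalizer hc))
    simpa using this
  rcases hv with rfl | hv
  · simpa using hc
  refine (P : Subgroup G).mul_mem (cent_sylow h P fun a ha => ?_) hc
  -- `v a v⁻¹ a⁻¹` lies in `P` and is an involution of `C(x)` or trivial
  have hax := sylow_comm h P ha hx
  have h1 : v * a * v⁻¹ * a⁻¹ ∈ (P : Subgroup G) :=
    mul_mem ((mem_normalizer_iff.1 hvn a).1 ha) (inv_mem ha)
  by_contra hne
  have hs := conj_mem_invC hax hv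
  have hne' : v ≠ a * v * a⁻¹ := fun e => hne (mul_inv_eq_iff_eq_mul.1 e.symm).symm
  have h2 := (invC_mul h (orderOf_sylow_three h P hx hx1) hv hs hne').1
  have e : v * a * v⁻¹ * a⁻¹ = v * (a * v * a⁻¹) := by
    rw [CfsgLib.Invol.invol_inv hv.1]; group
  rw [e] at h1
  have h3 := orderOf_sylow_three h P h1 (CfsgLib.Invol.invol_ne_one h2.1)
  rw [h2.1] at h3
  norm_num at h3

theorem card_normalizer_sylow (h : Hyp G) (P : Sylow 3 G) :
    Nat.card (normalizer ((P : Subgroup G) : Set G)) = 72 := by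
  obtain ⟨x, hx, hx1⟩ : ∃ x, x ∈ (P : Subgroup G) ∧ x ≠ 1 := by
    obtain ⟨a, ha⟩ := Set.nonempty_of_ncard_ne_zero
      (show ({a | a ∈ (P : Subgroup G) ∧ a ≠ 1} : Set G).ncard ≠ 0 by rw [ncard_nontrivial h P]; norm_num)
    exact ⟨a, ha.1, ha.2⟩
  rw [card_normalizer_eq h P hx hx1, cent_inf_normalizer h P hx hx1, card_sylow_three h P]
  norm_num

/-- An involution inverting the whole Sylow 3-subgroup. -/
theorem exists_inverter (h : Hyp G) (P : Sylow 3 G) :
    ∃ w : G, orderOf w = 2 ∧ ∀ a ∈ (P : Subgroup G), w * a * w = a⁻¹ := by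
  have : Fact (Nat.Prime 2) := ⟨Nat.prime_two⟩
  set N := normalizer ((P : Subgroup G) : Set G) with hN
  obtain ⟨x, hx, hx1⟩ : ∃ x, x ∈ (P : Subgroup G) ∧ x ≠ 1 := by
    obtain ⟨a, ha⟩ := Set.nonempty_of_ncard_ne_zero
      (show ({a | a ∈ (P : Subgroup G) ∧ a ≠ 1} : Set G).ncard ≠ 0 by rw [ncard_nontrivial h P]; norm_num)
    exact ⟨a, ha.1, ha.2⟩
  obtain ⟨T, hT⟩ := Sylow.exists_subgroup_card_pow_prime (G := N) 2 (n := 3)
    (by rw [hN, card_normalizer_sylow h P]; norm_num)
  set W := T.map N.subtype with hW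
  have hWc : Nat.card W = 8 := by rw [hW, card_map_of_injective N.subtype_injective, hT]; rfl
  have hWN : W ≤ N := map_subtype_le T
  -- `W` meets the centraliser of every nontrivial member trivially
  have htriv : ∀ a ∈ (P : Subgroup G), a ≠ 1 → ∀ g ∈ W, g * a = a * g → g = 1 := by
    intro a ha ha1 g hg hga
    have hgP : g ∈ (P : Subgroup G) := by
      rw [← cent_inf_normalizer h P ha ha1]
      exact mem_inf.2 ⟨mem_centralizer_singleton_iff.2 hga, hWN hg⟩
    have d1 := Subgroup.orderOf_dvd_natCard _ hg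
    have d2 := Subgroup.orderOf_dvd_natCard _ hgP
    rw [hWc] at d1
    rw [card_sylow_three h P] at d2
    exact orderOf_eq_one_iff.1 (Nat.eq_one_of_dvd_coprimes (by norm_num : Nat.Coprime 8 (3 ^ 2)) d1 d2)
  -- so some member sends `x` to its inverse
  have hxi : x⁻¹ ∈ (P : Subgroup G) := inv_mem hx
  have hinj : Function.Injective fun g : W =>
      (⟨(g : G) * x * (g : G)⁻¹, (mem_normalizer_iff.1 (hWN g.2) x).1 hx, fun e => hx1 (by
        calc x = (g : G)⁻¹ * ((g : G) * x * (g : G)⁻¹) * g := by group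
          _ = 1 := by rw [e]; group)⟩ : ({a | a ∈ (P : Subgroup G) ∧ a ≠ 1} : Set G)) := by
    intro g k e
    have e' : (g : G) * x * (g : G)⁻¹ = k * x * (k : G)⁻¹ := congrArg Subtype.val e
    have := htriv x hx hx1 _ (W.mul_mem (W.inv_mem k.2) g.2) (by
      calc (k : G)⁻¹ * g * x = (k : G)⁻¹ * ((g : G) * x * (g : G)⁻¹) * g := by group
        _ = (k : G)⁻¹ * (k * x * (k : G)⁻¹) * g := by rw [e']
        _ = x * ((k : G)⁻¹ * g) := by group)
    exact Subtype.ext (inv_mul_eq_one.1 this).symm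
  have hbij : Function.Bijective fun g : W =>
      (⟨(g : G) * x * (g : G)⁻¹, (mem_normalizer_iff.1 (hWN g.2) x).1 hx, fun e => hx1 (by
        calc x = (g : G)⁻¹ * ((g : G) * x * (g : G)⁻¹) * g := by group
          _ = 1 := by rw [e]; group)⟩ : ({a | a ∈ (P : Subgroup G) ∧ a ≠ 1} : Set G)) :=
    (Nat.bijective_iff_injective_and_card _).2 ⟨hinj, by
      rw [hWc, Nat.card_coe_set_eq, ncard_nontrivial h P]⟩
  obtain ⟨⟨w, hw⟩, hwe⟩ := hbij.2 ⟨x⁻¹, hxi, inv_ne_one.2 hx1⟩
  have hwx : w * x * w⁻¹ = x⁻¹ := congrArg Subtype.val hwe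
  have hww : w * w = 1 := htriv x hx hx1 _ (W.mul_mem hw hw) (by
    calc w * w * x = w * (w * x * w⁻¹) * w := by group
      _ = w * x⁻¹ * w := by rw [hwx]
      _ = (w * x * w⁻¹)⁻¹ * (w * w) := by group
      _ = x * (w * w) := by rw [hwx, inv_inv])
  have hw1 : w ≠ 1 := fun e => by
    rw [e] at hwx
    have h3 := orderOf_sylow_three h P hx hx1
    have : orderOf x ∣ 2 := orderOf_dvd_of_pow_eq_one (by
      rw [pow_two, mul_eq_one_iff_eq_inv]; simpa using hwx)
    rw [h3] at this
    norm_num at this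
  refine ⟨w, CfsgLib.Invol.invol_of_mul_self hww hw1, fun a ha => ?_⟩
  have hwi : w⁻¹ = w := inv_eq_of_mul_eq_one_right hww
  have hb : w * a * w ∈ (P : Subgroup G) := by
    have := (mem_normalizer_iff.1 (hWN hw) a).1 ha
    rwa [hwi] at this
  refine eq_inv_of_mul_eq_one_right ?_
  by_contra hne
  refine hw1 (htriv _ (mul_mem ha hb) hne w hw ?_)
  have e : w * (w * a * w) = a * w := by
    calc w * (w * a * w) = w * w * (a * w) := by group
      _ = a * w := by rw [hww, one_mul]
  calc w * (a * (w * a * w)) = w * ((w * a * w) * a) := by rw [sylow_comm h P ha hb]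
    _ = (w * (w * a * w)) * a := by group
    _ = a * (w * a * w) * w := by rw [e]; simp [mul_assoc, hww]

theorem cent_two (h : Hyp G) {t : G} (ht : orderOf t = 2) :
    Nat.card (centralizer ({t} : Set G)) = 384 := by
  have : Fact (Nat.Prime 3) := ⟨Nat.prime_three⟩
  obtain ⟨hd, hge⟩ := cent_two_bounds h ht
  have h9 : ¬ 9 ∣ Nat.card (centralizer ({t} : Set G)) := by
    intro h9
    obtain ⟨H, hH⟩ := Sylow.exists_subgroup_card_pow_prime (G := centralizer ({t} : Set G)) 3 (n := 2) h9
    obtain ⟨P, hP⟩ := (IsPGroup.of_card (G := H.map (centralizer ({t} : Set G)).subtype) (p := 3) (n := 2)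
      (by rw [card_map_of_injective (subtype_injective _), hH])).exists_le_sylow
    have e : H.map (centralizer ({t} : Set G)).subtype = (P : Subgroup G) := eq_of_le_of_card_ge hP
      (by rw [card_map_of_injective (subtype_injective _), hH, card_sylow_three h P])
    exact no_invol_cent h P ht fun a ha => mem_centralizer_singleton_iff.1 (map_subtype_le H (e ▸ ha))
  have : ∀ m ∈ Nat.divisors 1152, 384 ≤ m → ¬ 9 ∣ m → m = 384 := by decide +kernel
  exact this _ (Nat.mem_divisors.2 ⟨hd, by norm_num⟩) hge h9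

theorem isConj_two (h : Hyp G) {s t : G} (hs : orderOf s = 2) (ht : orderOf t = 2) : IsConj s t := by
  have h1 := ncard_cl_mul s
  rw [h.card, cent_two h hs] at h1
  have e : cl s = {g : G | orderOf g = 2} := by
    refine Set.eq_of_subset_of_ncard_le (fun u hu => (orderOf_mem_cl hu).trans hs) ?_ (Set.toFinite _)
    rw [ncard_two h]
    omega
  exact mem_cl.1 (e ▸ (show t ∈ {g : G | orderOf g = 2} from ht))

/-- An involution centralises 32 elements of order three. -/
theorem ncard_three_cent (h : Hyp G) {t x : G} (ht : orderOf t = 2) (hx : orderOf x = 3) :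
    (fixIn (cl x) t).ncard = 32 := by
  have e := cl_pairs t x
  have e1 : (cl t).ncard = 1155 := by
    have := ncard_cl_mul t
    rw [h.card, cent_two h ht] at this
    omega
  have e2 : (cl x).ncard = 12320 := by
    have := ncard_cl_mul x
    rw [h.card, cent_three h hx] at this
    omega
  have e3 : fixIn (cl t) x = invC x := by
    ext u
    exact ⟨fun hu => ⟨(orderOf_mem_cl hu.1).trans ht, hu.2⟩,
      fun hu => ⟨mem_cl.2 (isConj_two h ht hu.1), hu.2⟩⟩
  rw [e1, e2, e3, ncard_invC h hx] at e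
  omega

end CfsgLib.ClassK.M22Nse
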