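import Cfsg.Agent.Lib.ClassK.M22Nse.Simple

/-!
The centraliser of an element of order three: order 36, three involutions, one class.
-/

set_option autoImplicit false
set_option linter.unusedSectionVars false

namespace CfsgLib.ClassK.M22Nse

open Subgroup CfsgLib.StructB.OrderCount
open CfsgLib.ClassK.M12Nse (cl mem_cl ncard_cl_mul orderOf_mem_cl)

universe u

variable {G : Type u} [Group G] [Finite G]

/-- The involutions commuting with `x`. -/
def invC (x : G) : Set G := {t | orderOf t = 2 ∧ x * t = t * x}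

theorem mem_invC {x t : G} : t ∈ invC x ↔ orderOf t = 2 ∧ x * t = t * x := Iff.rfl

theorem Hyp.no_order (h : Hyp G) {g : G} {n : ℕ} (hn : n ∉ ([1, 2, 3, 4, 5, 6, 7, 8, 11] : List ℕ)) :
    orderOf g ≠ n := fun e => hn ((table h).2.2.2 n (Nat.card_ne_zero.2 ⟨⟨⟨g, e⟩⟩, inferInstance⟩))

theorem sum_invC_eq (h : Hyp G) :
    ∑ᶠ x : {g : G // orderOf g = 3}, (invC x.1).ncard = 36960 := by
  classical
  have := Fintype.ofFinite G
  rw [finsum_eq_sum_of_fintype]
  have e : Nat.card (Σ x : {g : G // orderOf g = 3}, invC x.1) = cnt G 6 := by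
    refine Nat.card_congr
      { toFun := fun a => ⟨a.1.1 * a.2.1, by
          rw [Commute.orderOf_mul_eq_mul_orderOf_of_coprime a.2.2.2 (by rw [a.1.2, a.2.2.1]; decide),
            a.1.2, a.2.2.1]⟩
        invFun := fun g => ⟨⟨g.1 ^ 4, by rw [orderOf_pow' _ (by norm_num), g.2]; rfl⟩,
          ⟨g.1 ^ 3, by rw [orderOf_pow' _ (by norm_num), g.2]; rfl, (Commute.pow_pow_self g.1 4 3).eq⟩⟩
        left_inv := ?_
        right_inv := ?_ }
    · rintro ⟨⟨x, hx⟩, t, ht, hxt⟩
      have x3 : x ^ 3 = 1 := hx ▸ pow_orderOf_eq_one x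
      have t2 : t ^ 2 = 1 := ht ▸ pow_orderOf_eq_one t
      have e4 : (x * t) ^ 4 = x := by
        rw [Commute.mul_pow hxt, pow_succ x 3, x3, one_mul, show (4 : ℕ) = 2 * 2 from rfl, pow_mul, t2,
          one_pow, mul_one]
      have e3 : (x * t) ^ 3 = t := by
        rw [Commute.mul_pow hxt, x3, one_mul, pow_succ, t2, one_mul]
      refine Sigma.ext (Subtype.ext e4) ?_
      refine (Subtype.heq_iff_coe_eq ?_).2 e3
      intro u
      simp only [e4]
    · rintro ⟨g, hg⟩
      apply Subtype.ext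
      show g ^ 4 * g ^ 3 = g
      rw [← pow_add, show 4 + 3 = 6 + 1 from rfl, pow_succ, ← hg, pow_orderOf_eq_one, one_mul]
  rw [Nat.card_sigma, (table h).1] at e
  rw [← e]
  exact Finset.sum_congr rfl fun x _ => (Nat.card_coe_set_eq _).symm

theorem nine_dvd_cent_three (h : Hyp G) {x : G} (hx : orderOf x = 3) :
    9 ∣ Nat.card (centralizer ({x} : Set G)) := by
  have : Fact (Nat.Prime 3) := ⟨Nat.prime_three⟩
  obtain ⟨P, hP⟩ := (IsPGroup.of_card (G := zpowers x) (p := 3) (n := 1)
    (by rw [Nat.card_zpowers, hx, pow_one])).exists_le_sylow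
  have hPc : Nat.card (P : Subgroup G) = 3 ^ 2 := by
    rw [P.card_eq_multiplicity, h.card]
    have : Nat.factorization 443520 3 = 2 := by
      rw [show 443520 = 3 ^ 2 * 49280 by norm_num, Nat.factorization_mul (by norm_num) (by norm_num),
        Nat.Prime.factorization_pow Nat.prime_three, Finsupp.add_apply, Finsupp.single_eq_same,
        Nat.factorization_eq_zero_of_not_dvd (by norm_num)]
    rw [this]
  have hle : (P : Subgroup G) ≤ centralizer ({x} : Set G) := fun c hc =>
    mem_centralizer_singleton_iff.2 (congrArg Subtype.val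
      (IsPGroup.commutative_of_card_eq_prime_sq hPc (⟨c, hc⟩ : P) ⟨x, hP (mem_zpowers x)⟩))
  have := card_dvd_of_le hle
  rw [hPc] at this
  exact this

theorem cent_three_dvd (h : Hyp G) {x : G} (hx : orderOf x = 3) :
    Nat.card (centralizer ({x} : Set G)) ∣ 1152 := by
  refine cent_dvd h (fun e => ?_) (by rw [hx]; norm_num) (by rw [hx]; norm_num) (by rw [hx]; norm_num)
  rw [e, orderOf_one] at hx
  norm_num at hx

/-- A 2-subgroup of `C(x)` is elementary abelian. -/
theorem invC_of_two_pow (h : Hyp G) {x g : G} (hx : orderOf x = 3) (hg : x * g = g * x)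
    {k : ℕ} (hk : orderOf g ∣ 2 ^ k) (hg1 : g ≠ 1) : g ∈ invC x := by
  refine ⟨?_, hg⟩
  obtain ⟨j, -, hj⟩ := (Nat.dvd_prime_pow Nat.prime_two).1 hk
  rcases j with _ | _ | j
  · exact absurd (orderOf_eq_one_iff.1 (by simpa using hj)) hg1
  · simpa using hj
  exfalso
  have h4 : orderOf (g ^ 2 ^ j) = 4 := by
    rw [orderOf_pow' _ (pow_ne_zero _ (by norm_num)), hj,
      Nat.gcd_eq_right (pow_dvd_pow 2 (by omega)), Nat.pow_div (by omega) (by norm_num),
      show j + 1 + 1 - j = 2 by omega]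
    all_goals norm_num
  refine h.no_order (g := x * g ^ 2 ^ j) (n := 3 * 4) (by decide) ?_
  rw [Commute.orderOf_mul_eq_mul_orderOf_of_coprime (Commute.pow_right hg _)
    (by rw [hx, h4]; decide), hx, h4]

theorem pow_sub_one_le_invC (h : Hyp G) {x : G} (hx : orderOf x = 3) {k : ℕ}
    (hd : 2 ^ k ∣ Nat.card (centralizer ({x} : Set G))) : 2 ^ k - 1 ≤ (invC x).ncard := by
  have : Fact (Nat.Prime 2) := ⟨Nat.prime_two⟩
  obtain ⟨H, hH⟩ := Sylow.exists_subgroup_card_pow_prime 2 hd
  rw [← hH, ← Nat.card_coe_set_eq]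
  have : Nat.card H - 1 = Nat.card {a : H // a ≠ 1} := by
    classical
    have := Fintype.ofFinite H
    simp [Nat.card_eq_fintype_card, Fintype.card_subtype_compl]
  rw [this]
  refine Nat.card_le_card_of_injective (fun a => ⟨((a.1 : centralizer ({x} : Set G)) : G), ?_⟩) ?_
  · refine invC_of_two_pow h hx (mem_centralizer_singleton_iff.1 a.1.1.2).symm (k := k) ?_ ?_
    · rw [Subgroup.orderOf_coe, Subgroup.orderOf_coe, ← hH]
      exact orderOf_dvd_natCard _
    · intro e
      exact a.2 (Subtype.ext (Subtype.ext e))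
  · intro a b e
    simp only [Subtype.mk.injEq, Subtype.coe_inj] at e
    exact e

theorem ncard_cl_three_le (h : Hyp G) {x : G} (hx : orderOf x = 3) : (cl x).ncard ≤ 12320 := by
  rw [← h.cnt_three, ← Nat.card_coe_set_eq]
  exact Nat.card_le_card_of_injective (fun t => ⟨t.1, (orderOf_mem_cl t.2).trans hx⟩)
    fun a b e => Subtype.ext (congrArg (fun z : {g : G // orderOf g = 3} => z.1) e)

theorem four_dvd_cent_three (h : Hyp G) {x : G} (hx : orderOf x = 3) :
    4 ∣ Nat.card (centralizer ({x} : Set G)) := by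
  have h1 := ncard_cl_mul x
  have h2 := ncard_cl_three_le h hx
  rw [h.card] at h1
  have hge : 36 ≤ Nat.card (centralizer ({x} : Set G)) := by
    by_contra hlt
    have := Nat.mul_le_mul h2 (show Nat.card (centralizer ({x} : Set G)) ≤ 35 by omega)
    omega
  have : ∀ m ∈ Nat.divisors 1152, 9 ∣ m → 36 ≤ m → 4 ∣ m := by decide +kernel
  exact this _ (Nat.mem_divisors.2 ⟨cent_three_dvd h hx, by norm_num⟩) (nine_dvd_cent_three h hx) hge

theorem ncard_invC (h : Hyp G) {x : G} (hx : orderOf x = 3) : (invC x).ncard = 3 := by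
  classical
  have := Fintype.ofFinite G
  have hge : ∀ y : {g : G // orderOf g = 3}, 3 ≤ (invC y.1).ncard := fun y =>
    pow_sub_one_le_invC h y.2 (k := 2) (four_dvd_cent_three h y.2)
  by_contra hne
  have hlt : 3 < (invC x).ncard := lt_of_le_of_ne (hge ⟨x, hx⟩) (Ne.symm hne)
  have hsum := Finset.sum_lt_sum (s := (Finset.univ : Finset {g : G // orderOf g = 3}))
    (f := fun _ => 3) (g := fun y => (invC y.1).ncard) (fun y _ => hge y) ⟨⟨x, hx⟩, Finset.mem_univ _, hlt⟩
  rw [← finsum_eq_sum_of_fintype (fun y : {g : G // orderOf g = 3} => (invC y.1).ncard),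
    sum_invC_eq h, Finset.sum_const, Finset.card_univ, ← Nat.card_eq_fintype_card, smul_eq_mul] at hsum
  rw [show Nat.card {g : G // orderOf g = 3} = 12320 from h.cnt_three] at hsum
  omega

theorem cent_three (h : Hyp G) {x : G} (hx : orderOf x = 3) :
    Nat.card (centralizer ({x} : Set G)) = 36 := by
  have h8 : ¬ 8 ∣ Nat.card (centralizer ({x} : Set G)) := fun h8 => by
    have := pow_sub_one_le_invC h hx (k := 3) h8
    rw [ncard_invC h hx] at this
    omega
  have : ∀ m ∈ Nat.divisors 1152, 9 ∣ m → 4 ∣ m → ¬ 8 ∣ m → m = 36 := by decide +kernel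
  exact this _ (Nat.mem_divisors.2 ⟨cent_three_dvd h hx, by norm_num⟩) (nine_dvd_cent_three h hx)
    (four_dvd_cent_three h hx) h8

theorem isConj_three (h : Hyp G) {x y : G} (hx : orderOf x = 3) (hy : orderOf y = 3) : IsConj x y := by
  have h1 := ncard_cl_mul x
  rw [h.card, cent_three h hx] at h1
  have e : cl x = {g : G | orderOf g = 3} := by
    refine Set.eq_of_subset_of_ncard_le (fun t ht => (orderOf_mem_cl ht).trans hx) ?_ (Set.toFinite _)
    rw [show {g : G | orderOf g = 3}.ncard = cnt G 3 from (Nat.card_coe_set_eq _).symm, h.cnt_three]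
    omega
  exact mem_cl.1 (e ▸ (show y ∈ {g : G | orderOf g = 3} from hy))

/-- The involutions commuting with `x` multiply inside. -/
theorem invC_mul (h : Hyp G) {x s t : G} (hx : orderOf x = 3) (hs : s ∈ invC x) (ht : t ∈ invC x)
    (hne : s ≠ t) : s * t ∈ invC x ∧ s * t = t * s := by
  have : Fact (Nat.Prime 2) := ⟨Nat.prime_two⟩
  obtain ⟨H, hH⟩ := Sylow.exists_subgroup_card_pow_prime (G := centralizer ({x} : Set G)) 2 (n := 2)
    (four_dvd_cent_three h hx)
  set V := H.map (centralizer ({x} : Set G)).subtype with hV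
  have hVc : Nat.card V = 4 := by rw [hV, card_map_of_injective (subtype_injective _), hH]; rfl
  have hVx : ∀ v ∈ V, x * v = v * x := by
    rintro _ ⟨a, -, rfl⟩
    exact (mem_centralizer_singleton_iff.1 a.2).symm
  have hsub : (V : Set G) \ {1} ⊆ invC x := fun v hv => invC_of_two_pow h hx (hVx v hv.1) (k := 2)
    (by rw [show (2 : ℕ) ^ 2 = Nat.card V from hVc.symm]; exact Subgroup.orderOf_dvd_natCard _ hv.1)
    hv.2
  have heq : (V : Set G) \ {1} = invC x := Set.eq_of_subset_of_ncard_le hsub (by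
    rw [ncard_invC h hx, Set.ncard_diff_singleton_of_mem V.one_mem, ← Nat.card_coe_set_eq]
    change 3 ≤ Nat.card V - 1
    rw [hVc]) (Set.toFinite _)
  have hsV : s ∈ V := by rw [← heq] at hs; exact hs.1
  have htV : t ∈ V := by rw [← heq] at ht; exact ht.1
  refine ⟨?_, congrArg Subtype.val
    (IsPGroup.commutative_of_card_eq_prime_sq (p := 2) hVc (⟨s, hsV⟩ : V) ⟨t, htV⟩)⟩
  rw [← heq]
  refine ⟨V.mul_mem hsV htV, fun e => hne ?_⟩
  rw [← CfsgLib.Invol.invol_inv (x := t) (by
    have := hsub (show t ∈ (V : Set G) \ {1} from by rw [heq]; exact ht)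
    exact this.1)]
  exact eq_inv_of_mul_eq_one_left e

end CfsgLib.ClassK.M22Nse
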