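import Cfsg.Agent.Lib.ClassK.M12Nse.Words

/-! Orders of the values of words in the stabiliser chain of M22. -/

set_option autoImplicit false
set_option maxRecDepth 100000

namespace CfsgLib.ClassK.M22Nse

open Cfsg CfsgLib.Golay
open CfsgLib.ClassK.M12Nse (wval app appIter wval_pt wval_pow_pt appIter_lt)
open scoped Pointwise

theorem faith_fix22 {σ : Equiv.Perm GolayPt} (hσ : σ ∈ fixMasks X22)
    (h : ∀ i, 1 ≤ i → i ≤ 5 → σ (pt i) = pt i) : σ = 1 := by
  have hc : chainOK [32, 16, 8, 4, 2, 1, 8388608] (chainM24Levels.drop 7) chainM24Fin = true := by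
    decide +kernel
  have h1 := card_fixMasks hc
  rw [show chainCard (chainM24Levels.drop 7) = 1 by decide +kernel] at h1
  have : σ ∈ fixMasks [32, 16, 8, 4, 2, 1, 8388608] := by
    rw [show ([32, 16, 8, 4, 2, 1, 8388608] : List ℕ) = Nat.shiftLeft 1 5 :: Nat.shiftLeft 1 4 ::
      Nat.shiftLeft 1 3 :: Nat.shiftLeft 1 2 :: Nat.shiftLeft 1 1 :: X22 from rfl]
    simp only [mem_fixMasks_bit (show (5 : ℕ) < 24 by norm_num),
      mem_fixMasks_bit (show (4 : ℕ) < 24 by norm_num), mem_fixMasks_bit (show (3 : ℕ) < 24 by norm_num),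
      mem_fixMasks_bit (show (2 : ℕ) < 24 by norm_num), mem_fixMasks_bit (show (1 : ℕ) < 24 by norm_num)]
    exact ⟨⟨⟨⟨⟨hσ, h 1 le_rfl (by norm_num)⟩, h 2 (by norm_num) (by norm_num)⟩,
      h 3 (by norm_num) (by norm_num)⟩, h 4 (by norm_num) (by norm_num)⟩, h 5 (by norm_num) le_rfl⟩
  rwa [Subgroup.card_eq_one.1 h1, Subgroup.mem_bot] at this

/-- The `k`-th power of the value fixes the points 1 to 5. -/
def powTriv (w : List ℕ) (k : ℕ) : Bool :=
  Nat.beq (appIter w k 1) 1 && Nat.beq (appIter w k 2) 2 && Nat.beq (appIter w k 3) 3 &&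
    Nat.beq (appIter w k 4) 4 && Nat.beq (appIter w k 5) 5

theorem powTriv_iff {w : List ℕ} (h : ∀ t ∈ w, valid t = true) (hw : wval w ∈ fixMasks X22)
    (k : ℕ) : powTriv w k = true ↔ wval w ^ k = 1 := by
  constructor
  · intro hk
    simp only [powTriv, Bool.and_eq_true] at hk
    obtain ⟨⟨⟨⟨h1, h2⟩, h3⟩, h4⟩, h5⟩ := hk
    refine faith_fix22 (Subgroup.pow_mem _ hw k) fun i hi hi' => ?_
    rw [wval_pow_pt h (by omega)]
    congr 1
    interval_cases i
    exacts [Nat.eq_of_beq_eq_true h1, Nat.eq_of_beq_eq_true h2,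
      Nat.eq_of_beq_eq_true h3, Nat.eq_of_beq_eq_true h4, Nat.eq_of_beq_eq_true h5]
  · intro hk
    have hb : ∀ i < 24, Nat.beq (appIter w k i) i = true := by
      intro i hi
      have e := wval_pow_pt h hi k
      rw [hk, Equiv.Perm.one_apply] at e
      have := congrArg idx e
      rw [idx_pt hi, idx_pt (appIter_lt h hi k)] at this
      rw [← this]; exact Nat.beq_refl i
    simp [powTriv, hb 5 (by norm_num), hb 1 (by norm_num), hb 2 (by norm_num),
      hb 3 (by norm_num), hb 4 (by norm_num)]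

/-- The first exponent killing the value (searching at most `f` steps from `k`; `0` if none). -/
def ordAux (w : List ℕ) : ℕ → ℕ → ℕ
  | 0, _ => 0
  | f + 1, k => bif powTriv w k then k else ordAux w f (k + 1)

/-- The order of the value, if it is at most 12. -/
def ordW (w : List ℕ) : ℕ := ordAux w 12 1

theorem ordAux_spec {w : List ℕ} : ∀ (f k : ℕ), ordAux w f k ≠ 0 →
    k ≤ ordAux w f k ∧ powTriv w (ordAux w f k) = true ∧
      ∀ m, k ≤ m → m < ordAux w f k → powTriv w m = false
  | 0, _, h => absurd rfl h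
  | f + 1, k, h => by
    simp only [ordAux] at h ⊢
    cases hk : powTriv w k with
    | true =>
      simp only [cond_true]
      exact ⟨le_rfl, hk, fun m h1 h2 => absurd h1 (by omega)⟩
    | false =>
      simp only [hk, cond_false] at h ⊢
      obtain ⟨h1, h2, h3⟩ := ordAux_spec f (k + 1) h
      refine ⟨by omega, h2, fun m hm hm' => ?_⟩
      rcases Nat.eq_or_lt_of_le hm with rfl | hlt
      · exact hk
      · exact h3 m hlt hm'

theorem orderOf_wval {w : List ℕ} (h : ∀ t ∈ w, valid t = true) (hw : wval w ∈ fixMasks X22)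
    (h0 : ordW w ≠ 0) : orderOf (wval w) = ordW w := by
  obtain ⟨h1, h2, h3⟩ := ordAux_spec (w := w) 12 1 h0
  rw [orderOf_eq_iff (by exact h1)]
  refine ⟨(powTriv_iff h hw _).1 h2, fun m hm hm0 he => ?_⟩
  have := h3 m hm0 hm
  rw [(powTriv_iff h hw m).2 he] at this
  exact absurd this (by simp)

/-- Counts of the orders along a list of words. -/
def hist (W : List (List ℕ)) (n : ℕ) : ℕ := W.countP fun w => Nat.beq (ordW w) n

end CfsgLib.ClassK.M22Nse
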